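import Cfsg.Agent.CoOneAmalgam.VecOrbits

/-!
# The two-point vectors of the contragredient representation of M24 of dimension eleven

`eVec p` has the values at `p` of a basis of the shortened code; `duad p q = eVec p + eVec q` is
equivariant for `repD24`.  An invariant set of 276 non-zero vectors forces that representation and
consists of the two-point vectors.
-/

set_option autoImplicit false
set_option maxRecDepth 100000
set_option linter.style.haveILetI false

namespace CfsgLib.JFourEleven.Cocode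

open Cfsg CfsgLib.Mathieu CfsgLib.M23Ext CfsgLib.M24Classes CfsgLib.MTwentyThreeUnique.Gl11
open CfsgLib.MTwentyFourUnique.Gl11 CfsgLib.CoOneAmalgam Matrix

/-- The values at a point. -/
def eVec (p : GolayPt) : V := fun j => wordOf (shortRows.getD j.val 0) p

/-- The vector of two points. -/
def duad (p q : GolayPt) : V := eVec p + eVec q

theorem vec_add_self (v : V) : v + v = 0 := funext fun _ => CharTwo.add_self_eq_zero _

theorem duad_comm (p q : GolayPt) : duad p q = duad q p := add_comm _ _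

theorem duad_self (p : GolayPt) : duad p p = 0 := vec_add_self _

theorem duad_add (p q r : GolayPt) : duad p q + duad q r = duad p r := by
  unfold duad
  rw [show eVec p + eVec q + (eVec q + eVec r) = eVec p + (eVec q + eVec q) + eVec r by abel,
    vec_add_self, add_zero]

/-- The code word with given coordinates, read at a point. -/
theorem cw_apply_eq (u : V) (p : GolayPt) : cw u p = ∑ i, u i * eVec p i := by
  have h : ∀ i : Fin 11, (row i.val : Word) = wordOf (shortRows.getD i.val 0) := fun i => by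
    show wordOf (shortMask (2 ^ i.val)) = _
    rw [shortMask_row i.val i.isLt]
  rw [cw_apply, Finset.sum_apply]
  exact Finset.sum_congr rfl fun i _ => by rw [Pi.smul_apply, smul_eq_mul, h]; rfl

theorem repD24_eVec (σ : M24) (p : GolayPt) :
    repD24 σ *ᵥ eVec p = eVec ((σ : Equiv.Perm GolayPt) p) +
      eVec ((σ : Equiv.Perm GolayPt) none) := by
  have hrep : repD24 σ = (repM24 σ⁻¹)ᵀ := rfl
  rw [hrep]
  funext j
  have hact : repM24 σ⁻¹ *ᵥ vecOf (2 ^ j.val) = act24 σ⁻¹ (vecOf (2 ^ j.val)) :=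
    LinearMap.toMatrix'_mulVec _ _
  rw [col_eq] at hact
  have hcol : ∀ i, (repM24 σ⁻¹) i j = act24 σ⁻¹ (vecOf (2 ^ j.val)) i := congrFun hact
  have hsum : ((repM24 σ⁻¹)ᵀ *ᵥ eVec p) j = cw (act24 σ⁻¹ (vecOf (2 ^ j.val))) p := by
    rw [cw_apply_eq]
    show ∑ i, (repM24 σ⁻¹)ᵀ j i * eVec p i = _
    exact Finset.sum_congr rfl fun i _ => by rw [Matrix.transpose_apply, hcol]
  rw [hsum, cw_act24, fixW_apply, cw_two_pow]
  show wordOf _ (((σ⁻¹ : M24) : Equiv.Perm GolayPt)⁻¹ p) +
    wordOf _ (((σ⁻¹ : M24) : Equiv.Perm GolayPt)⁻¹ none) = _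
  rw [InvMemClass.coe_inv, inv_inv]
  rfl

theorem repD24_duad (σ : M24) (p q : GolayPt) :
    repD24 σ *ᵥ duad p q = duad ((σ : Equiv.Perm GolayPt) p) ((σ : Equiv.Perm GolayPt) q) := by
  unfold duad
  rw [Matrix.mulVec_add, repD24_eVec, repD24_eVec,
    show ∀ a b c : V, a + c + (b + c) = a + b + (c + c) from fun a b c => by abel,
    vec_add_self, add_zero]

/-- The mask of a point. -/
def eMask (i : ℕ) : ℕ :=
  (List.range 11).foldr (fun j acc => (if (shortRows.getD j 0).testBit i then 2 ^ j else 0) ||| acc) 0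

theorem eMask_ok : ∀ i < 24, eMask i < 2048 ∧
    (allBelow 11 fun j => (eMask i).testBit j == (shortRows.getD j 0).testBit i) = true := by
  decide +kernel

theorem eVec_eq (p : GolayPt) : eVec p = vecOf (eMask (idx p)) := by
  funext j
  show (if (shortRows.getD j.val 0).testBit (idx p) then (1 : ZMod 2) else 0) = _
  rw [← beq_iff_eq.1 (allBelow_iff.1 (eMask_ok _ (idx_lt p)).2 j.val j.isLt)]
  rfl

/-- The mask of a pair. -/
def dMask (i j : ℕ) : ℕ := eMask i ^^^ eMask j

theorem dMask_lt {i j : ℕ} (hi : i < 24) (hj : j < 24) : dMask i j < 2048 :=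
  Nat.xor_lt_two_pow (n := 11) (eMask_ok i hi).1 (eMask_ok j hj).1

theorem duad_eq (p q : GolayPt) : duad p q = vecOf (dMask (idx p) (idx q)) := by
  rw [duad, eVec_eq, eVec_eq, dMask, vecOf_xor]

/-- Distinct pairs give distinct non-zero vectors; two disjoint pairs never sum to one. -/
def pairsOK : Bool :=
  let d := (List.range 24).foldr (fun i acc => (List.range i).foldr
    (fun j acc => 2 ^ dMask i j ||| acc) acc) 0
  (((List.range 2048).filter fun y => d.testBit y).length == 276) &&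
    allBelow 24 (fun i => allBelow i fun j => !(dMask i j == 0) && d.testBit (dMask i j) &&
      allBelow 24 fun k => allBelow k fun l => k == i || k == j || l == i || l == j ||
        (!(dMask i j ^^^ dMask k l == 0) && !d.testBit (dMask i j ^^^ dMask k l))) &&
    ((List.range 2048).all fun y => d.testBit y == (cls [cocodeA, cocodeB, cocodeD] 1).testBit y)

theorem pairsOK_holds : pairsOK = true := by decide +kernel

/-- The set of the two-point masks, as a bit set. -/
def dSet : ℕ :=
  (List.range 24).foldr (fun i acc => (List.range i).foldr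
    (fun j acc => 2 ^ dMask i j ||| acc) acc) 0

theorem testBit_foldr {α : Type*} (f : α → ℕ) (y : ℕ) : ∀ (l : List α) (init : ℕ),
    (l.foldr (fun a acc => 2 ^ f a ||| acc) init).testBit y = true ↔
      init.testBit y = true ∨ ∃ a ∈ l, f a = y
  | [], init => by simp
  | a :: l, init => by
    rw [List.foldr_cons, Nat.testBit_or, Bool.or_eq_true, testBit_foldr f y l init,
      Nat.testBit_two_pow, decide_eq_true_eq]
    simp only [List.mem_cons, exists_eq_or_imp]
    tauto

theorem testBit_dSet {y : ℕ} : dSet.testBit y = true ↔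
    ∃ i < 24, ∃ j < i, dMask i j = y := by
  have h : ∀ (l : List ℕ) (init : ℕ),
      (l.foldr (fun i acc => (List.range i).foldr (fun j acc => 2 ^ dMask i j ||| acc) acc)
        init).testBit y = true ↔ init.testBit y = true ∨ ∃ i ∈ l, ∃ j < i, dMask i j = y := by
    intro l
    induction l with
    | nil => simp
    | cons a l ih =>
      intro init
      rw [List.foldr_cons, testBit_foldr (dMask a), ih]
      simp only [List.mem_range, List.mem_cons, exists_eq_or_imp]
      constructor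
      · rintro ((h | h) | h)
        exacts [Or.inl h, Or.inr (Or.inr h), Or.inr (Or.inl h)]
      · rintro (h | h | h)
        exacts [Or.inl (Or.inl h), Or.inr h, Or.inl (Or.inr h)]
  rw [dSet, h]
  simp

theorem pairs_spec :
    (((List.range 2048).filter fun y => dSet.testBit y).length = 276) ∧
    (∀ i < 24, ∀ j < i, dMask i j ≠ 0 ∧ ∀ k < 24, ∀ l < k,
      k = i ∨ k = j ∨ l = i ∨ l = j ∨ (dMask i j ^^^ dMask k l ≠ 0 ∧
        ¬ dSet.testBit (dMask i j ^^^ dMask k l) = true)) ∧
    ∀ y < 2048, dSet.testBit y = (cls [cocodeA, cocodeB, cocodeD] 1).testBit y := by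
  have h := pairsOK_holds
  simp only [pairsOK, Bool.and_eq_true, allBelow_iff, beq_iff_eq, List.all_eq_true, List.mem_range,
    Bool.not_eq_true', beq_eq_false_iff_ne, Bool.or_eq_true] at h
  obtain ⟨⟨h1, h2⟩, h3⟩ := h
  refine ⟨h1, fun i hi j hj => ⟨(h2 i hi j hj).1.1, fun k hk l hl => ?_⟩, h3⟩
  rcases (h2 i hi j hj).2 k hk l hl with (((e | e) | e) | e) | ⟨e1, e2⟩
  exacts [Or.inl e, Or.inr (Or.inl e), Or.inr (Or.inr (Or.inl e)),
    Or.inr (Or.inr (Or.inr (Or.inl e))),
    Or.inr (Or.inr (Or.inr (Or.inr ⟨e1, (Bool.eq_false_iff.1 e2 : _)⟩)))]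

theorem exists_ordered {p q : GolayPt} (h : p ≠ q) :
    ∃ i < 24, ∃ j < i, duad p q = vecOf (dMask i j) ∧
      ((idx p = i ∧ idx q = j) ∨ (idx p = j ∧ idx q = i)) := by
  rcases Nat.lt_or_gt_of_ne (fun e => h (idx_injective e) : idx p ≠ idx q) with hlt | hlt
  · exact ⟨idx q, idx_lt q, idx p, hlt, (duad_comm p q).trans (duad_eq q p),
      Or.inr ⟨rfl, rfl⟩⟩
  · exact ⟨idx p, idx_lt p, idx q, hlt, duad_eq p q, Or.inl ⟨rfl, rfl⟩⟩

theorem duad_ne_zero {p q : GolayPt} (h : p ≠ q) : duad p q ≠ 0 := by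
  obtain ⟨i, hi, j, hj, e, -⟩ := exists_ordered h
  rw [e, ← vecOf_zero]
  exact fun e' => (pairs_spec.2.1 i hi j hj).1
    (eq_of_vecOf_eq (dMask_lt hi (hj.trans hi)) (by norm_num) e')

theorem duad_eq_zero_iff {p q : GolayPt} : duad p q = 0 ↔ p = q :=
  ⟨fun h => by_contra fun hne => duad_ne_zero hne h, fun h => h ▸ duad_self p⟩

/-- Two disjoint pairs do not sum to a pair or zero. -/
theorem duad_add_ne {p q r s : GolayPt} (hpq : p ≠ q) (hrs : r ≠ s) (h1 : r ≠ p) (h2 : r ≠ q)
    (h3 : s ≠ p) (h4 : s ≠ q) (x y : GolayPt) : duad p q + duad r s ≠ duad x y := by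
  obtain ⟨i, hi, j, hj, e, hij⟩ := exists_ordered hpq
  obtain ⟨k, hk, l, hl, e', hkl⟩ := exists_ordered hrs
  rw [e, e', ← vecOf_xor]
  intro he
  have hne : k ≠ i ∧ k ≠ j ∧ l ≠ i ∧ l ≠ j := by
    rcases hij with ⟨rfl, rfl⟩ | ⟨rfl, rfl⟩ <;> rcases hkl with ⟨rfl, rfl⟩ | ⟨rfl, rfl⟩ <;>
      simp [idx_injective.eq_iff, h1, h2, h3, h4]
  have hlt := Nat.xor_lt_two_pow (n := 11) (dMask_lt hi (hj.trans hi)) (dMask_lt hk (hl.trans hk))
  rcases (pairs_spec.2.1 i hi j hj).2 k hk l hl with c | c | c | c | ⟨hz, hd⟩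
  exacts [hne.1 c, hne.2.1 c, hne.2.2.1 c, hne.2.2.2 c, by
    by_cases hxy : x = y
    · subst hxy
      rw [duad_self, ← vecOf_zero] at he
      exact hz (eq_of_vecOf_eq hlt (by norm_num) he)
    · obtain ⟨a, ha, b, hb, e'', -⟩ := exists_ordered hxy
      rw [e''] at he
      exact hd (testBit_dSet.2 ⟨a, ha, b, hb,
        (eq_of_vecOf_eq hlt (dMask_lt ha (hb.trans ha)) he).symm⟩)]

theorem duad_eq_iff {p q r s : GolayPt} (h : p ≠ q) :
    duad r s = duad p q ↔ (r = p ∧ s = q) ∨ (r = q ∧ s = p) := by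
  refine ⟨fun e => ?_, ?_⟩
  · by_contra hne
    have hrs : r ≠ s := fun e' => duad_ne_zero h (by rw [← e, e', duad_self])
    by_cases h1 : r = p
    · subst h1
      have : duad q s = 0 := by
        rw [← duad_add q r s, duad_comm q r, e, vec_add_self]
      exact hne (Or.inl ⟨rfl, (duad_eq_zero_iff.1 this).symm⟩)
    by_cases h2 : r = q
    · subst h2
      have : duad p s = 0 := by rw [← duad_add p r s, e, vec_add_self]
      exact hne (Or.inr ⟨rfl, (duad_eq_zero_iff.1 this).symm⟩)
    by_cases h3 : s = p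
    · subst h3
      have : duad r q = 0 := by rw [← duad_add r s q, e, vec_add_self]
      exact h2 (duad_eq_zero_iff.1 this)
    by_cases h4 : s = q
    · subst h4
      have : duad r p = 0 := by
        rw [← duad_add r s p, duad_comm s p, e, vec_add_self]
      exact h1 (duad_eq_zero_iff.1 this)
    exact duad_add_ne h hrs h1 h2 h3 h4 p p (by rw [e, vec_add_self, duad_self])
  · rintro (⟨rfl, rfl⟩ | ⟨rfl, rfl⟩)
    exacts [rfl, duad_comm _ _]

/-- An invariant set with a count different from that of the second class is the first class. -/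
theorem class_of_invariant {gens : List (List ℕ)} {r1 r2 n1 n2 : ℕ}
    (hok : clsOK gens r1 r2 n1 n2 = true) {n : ℕ} (hn0 : n ≠ 0) (hn2 : n2 ≠ n) (hall : n ≠ 2047)
    (S : Set V) (hS : Nat.card S = n) (h0 : (0 : V) ∉ S)
    (hinv : ∀ c ∈ gens, ∀ v, v ∈ S ↔ toMat c *ᵥ v ∈ S) :
    n1 = n ∧ ∀ y < 2048, (vecOf y ∈ S ↔ (cls gens r1).testBit y = true) := by
  classical
  simp only [clsOK, Bool.and_eq_true, List.all_eq_true, Bool.or_eq_true, beq_iff_eq,
    List.mem_range] at hok
  obtain ⟨⟨⟨hlen, hn1⟩, hn2'⟩, hcov⟩ := hok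
  let P : ℕ → Prop := fun y => vecOf y ∈ S
  have hstep : ∀ c ∈ gens, ∀ x, P x ↔ P (xorSel c x) := fun c hc x => by
    show vecOf x ∈ S ↔ vecOf (xorSel c x) ∈ S
    rw [← toMat_mulVec c (hlen c hc), ← hinv c hc]
  have hin : ∀ r, P r → ∀ y, (cls gens r).testBit y = true → P y := fun r hr =>
    cls_spec (P := P) (fun c hc x hx => (hstep c hc x).1 hx) hr
  have hout : ∀ r, ¬ P r → ∀ y, (cls gens r).testBit y = true → ¬ P y := fun r hr =>
    cls_spec (P := fun y => ¬ P y) (fun c hc x hx h => hx ((hstep c hc x).2 h)) hr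
  have hz : ¬ P 0 := by show vecOf 0 ∉ S; rw [vecOf_zero]; exact h0
  have hcard : ((List.range 2048).filter fun y => decide (P y)).length = n := by
    rw [← List.toFinset_card_of_nodup (List.nodup_range.filter _), ← Nat.card_eq_finsetCard, ← hS]
    refine Nat.card_congr (Equiv.ofBijective (fun y => (⟨vecOf y.1, by
      have := y.2; simp only [List.mem_toFinset, List.mem_filter, decide_eq_true_eq] at this
      exact this.2⟩ : S)) ⟨fun y y' h => ?_, fun v => ?_⟩)
    · have hy := y.2
      have hy' := y'.2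
      simp only [List.mem_toFinset, List.mem_filter, List.mem_range] at hy hy'
      exact Subtype.ext (eq_of_vecOf_eq hy.1 hy'.1 (congrArg Subtype.val h))
    · obtain ⟨m, hm, e⟩ := exists_vecOf v.1
      refine ⟨⟨m, ?_⟩, Subtype.ext e.symm⟩
      simp only [List.mem_toFinset, List.mem_filter, List.mem_range, decide_eq_true_eq]
      exact ⟨hm, show vecOf m ∈ S by rw [← e]; exact v.2⟩
  by_cases h1 : P r1 <;> by_cases h2 : P r2
  · exfalso
    have : ((List.range 2048).filter fun y => decide (P y)) =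
        (List.range 2048).filter fun y => !(y == 0) := by
      refine List.filter_congr fun y hy => ?_
      by_cases hy0 : y = 0
      · simp [hy0, hz]
      · have : P y := ((hcov y (List.mem_range.1 hy)).elim
          (fun h => h.elim (absurd · hy0) (hin r1 h1 y)) (hin r2 h2 y))
        simp [this, hy0]
    rw [this, (by decide +kernel :
      ((List.range 2048).filter fun y => !(y == 0)).length = 2047)] at hcard
    exact hall hcard.symm
  · have hiff : ∀ y < 2048, (P y ↔ (cls gens r1).testBit y = true) := fun y hy => by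
      rcases hcov y hy with (h | h) | h
      · subst h
        exact iff_of_false hz fun h => hz (hin r1 h1 0 h)
      · exact iff_of_true (hin r1 h1 y h) h
      · exact iff_of_false (hout r2 h2 y h) fun h' => hout r2 h2 y h (hin r1 h1 y h')
    refine ⟨?_, hiff⟩
    rw [← hn1, ← hcard]
    refine congrArg List.length (List.filter_congr fun y hy => ?_)
    by_cases hy' : P y
    · simp [hy', (hiff y (List.mem_range.1 hy)).1 hy']
    · simp [hy', Bool.eq_false_iff.2 fun h => hy' ((hiff y (List.mem_range.1 hy)).2 h)]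
  · exfalso
    refine hn2 ?_
    rw [← hn2', ← hcard]
    refine congrArg List.length (List.filter_congr fun y hy => ?_)
    rcases hcov y (List.mem_range.1 hy) with (h | h) | h
    · subst h
      have : ¬ (cls gens r2).testBit 0 = true := fun h => hz (hin r2 h2 0 h)
      simp [hz, Bool.eq_false_iff.2 this]
    · have h' := hout r1 h1 y h
      have : ¬ (cls gens r2).testBit y = true := fun h => h' (hin r2 h2 y h)
      simp [h', Bool.eq_false_iff.2 this]
    · simp [h, hin r2 h2 y h]
  · exfalso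
    have : ((List.range 2048).filter fun y => decide (P y)) = [] := by
      refine List.filter_eq_nil_iff.2 fun y hy => ?_
      rcases hcov y (List.mem_range.1 hy) with (h | h) | h
      · subst h; simp [hz]
      · simp [hout r1 h1 y h]
      · simp [hout r2 h2 y h]
    rw [this] at hcard
    exact hn0 hcard.symm

theorem gens_code : ∀ c ∈ [codeA, codeB, codeD], ∃ σ : M24, repM24 σ = toMat c := by
  obtain ⟨m1, m2, m3⟩ := code24_mats
  obtain ⟨tA', -, tB', tD'⟩ := tabs24_ok
  intro c hc
  simp only [List.mem_cons, List.not_mem_nil, or_false] at hc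
  rcases hc with rfl | rfl | rfl
  · obtain ⟨s, hs, r⟩ := inGroup_of_isM24Tab tA'
    exact ⟨⟨s, hs⟩, repM24_eq r m1⟩
  · obtain ⟨s, hs, r⟩ := inGroup_of_isM24Tab tB'
    exact ⟨⟨s, hs⟩, repM24_eq r m2⟩
  · obtain ⟨s, hs, r⟩ := inGroup_of_isM24Tab tD'
    exact ⟨⟨s, hs⟩, repM24_eq r m3⟩

theorem gens_cocode : ∀ c ∈ [cocodeA, cocodeB, cocodeD], ∃ σ : M24, repD24 σ = toMat c := by
  obtain ⟨m1, d1, m2, d2, m3, d3⟩ := cocode24_mats
  obtain ⟨-, tAI', tB', tD'⟩ := tabs24_ok
  intro c hc
  simp only [List.mem_cons, List.not_mem_nil, or_false] at hc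
  rcases hc with rfl | rfl | rfl
  · obtain ⟨s, hs, r⟩ := inGroup_of_isM24Tab tAI'
    exact ⟨⟨s, hs⟩, repD24_eq (repM24_eq r m1) d1⟩
  · obtain ⟨s, hs, r⟩ := inGroup_of_isM24Tab tB'
    exact ⟨⟨s, hs⟩, repD24_eq (repM24_eq r m2) d2⟩
  · obtain ⟨s, hs, r⟩ := inGroup_of_isM24Tab tD'
    exact ⟨⟨s, hs⟩, repD24_eq (repM24_eq r m3) d3⟩

theorem iff_of_invariant {φ : M24 →* MTwentyThreeUnique.Gl11.M} {S : Set V}
    (hinv : ∀ σ : M24, ∀ v, v ∈ S → φ σ *ᵥ v ∈ S) (σ : M24) (v : V) :
    v ∈ S ↔ φ σ *ᵥ v ∈ S := by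
  refine ⟨hinv σ v, fun h => ?_⟩
  have := hinv σ⁻¹ _ h
  rwa [Matrix.mulVec_mulVec, ← map_mul, inv_mul_cancel, map_one, Matrix.one_mulVec] at this

/-- The representation on the code has no invariant set of 276 non-zero vectors. -/
theorem not_code {S : Set V} (hS : Nat.card S = 276) (h0 : (0 : V) ∉ S)
    (hinv : ∀ σ : M24, ∀ v, v ∈ S → repM24 σ *ᵥ v ∈ S) : False := by
  refine absurd (class_of_invariant clsCode_ok (n := 276) (by norm_num) (by norm_num) (by norm_num)
    S hS h0 fun c hc v => ?_).1 (by norm_num)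
  obtain ⟨σ, hσ⟩ := gens_code c hc
  rw [← hσ]
  exact iff_of_invariant hinv σ v

/-- An invariant set of 276 non-zero vectors consists of the two-point vectors. -/
theorem eq_duads {S : Set V} (hS : Nat.card S = 276) (h0 : (0 : V) ∉ S)
    (hinv : ∀ σ : M24, ∀ v, v ∈ S → repD24 σ *ᵥ v ∈ S) (v : V) :
    v ∈ S ↔ ∃ p q : GolayPt, p ≠ q ∧ duad p q = v := by
  have h := (class_of_invariant clsCocode_ok (n := 276) (by norm_num) (by norm_num) (by norm_num)
    S hS h0 fun c hc w => ?_).2
  · obtain ⟨y, hy, rfl⟩ := exists_vecOf v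
    rw [h y hy, ← pairs_spec.2.2 y hy, testBit_dSet]
    constructor
    · rintro ⟨i, hi, j, hj, rfl⟩
      refine ⟨pt i, pt j, fun e => hj.ne' ?_, ?_⟩
      · have := congrArg idx e
        rwa [idx_pt hi, idx_pt (hj.trans hi)] at this
      · rw [duad_eq, idx_pt hi, idx_pt (hj.trans hi)]
    · rintro ⟨p, q, hpq, e⟩
      obtain ⟨i, hi, j, hj, e', -⟩ := exists_ordered hpq
      exact ⟨i, hi, j, hj, eq_of_vecOf_eq (dMask_lt hi (hj.trans hi)) hy (e'.symm.trans e)⟩
  · obtain ⟨σ, hσ⟩ := gens_cocode c hc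
    rw [← hσ]
    exact iff_of_invariant hinv σ w

/-- The elements of M24 needed by the recognition. -/
theorem exists_frame : ∃ a b d : M24, orderOf a = 23 ∧ orderOf b = 11 ∧ d ^ 10 = 1 ∧
    b * a * b⁻¹ = a ^ 2 ∧ d * b * d⁻¹ = b ^ 2 := by
  obtain ⟨tA', -, tB', tD'⟩ := tabs24_ok
  obtain ⟨a, ha, ra⟩ := inGroup_of_isM24Tab tA'
  obtain ⟨b, hb, rb⟩ := inGroup_of_isM24Tab tB'
  obtain ⟨d, hd, rd⟩ := inGroup_of_isM24Tab tD'
  have itr : ∀ {σ : Equiv.Perm GolayPt} {t : ℕ}, Rep enc σ t → ∀ (k : ℕ) (p : GolayPt),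
      idx ((σ ^ k) p) = (app t)^[k] (idx p) := by
    intro σ t r k
    induction k with
    | zero => simp
    | succ k ih =>
      intro p
      rw [pow_succ', Equiv.Perm.mul_apply, Function.iterate_succ_apply', ← ih]
      exact (r _).symm
  have hchk : (allBelow 24 fun i => (app tA)^[23] i == i && (app tB)^[11] i == i &&
      (app tD)^[10] i == i && app tB (app tA i) == app tA (app tA (app tB i)) &&
      app tD (app tB i) == app tB (app tB (app tD i))) = true ∧
      app tA 0 ≠ 0 ∧ (allBelow 24 fun i => app tB i == i) = false := by decide +kernel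
  simp only [allBelow_iff, Bool.and_eq_true, beq_iff_eq] at hchk
  obtain ⟨hall, hA1, hB1⟩ := hchk
  have rel : ∀ {σ τ : Equiv.Perm GolayPt} {s t : ℕ}, Rep enc σ s → Rep enc τ t →
      (∀ i < 24, app t (app s i) = app s (app s (app t i))) → τ * σ * τ⁻¹ = σ ^ 2 := by
    intro σ τ s t rs rt h
    rw [mul_inv_eq_iff_eq_mul]
    refine Equiv.ext fun p => idx_injective ?_
    rw [Equiv.Perm.mul_apply, Equiv.Perm.mul_apply, pow_two, Equiv.Perm.mul_apply]
    have e1 : idx (τ (σ p)) = app t (app s (idx p)) := by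
      rw [show idx (τ (σ p)) = app t (idx (σ p)) from (rt _).symm]
      exact congrArg (app t) (rs p).symm
    have e2 : idx (σ (σ (τ p))) = app s (app s (app t (idx p))) := by
      rw [show idx (σ (σ (τ p))) = app s (idx (σ (τ p))) from (rs _).symm,
        show idx (σ (τ p)) = app s (idx (τ p)) from (rs _).symm,
        show idx (τ p) = app t (idx p) from (rt _).symm]
    rw [e1, e2]
    exact h _ (idx_lt p)
  have powOne : ∀ {σ : Equiv.Perm GolayPt} {t k : ℕ}, Rep enc σ t →
      (∀ i < 24, (app t)^[k] i = i) → σ ^ k = 1 := fun r h =>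
    Equiv.ext fun p => idx_injective ((itr r _ p).trans (h _ (idx_lt p)))
  haveI : Fact (Nat.Prime 23) := ⟨by norm_num⟩
  haveI : Fact (Nat.Prime 11) := ⟨by norm_num⟩
  refine ⟨⟨a, ha⟩, ⟨b, hb⟩, ⟨d, hd⟩, orderOf_eq_prime
    (Subtype.ext (powOne ra fun i hi => (hall i hi).1.1.1.1)) fun e => hA1 ?_,
    orderOf_eq_prime (Subtype.ext (powOne rb fun i hi => (hall i hi).1.1.1.2)) fun e => ?_,
    Subtype.ext (powOne rd fun i hi => (hall i hi).1.1.2),
    Subtype.ext (rel ra rb fun i hi => (hall i hi).1.2),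
    Subtype.ext (rel rb rd fun i hi => (hall i hi).2)⟩
  · have h := itr ra 1 (pt 0)
    rw [pow_one, show a = 1 from congrArg Subtype.val e, idx_pt (by norm_num)] at h
    simpa [idx_pt] using h.symm
  · rw [← Bool.not_eq_true] at hB1
    refine hB1 (allBelow_iff.2 fun i hi => beq_iff_eq.2 ?_)
    have h := itr rb 1 (pt i)
    rw [pow_one, show b = 1 from congrArg Subtype.val e, Equiv.Perm.one_apply, idx_pt hi] at h
    simpa using h.symm

end CfsgLib.JFourEleven.Cocode
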