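import Cfsg.Agent.JFourEleven.Model
import Cfsg.Agent.M24Classes.Classes

/-!
# Every involution of the quotient has an involution above it

A subgroup of order 64 of M24 consisting of involutions contains both classes of involutions,
by counting its orbits on the 24 points.
-/

set_option autoImplicit false
set_option linter.unusedSectionVars false

namespace CfsgLib.JFourEleven

open Cfsg CfsgLib.LargeFischerJ CfsgLib.Mathieu

theorem fixCount_oct : M24Classes.fixCount M24Classes.inv2Oct = 8 := by
  rw [M24Classes.fixCount, TwoBlockMathieu.fix_card M24Classes.inv2Oct_rep]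
  decide +kernel

theorem fixCount_free : M24Classes.fixCount M24Classes.inv2Free = 0 := by
  rw [M24Classes.fixCount, TwoBlockMathieu.fix_card M24Classes.inv2Free_rep]
  decide +kernel

/-- A subgroup of order 64 consisting of involutions meets every class of involutions. -/
theorem exists_conj_mem {U : Subgroup Cfsg.M24} (hc : Nat.card U = 64)
    (h2 : ∀ u ∈ U, u * u = 1) {σ : Cfsg.M24} (hσ : orderOf σ = 2) :
    ∃ u ∈ U, ∃ h : Cfsg.M24, h * u * h⁻¹ = σ := by
  classical
  haveI : Fact (Nat.Prime 2) := ⟨Nat.prime_two⟩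
  let g : Bool → Equiv.Perm GolayPt := fun b => bif b then M24Classes.inv2Oct else M24Classes.inv2Free
  have hclass : ∀ τ : Cfsg.M24, orderOf τ = 2 → ∃ b, ∃ h ∈ Cfsg.M24, h * g b * h⁻¹ = τ.1 := fun τ h => by
    rcases M24Classes.involution_classes τ.2 (by rw [Subgroup.orderOf_coe]; exact h) with e | e
    exacts [⟨false, e⟩, ⟨true, e⟩]
  obtain ⟨b, h0, hh0, e0⟩ := hclass σ hσ
  by_contra hno
  push Not at hno
  have hoth : ∀ u ∈ U, u ≠ 1 → M24Classes.fixCount u.1 = bif b then 0 else 8 := by
    intro u hu h1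
    obtain ⟨c, h, hh, e⟩ := hclass u (orderOf_eq_prime (by rw [pow_two, h2 u hu]) h1)
    by_cases hcb : c = b
    · subst hcb
      refine absurd (Subtype.ext ?_) (hno u hu ⟨h0 * h⁻¹, mul_mem hh0 (inv_mem hh)⟩)
      show h0 * h⁻¹ * u.1 * (h0 * h⁻¹)⁻¹ = σ.1
      rw [← e, ← e0]
      group
    · rw [← e, M24Classes.fixCount_conj]
      cases b <;> cases c <;> simp_all [g, fixCount_oct, fixCount_free]
  have hsum := MulAction.sum_card_fixedBy_eq_card_orbits_mul_card_group U GolayPt
  have hfix : ∀ u : U, Fintype.card (MulAction.fixedBy GolayPt u) = M24Classes.fixCount u.1.1 := fun u => by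
    rw [M24Classes.fixCount, Fintype.card_subtype]
    rfl
  simp only [hfix] at hsum
  rw [← Finset.add_sum_erase _ _ (Finset.mem_univ (1 : U)), Finset.sum_congr rfl
    (fun u hu => hoth u.1 u.2 (fun e => Finset.ne_of_mem_erase hu (Subtype.ext e))),
    Finset.sum_const, Finset.card_erase_of_mem (Finset.mem_univ _), Finset.card_univ,
    ← Nat.card_eq_fintype_card (α := U), hc] at hsum
  have h24 : M24Classes.fixCount (((1 : U) : Cfsg.M24) : Equiv.Perm GolayPt) = 24 := by
    simp [M24Classes.fixCount, M24Classes.card_golayPt]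
  rw [h24, smul_eq_mul] at hsum
  cases b <;> simp at hsum <;> omega

namespace Model

variable {G : Type*} [Group G] [Finite G] {z : G} {A : Subgroup G} (K : Model z A)

/-- An involution of the quotient is the image of an involution, given a suitable subgroup. -/
theorem exists_involution {U : Subgroup (Subgroup.normalizer (A : Set G))}
    (hU : ∀ u ∈ U, (u : G) ∈ A → u = 1) (hc : Nat.card U = 64) (h2 : ∀ u ∈ U, u * u = 1)
    {σ : Cfsg.M24} (hσ : orderOf σ = 2) : ∃ m, K.τ m = σ ∧ m * m = 1 := by
  have hinj : Function.Injective (K.τ.comp U.subtype) := by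
    rw [injective_iff_map_eq_one]
    exact fun u hu => Subtype.ext (hU u.1 u.2 (K.mem_ker.1 hu))
  obtain ⟨_, ⟨u, hu, rfl⟩, h, e⟩ := exists_conj_mem (U := U.map K.τ)
    (by
      rw [show U.map K.τ = (K.τ.comp U.subtype).range by rw [MonoidHom.range_comp, Subgroup.range_subtype],
        ← hc]
      exact (Nat.card_congr (MonoidHom.ofInjective hinj).toEquiv).symm)
    (by rintro _ ⟨u, hu, rfl⟩; rw [← map_mul, h2 u hu, map_one]) hσ
  obtain ⟨g, rfl⟩ := K.surj h
  refine ⟨g * u * g⁻¹, by rw [← e, map_mul, map_mul, map_inv], ?_⟩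
  rw [show g * u * g⁻¹ * (g * u * g⁻¹) = g * (u * u) * g⁻¹ by group, h2 u hu, mul_one,
    mul_inv_cancel]

end Model

end CfsgLib.JFourEleven
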