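import Cfsg.Agent.JFourEleven.Frame
import Cfsg.Agent.JFourEleven.Involutions
import Cfsg.Agent.Solvable.Gaschutz

/-!
# The normaliser of the elementary abelian subgroup is a split extension

A Sylow 2-subgroup of the normaliser, inside the centraliser of the involution, has a complement
to the elementary abelian subgroup; Gaschütz's theorem spreads it to the normaliser.
-/

set_option autoImplicit false
set_option linter.style.haveILetI false
set_option linter.unusedSectionVars false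

namespace CfsgLib.JFourEleven

open Cfsg CfsgLib.JFourType CfsgLib.LargeFischerJ

variable {G : Type*} [Group G] [Finite G]

/-- A subgroup of order `2 ^ 10` meeting a normal elementary abelian subgroup trivially at the top
of a Sylow subgroup gives a complement. -/
theorem exists_complement {N : Type*} [Group N] [Finite N] (A S : Subgroup N) [hA : A.Normal]
    (comm : ∀ a ∈ A, ∀ b ∈ A, a * b = b * a) (hS : S ⊓ A = ⊥) {m : ℕ}
    (hA2 : Nat.card A = 2 ^ 11) (hS2 : Nat.card S = 2 ^ 10) (hN : Nat.card N = m * 2 ^ 21)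
    (hm : Odd m) : ∃ K : Subgroup N, Subgroup.IsComplement' A K := by
  haveI : IsMulCommutative A := ⟨⟨fun a b => Subtype.ext (comm a a.2 b b.2)⟩⟩
  let f : A × S → (A ⊔ S : Subgroup N) := fun p =>
    ⟨p.1.1 * p.2.1, mul_mem (Subgroup.mem_sup_left p.1.2) (Subgroup.mem_sup_right p.2.2)⟩
  have hf : Function.Bijective f := by
    constructor
    · rintro ⟨a, s⟩ ⟨a', s'⟩ h
      have h' : a.1 * s.1 = a'.1 * s'.1 := congrArg Subtype.val h
      have e : a'.1⁻¹ * a.1 = s'.1 * s.1⁻¹ := by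
        rw [inv_mul_eq_iff_eq_mul, ← mul_assoc, ← h', mul_inv_cancel_right]
      have h1 : s'.1 * s.1⁻¹ ∈ S ⊓ A := Subgroup.mem_inf.2
        ⟨mul_mem s'.2 (inv_mem s.2), e ▸ mul_mem (inv_mem a'.2) a.2⟩
      rw [hS, Subgroup.mem_bot, mul_inv_eq_one] at h1
      rw [h1, mul_left_inj] at h'
      exact Prod.ext (Subtype.ext h') (Subtype.ext h1.symm)
    · rintro ⟨x, hx⟩
      obtain ⟨a, ha, s, hs, rfl⟩ := Subgroup.mem_sup_of_normal_left.1 hx
      exact ⟨⟨⟨a, ha⟩, ⟨s, hs⟩⟩, rfl⟩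
  have hU : Nat.card (A ⊔ S : Subgroup N) = 2 ^ 21 := by
    rw [← Nat.card_eq_of_bijective f hf, Nat.card_prod, hA2, hS2]
    norm_num
  have hidx : (A ⊔ S).index = m := by
    have := Subgroup.card_mul_index (A ⊔ S)
    rw [hU, hN, mul_comm] at this
    exact Nat.eq_of_mul_eq_mul_right (by norm_num) this
  refine Solvable.exists_complement_of_gaschutz (K := A) (U := A ⊔ S) le_sup_left ?_ hS rfl
  rw [hA2, hidx]
  exact Nat.Coprime.pow_left 11 ((Nat.coprime_two_left).2 hm)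

namespace Setting

variable {z : G} (L : Setting z)
include L

theorem E_le_normalizer : L.E ≤ Subgroup.normalizer (L.A : Set G) := by
  rintro _ ⟨e, he, rfl⟩
  exact L.mem_normalizer_iff.2
    (Subgroup.mem_normalizer_fintype fun r hr => L.D.conj_R_E he hr)

/-- A subgroup of order `2 ^ 10` of the normaliser meeting `A` trivially. -/
theorem exists_sylow_complement [IsSimpleGroup G] (hG : ¬ IsMulCommutative G) :
    ∃ S : Subgroup G, S ≤ Subgroup.normalizer (L.A : Set G) ∧ S ⊓ L.A = ⊥ ∧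
      Nat.card S = 2 ^ 10 := by
  obtain ⟨O⟩ := nonempty_outer
  obtain ⟨K⟩ := nonempty_model (L.layer hG)
  obtain ⟨U, hUE, hU2, hUc, hUR, hUnorm⟩ := L.D.exists_core O
  set N := Subgroup.normalizer (L.A : Set G) with hN
  have comm : ∀ a ∈ L.A, ∀ b ∈ L.A, a * b = b * a := fun a ha b hb =>
    (L.layer hG).comm ha hb
  -- the involutions above those of the quotient
  have hinv : ∀ {σ : Cfsg.M24}, orderOf σ = 2 → ∃ m, K.τ m = σ ∧ m * m = 1 := by
    intro σ hσ
    let ι : U →* N := (L.H.subtype.comp U.subtype).codRestrict N fun u =>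
      L.E_le_normalizer ⟨u.1, hUE u.2, rfl⟩
    have hι : Function.Injective ι := fun u v h => Subtype.ext (Subtype.ext (congrArg (fun x : N => (x : G)) h))
    refine K.exists_involution (U := ι.range) ?_ ?_ ?_ hσ
    · rintro _ ⟨u, rfl⟩ hu
      have h1 : u.1 ∈ U ⊓ L.D.R := ⟨u.2, L.mem_A.1 hu⟩
      rw [hUR, Subgroup.mem_bot] at h1
      rw [show u = 1 from Subtype.ext h1, map_one]
    · rw [← hUc]
      exact (Nat.card_congr (MonoidHom.ofInjective hι).toEquiv).symm
    · rintro _ ⟨u, rfl⟩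
      rw [← map_mul, show u * u = 1 from Subtype.ext (hU2 u u.2), map_one]
  have hsplit : ∀ n ∈ Subgroup.normalizer (L.D.R : Set L.H), L.C.pr n ∉ Inn M22g →
      n * n = L.C.z → ∃ a ∈ L.D.R, n * a * n⁻¹ * a⁻¹ = L.C.z := by
    intro n hn ho hnn
    have hnN : (n : G) ∈ N := L.mem_normalizer_iff.2 hn
    set n' : N := ⟨(n : G), hnN⟩ with hn'
    have hnA : (n : G) ∉ L.A := fun h => by
      obtain ⟨w, hw, c, ⟨m, -, hl, -⟩, e⟩ := L.mem_A.1 h
      refine ho ?_
      rw [e, map_mul, MonoidHom.mem_ker.1 (L.C.E_le hw.1), one_mul, hl.2]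
      exact ⟨m, rfl⟩
    have hzA : ((n' * n' : N) : G) ∈ L.A := by
      show (n : G) * n ∈ L.A
      rw [← Subgroup.coe_mul, hnn, L.Cz]
      exact L.z_A
    have hσ : orderOf (K.τ n') = 2 := by
      haveI : Fact (Nat.Prime 2) := ⟨Nat.prime_two⟩
      refine orderOf_eq_prime ?_ fun e => hnA (K.mem_ker.1 e)
      rw [pow_two, ← map_mul]
      exact K.mem_ker.2 hzA
    obtain ⟨m, hm, hm2⟩ := hinv hσ
    have ha : ((n' * m⁻¹ : N) : G) ∈ L.A :=
      K.mem_ker.1 (by rw [map_mul, map_inv, hm, mul_inv_cancel])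
    obtain ⟨a, haR, hae⟩ := ha
    refine ⟨a, haR, Subtype.ext ?_⟩
    have mm : (m : G) * (m : G) = 1 := congrArg Subtype.val hm2
    have mi : (m : G)⁻¹ = m := inv_eq_of_mul_eq_one_right mm
    have hn_eq : (n : G) = (a : G) * (m : G) := by
      have h := hae
      rw [Subgroup.coe_mul, InvMemClass.coe_inv] at h
      rw [show (L.H.subtype a : G) = (a : G) from rfl] at h
      rw [h, inv_mul_cancel_right]
    have hz : (n : G) * n = z := by rw [← Subgroup.coe_mul, hnn, L.Cz]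
    have haA : (a : G) ∈ L.A := L.mem_A.2 haR
    have hc := comm _ haA _ ((Subgroup.mem_normalizer_iff.1 m.2 _).1 haA)
    simp only [Subgroup.coe_mul, InvMemClass.coe_inv, L.Cz]
    calc (n : G) * a * (n : G)⁻¹ * (a : G)⁻¹
        = (a : G) * ((m : G) * a * (m : G)⁻¹) * (a : G)⁻¹ * (a : G)⁻¹ := by rw [hn_eq]; group
      _ = (m : G) * a * (m : G)⁻¹ * (a : G)⁻¹ := by rw [hc]; group
      _ = (m : G) * a * (m : G)⁻¹ * (a : G) := by
        rw [inv_eq_of_mul_eq_one_right (L.A_sq haA)]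
      _ = (a : G) * ((m : G) * a * (m : G)⁻¹) := hc.symm
      _ = (a : G) * m * ((a : G) * m) := by rw [mi]; group
      _ = z := by rw [← hn_eq, hz]
  obtain ⟨T, hTP, hTR, hTst, hTc, hTinj⟩ := L.D.exists_frame O hsplit
  have hUT : ∀ t ∈ T, ∀ u ∈ U, t * u * t⁻¹ ∈ U := fun t ht => hUnorm t (hTP ht) (hTst t ht).2
  -- no element of `T` lies over the hexad subgroup
  have hT1 : ∀ t ∈ T, ∀ m ∈ hexadGroup, L.C.pr t = MulAut.conj m → t = 1 := fun t ht m hm e => by
    refine hTinj t ht ?_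
    rw [e, O.meet m hm fun y hy => by
      have := (hTst t ht).2 y hy
      rwa [e, MulAut.conj_apply] at this, map_one]
  let S0 : Subgroup L.H :=
    { carrier := {x | ∃ u ∈ U, ∃ t ∈ T, u * t = x}
      one_mem' := ⟨1, one_mem _, 1, one_mem _, one_mul 1⟩
      mul_mem' := by
        rintro _ _ ⟨u, hu, t, ht, rfl⟩ ⟨v, hv, s, hs, rfl⟩
        exact ⟨u * (t * v * t⁻¹), mul_mem hu (hUT t ht v hv), t * s, mul_mem ht hs, by group⟩
      inv_mem' := by
        rintro _ ⟨u, hu, t, ht, rfl⟩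
        exact ⟨t⁻¹ * u⁻¹ * t⁻¹⁻¹, hUT _ (inv_mem ht) _ (inv_mem hu), t⁻¹, inv_mem ht, by group⟩ }
  have hpr : ∀ u ∈ U, ∀ t : L.H, L.C.pr (u * t) = L.C.pr t := fun u hu t => by
    rw [map_mul, MonoidHom.mem_ker.1 (L.C.E_le (hUE hu)), one_mul]
  have hS0R : S0 ⊓ L.D.R = ⊥ := by
    rw [Subgroup.eq_bot_iff_forall]
    rintro _ ⟨⟨u, hu, t, ht, rfl⟩, hR⟩
    obtain ⟨w, hw, c, ⟨m, hm, hl, hsqc⟩, e⟩ := hR
    have ht1 : t = 1 := hT1 t ht m hm (by
      rw [← hpr u hu t, e, map_mul, MonoidHom.mem_ker.1 (L.C.E_le hw.1), one_mul, hl.2])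
    subst ht1
    rw [mul_one] at e ⊢
    have h1 : u ∈ U ⊓ L.D.R := ⟨hu, e ▸ ⟨w, hw, c, ⟨m, hm, hl, hsqc⟩, rfl⟩⟩
    rwa [hUR, Subgroup.mem_bot] at h1
  have hS0c : Nat.card S0 = 2 ^ 10 := by
    let f : U × T → S0 := fun p => ⟨p.1.1 * p.2.1, p.1, p.1.2, p.2, p.2.2, rfl⟩
    rw [← Nat.card_eq_of_bijective f ⟨?_, ?_⟩, Nat.card_prod, hUc, hTc]
    · norm_num
    · rintro ⟨u, t⟩ ⟨v, s⟩ h
      have h' : u.1 * t.1 = v.1 * s.1 := congrArg Subtype.val h
      have ets : t.1 = s.1 := by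
        refine (inv_mul_eq_one.1 (hTinj _ (mul_mem (inv_mem t.2) s.2) ?_))
        have := congrArg L.C.pr h'
        rw [hpr _ u.2, hpr _ v.2] at this
        rw [map_mul, map_inv, this, inv_mul_cancel]
      rw [ets, mul_left_inj] at h'
      exact Prod.ext (Subtype.ext h') (Subtype.ext ets)
    · rintro ⟨_, u, hu, t, ht, rfl⟩
      exact ⟨⟨⟨u, hu⟩, ⟨t, ht⟩⟩, rfl⟩
  refine ⟨S0.map L.H.subtype, ?_, ?_, ?_⟩
  · rintro _ ⟨_, ⟨u, hu, t, ht, rfl⟩, rfl⟩
    rw [map_mul]
    exact mul_mem (L.E_le_normalizer ⟨u, hUE hu, rfl⟩) (L.mem_normalizer_iff.2 (hTR ht))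
  · rw [A, ← Subgroup.map_inf_eq _ _ _ L.H.subtype_injective, hS0R, Subgroup.map_bot]
  · rw [Subgroup.card_map_of_injective L.H.subtype_injective, hS0c]

/-- The normaliser is a split extension by M24. -/
theorem exists_split [IsSimpleGroup G] (hG : ¬ IsMulCommutative G) :
    ∃ K : Subgroup G, K ≤ Subgroup.normalizer (L.A : Set G) ∧ K ⊓ L.A = ⊥ ∧
      K ⊔ L.A = Subgroup.normalizer (L.A : Set G) ∧ Cfsg.Spor.IsoM24 K := by
  obtain ⟨M⟩ := nonempty_model (L.layer hG)
  set N := Subgroup.normalizer (L.A : Set G) with hN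
  obtain ⟨S, hSN, hSA, hSc⟩ := L.exists_sylow_complement hG
  have hAN : L.A ≤ N := Subgroup.le_normalizer
  set A' := L.A.subgroupOf N with hA'
  have hker : M.τ.ker = A' := M.ker
  haveI : A'.Normal := hker ▸ MonoidHom.normal_ker _
  obtain ⟨K', hK'⟩ := exists_complement A' (S.subgroupOf N)
    (fun a ha b hb => Subtype.ext ((L.layer hG).comm ha hb))
    (by rw [hA', Subgroup.subgroupOf, Subgroup.subgroupOf, ← Subgroup.comap_inf, hSA, ← Subgroup.subgroupOf, Subgroup.bot_subgroupOf])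
    (by rw [hA', Nat.card_congr (Subgroup.subgroupOfEquivOfLe hAN).toEquiv, L.card_A])
    (by rw [Nat.card_congr (Subgroup.subgroupOfEquivOfLe hSN).toEquiv, hSc])
    (m := 1771 * 135)
    (by rw [(L.layer hG).card_normalizer, (L.layer hG).main.1]; norm_num)
    (by decide)
  have hbij : Function.Bijective (M.τ.comp K'.subtype) := by
    constructor
    · rw [injective_iff_map_eq_one]
      intro k hk
      have h1 : k.1 ∈ A' ⊓ K' := ⟨hker ▸ (MonoidHom.mem_ker.2 hk : k.1 ∈ M.τ.ker), k.2⟩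
      rw [disjoint_iff.1 hK'.disjoint, Subgroup.mem_bot] at h1
      exact Subtype.ext h1
    · intro σ
      obtain ⟨g, rfl⟩ := M.surj σ
      obtain ⟨⟨a, k⟩, e⟩ := hK'.2 g
      refine ⟨k, ?_⟩
      have e' : (a : N) * (k : N) = g := e
      rw [← e', map_mul, MonoidHom.mem_ker.1 (hker.symm ▸ a.2 : (a : N) ∈ M.τ.ker), one_mul]
      rfl
  have hmapA : A'.map N.subtype = L.A := by
    rw [hA', Subgroup.subgroupOf_map_subtype, inf_eq_left.2 hAN]
  refine ⟨K'.map N.subtype, Subgroup.map_subtype_le _, ?_, ?_, ?_⟩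
  · rw [← hmapA, ← Subgroup.map_inf_eq _ _ _ N.subtype_injective, inf_comm, disjoint_iff.1 hK'.disjoint,
      Subgroup.map_bot]
  · rw [← hmapA, ← Subgroup.map_sup, sup_comm, hK'.sup_eq_top, ← MonoidHom.range_eq_map,
      Subgroup.range_subtype]
  · exact ⟨(K'.equivMapOfInjective N.subtype N.subtype_injective).symm.trans
      (MulEquiv.ofBijective _ hbij)⟩

/-- Every elementary abelian subgroup of order `2 ^ 11` is conjugate to the standard one. -/
theorem exists_conj_eq_A {V : Subgroup G} (hV : Cfsg.IsElementaryAbelian 2 V)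
    (hc : Nat.card V = 2 ^ 11) : ∃ g : G, L.A.map (MulAut.conj g).toMonoidHom = V := by
  haveI : Fact (Nat.Prime 2) := ⟨Nat.prime_two⟩
  obtain ⟨S, hS⟩ := (IsPGroup.of_card L.card_A : IsPGroup 2 L.A).exists_le_sylow
  obtain ⟨T, hT⟩ := (IsPGroup.of_card hc : IsPGroup 2 V).exists_le_sylow
  obtain ⟨g, rfl⟩ := MulAction.exists_smul_eq G T S
  refine ⟨g⁻¹, ?_⟩
  have hle : V.map (MulAut.conj g).toMonoidHom ≤ ((g • T : Sylow 2 G) : Subgroup G) := by
    rintro _ ⟨v, hv, rfl⟩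
    exact ⟨v, hT hv, rfl⟩
  rw [← L.eq_of_le_pGroup (g • T).2 hS hle (isElementaryAbelian_of_sq (by
      rintro _ ⟨v, hv, rfl⟩
      show MulAut.conj g v * MulAut.conj g v = 1
      rw [← map_mul, two_of_mem hV hv, map_one]))
    (by rw [Subgroup.card_map_of_injective (MulAut.conj g).injective, hc]), Subgroup.map_map]
  ext x
  simp [mul_assoc]

/-- The normaliser of an elementary abelian subgroup of order `2 ^ 11`. -/
theorem split_of_card [IsSimpleGroup G] (hG : ¬ IsMulCommutative G) {V : Subgroup G}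
    (hV : Cfsg.IsElementaryAbelian 2 V) (hc : Nat.card V = 2 ^ 11) :
    Subgroup.centralizer (V : Set G) ≤ V ∧ ∃ K : Subgroup G,
      K ≤ Subgroup.normalizer (V : Set G) ∧ K ⊓ V = ⊥ ∧
      K ⊔ V = Subgroup.normalizer (V : Set G) ∧ Cfsg.Spor.IsoM24 K := by
  obtain ⟨g, rfl⟩ := L.exists_conj_eq_A hV hc
  obtain ⟨K, hKN, hKA, hKsup, hK⟩ := L.exists_split hG
  let f : G ≃* G := MulAut.conj g
  have hn : Subgroup.normalizer ((L.A.map f.toMonoidHom : Subgroup G) : Set G) =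
      (Subgroup.normalizer (L.A : Set G)).map f.toMonoidHom :=
    (Subgroup.map_equiv_normalizer_eq L.A f).symm
  refine ⟨fun x hx => ?_, K.map f.toMonoidHom, ?_, ?_, ?_, ?_⟩
  · refine ⟨f.symm x, L.cent (Subgroup.mem_centralizer_iff.2 fun a ha => ?_), f.apply_symm_apply x⟩
    have h := congrArg f.symm (Subgroup.mem_centralizer_iff.1 hx _ ⟨a, ha, rfl⟩)
    rwa [map_mul, map_mul, MulEquiv.coe_toMonoidHom, f.symm_apply_apply] at h
  · rw [hn]; exact Subgroup.map_mono hKN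
  · rw [← Subgroup.map_inf_eq _ _ _ f.injective, hKA, Subgroup.map_bot]
  · rw [hn, ← Subgroup.map_sup, hKsup]
  · exact ⟨(K.equivMapOfInjective f.toMonoidHom f.injective).symm.trans hK.some⟩

end Setting

end CfsgLib.JFourEleven
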