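import Cfsg.Agent.M24Classes.Classes

/-!
# A commuting involution moving every pair of an involution at most inside it
-/

set_option autoImplicit false

namespace CfsgLib.JFourEleven

open Cfsg CfsgLib.M24Classes

theorem card_moved {g : Equiv.Perm GolayPt} (hg : g ∈ M24) (h2 : g * g = 1) (h1 : g ≠ 1) :
    16 ≤ (Finset.univ.filter fun p => g p ≠ p).card := by
  have h : fixCount g = 0 ∨ fixCount g = 8 := by
    have ho : orderOf g = 2 := by
      have : Fact (Nat.Prime 2) := ⟨Nat.prime_two⟩
      exact orderOf_eq_prime (by rw [pow_two, h2]) h1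
    rcases conj_inv2_of_fix hg ho with ⟨e, -⟩ | ⟨e, -⟩
    exacts [Or.inl e, Or.inr e]
  have hs := Finset.card_filter_add_card_filter_not (s := (Finset.univ : Finset GolayPt))
    (fun p => g p = p)
  rw [Finset.card_univ, card_golayPt] at hs
  unfold fixCount at h
  simp only [ne_eq] at *
  omega

/-- An involution commuting with an involution `s`, such that the image of every pair preserved by
`s` meets the pair, is trivial or `s`. -/
theorem eq_one_or_self {π s : Equiv.Perm GolayPt} (hπ : π ∈ M24) (hs : s ∈ M24) (hs2 : s * s = 1)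
    (hπ2 : π * π = 1) (hc : π * s = s * π)
    (hmeet : ∀ c d : GolayPt, c ≠ d → ((s c = d ∧ s d = c) ∨ (s c = c ∧ s d = d)) →
      π c = c ∨ π c = d ∨ π d = c ∨ π d = d) :
    π = 1 ∨ π = s := by
  classical
  by_contra hcon
  push Not at hcon
  obtain ⟨h1, hne⟩ := hcon
  have hps1 : π * s ≠ 1 := fun e => hne ((eq_inv_of_mul_eq_one_left e).trans
    (inv_eq_of_mul_eq_one_right hs2))
  have hps2 : π * s * (π * s) = 1 := by
    rw [mul_assoc, ← mul_assoc s π s, ← hc, mul_assoc π s s, hs2, mul_one, hπ2]
  have sinv : ∀ p, s (s p) = p := fun p => by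
    rw [← Equiv.Perm.mul_apply, hs2, Equiv.Perm.one_apply]
  have pinv : ∀ p, π (π p) = p := fun p => by
    rw [← Equiv.Perm.mul_apply, hπ2, Equiv.Perm.one_apply]
  have cm : ∀ p, π (s p) = s (π p) := fun p => by
    rw [← Equiv.Perm.mul_apply, hc, Equiv.Perm.mul_apply]
  have hM0 : ∀ p, s p ≠ p → π p = p ∨ π p = s p := by
    intro p hp
    rcases hmeet p (s p) (Ne.symm hp) (Or.inl ⟨rfl, sinv p⟩) with e | e | e | e
    · exact Or.inl e
    · exact Or.inr e
    · right
      conv_rhs => rw [← e]
      rw [cm, sinv]
    · left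
      rw [cm] at e
      exact s.injective e
  let F := Finset.univ.filter fun p => s p = p ∧ π p ≠ p
  have hF : F.card ≤ 2 := by
    rcases F.eq_empty_or_nonempty with e | ⟨c, hc'⟩
    · simp [e]
    · refine (Finset.card_le_card (t := {c, π c}) fun d hd => ?_).trans Finset.card_le_two
      simp only [F, Finset.mem_filter, Finset.mem_univ, true_and] at hc' hd
      simp only [Finset.mem_insert, Finset.mem_singleton]
      by_cases hdc : d = c
      · exact Or.inl hdc
      rcases hmeet c d (Ne.symm hdc) (Or.inr ⟨hc'.1, hd.1⟩) with e | e | e | e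
      · exact absurd e hc'.2
      · exact Or.inr e.symm
      · exact Or.inr (by rw [← e, pinv])
      · exact absurd e hd.2
  let M := fun g : Equiv.Perm GolayPt => Finset.univ.filter fun p => g p ≠ p
  have hsum : (M π).card + (M (π * s)).card ≤ 24 + 4 := by
    rw [← Finset.card_union_add_card_inter]
    refine Nat.add_le_add ((Finset.card_le_univ _).trans_eq card_golayPt) ?_
    refine le_trans ?_ (hF.trans (by norm_num))
    refine Finset.card_le_card fun p hp => ?_
    obtain ⟨hp1, hp2⟩ := Finset.mem_inter.1 hp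
    replace hp1 := (Finset.mem_filter.1 hp1).2
    replace hp2 := (Finset.mem_filter.1 hp2).2
    rw [Equiv.Perm.mul_apply] at hp2
    simp only [F, Finset.mem_filter, Finset.mem_univ, true_and]
    refine ⟨?_, hp1⟩
    by_contra hsp
    rcases hM0 p hsp with e | e
    · exact hp1 e
    · exact hp2 (by rw [cm, e, sinv])
  have e1 := card_moved hπ hπ2 h1
  have e2 := card_moved (mul_mem hπ hs) hps2 hps1
  simp only [M] at hsum
  omega

end CfsgLib.JFourEleven
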