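import Cfsg.Agent.JFourEleven.Model

/-!
# Subgroups without conjugates of the central involution, and two kinds of such conjugates
-/

set_option autoImplicit false
set_option linter.unusedSectionVars false

namespace CfsgLib.JFourEleven

open Cfsg CfsgLib.LargeFischerJ

namespace Model

variable {G : Type*} [Group G] [Finite G] {z : G} {A : Subgroup G} (K : Model z A)

include K

theorem not_isConj_δ {p q : GolayPt} (h : p ≠ q) : ¬ IsConj z (K.δ p q) := (K.δ_others h).2.2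

theorem sq_δ (p q : GolayPt) : K.δ p q * K.δ p q = 1 := by
  nth_rewrite 2 [K.δ_comm]
  rw [K.mul, K.δ_self]

theorem mul' (p q r : GolayPt) : K.δ p q * K.δ p r = K.δ q r := by
  rw [K.δ_comm p q, K.mul]

/-- The members of a subgroup without conjugates are two-point elements on at most three points. -/
theorem free_shape {Q : Subgroup G} (hQA : Q ≤ A) (hz : ∀ q ∈ Q, ¬ IsConj z q) {a b : GolayPt}
    (hab : a ≠ b) (hQ : K.δ a b ∈ Q) :
    ∃ c, c ≠ a ∧ c ≠ b ∧ ∀ q ∈ Q, q = 1 ∨ q = K.δ a b ∨ q = K.δ a c ∨ q = K.δ b c := by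
  classical
  have meet : ∀ {p q : GolayPt}, p ≠ q → K.δ p q ∈ Q → ∀ {r s : GolayPt}, r ≠ s → K.δ r s ∈ Q →
      r = p ∨ r = q ∨ s = p ∨ s = q := by
    intro p q hpq hp r s hrs hr
    by_contra! h
    exact hz _ (mul_mem hp hr) (K.isConj_disjoint hpq hrs h.1 h.2.1 h.2.2.1 h.2.2.2)
  have third : ∀ q ∈ Q, q ≠ 1 → q ≠ K.δ a b →
      ∃ c, c ≠ a ∧ c ≠ b ∧ (q = K.δ a c ∨ q = K.δ b c) := by
    intro q hq h1 hne
    obtain ⟨r, s, hrs, rfl⟩ := (K.others_iff q).1 ⟨hQA hq, h1, hz q hq⟩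
    have hn1 : ¬ ((r = a ∧ s = b) ∨ (r = b ∧ s = a)) := fun h => hne ((K.eq_iff hab r s).2 h)
    rcases meet hab hQ hrs hq with e | e | e | e <;> subst e
    · exact ⟨s, Ne.symm hrs, fun e => hn1 (Or.inl ⟨rfl, e⟩), Or.inl rfl⟩
    · exact ⟨s, fun e => hn1 (Or.inr ⟨rfl, e⟩), Ne.symm hrs, Or.inr rfl⟩
    · exact ⟨r, hrs, fun e => hn1 (Or.inr ⟨e, rfl⟩), Or.inl (K.δ_comm _ _)⟩
    · exact ⟨r, fun e => hn1 (Or.inl ⟨e, rfl⟩), hrs, Or.inr (K.δ_comm _ _)⟩
  by_cases hall : ∀ q ∈ Q, q = 1 ∨ q = K.δ a b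
  · obtain ⟨c, -, hc⟩ := Finset.exists_mem_notMem_of_card_lt_card (s := ({a, b} : Finset GolayPt))
      (t := Finset.univ) (Finset.card_le_two.trans_lt (by simp [M24Classes.card_golayPt]))
    simp only [Finset.mem_insert, Finset.mem_singleton, not_or] at hc
    exact ⟨c, hc.1, hc.2, fun q hq => (hall q hq).imp_right Or.inl⟩
  push Not at hall
  obtain ⟨q0, hq0, h01, h02⟩ := hall
  obtain ⟨c, hca, hcb, hc⟩ := third q0 hq0 h01 h02
  have hac : K.δ a c ∈ Q ∧ K.δ b c ∈ Q := by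
    rcases hc with e | e <;> rw [e] at hq0
    · exact ⟨hq0, by rw [← K.mul' a b c]; exact mul_mem hQ hq0⟩
    · exact ⟨by rw [← K.mul a b c]; exact mul_mem hQ hq0, hq0⟩
  refine ⟨c, hca, hcb, fun q hq => ?_⟩
  by_cases h1 : q = 1
  · exact Or.inl h1
  by_cases h2 : q = K.δ a b
  · exact Or.inr (Or.inl h2)
  obtain ⟨d, hda, hdb, hd⟩ := third q hq h1 h2
  suffices d = c by rw [this] at hd; exact Or.inr (Or.inr hd)
  rcases hd with e | e <;> rw [e] at hq
  · rcases meet (Ne.symm hcb) hac.2 (Ne.symm hda) hq with e' | e' | e' | e'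
    exacts [absurd e' hab, absurd e'.symm hca, absurd e' hdb, e']
  · rcases meet (Ne.symm hca) hac.1 (Ne.symm hdb) hq with e' | e' | e' | e'
    exacts [absurd e'.symm hab, absurd e'.symm hcb, absurd e' hda, e']

/-- A subgroup without conjugates has at most four elements. -/
theorem card_free_le {Q : Subgroup G} (hQA : Q ≤ A) (hz : ∀ q ∈ Q, ¬ IsConj z q) :
    Nat.card Q ≤ 4 := by
  classical
  by_cases h : ∀ q ∈ Q, q = 1
  · rw [(Subgroup.eq_bot_iff_forall Q).2 h, Subgroup.card_bot]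
    norm_num
  push Not at h
  obtain ⟨q, hq, h1⟩ := h
  obtain ⟨a, b, hab, rfl⟩ := (K.others_iff q).1 ⟨hQA hq, h1, hz q hq⟩
  obtain ⟨c, -, -, hall⟩ := K.free_shape hQA hz hab hq
  have hsub : (Q : Set G) ⊆ ↑({1, K.δ a b, K.δ a c, K.δ b c} : Finset G) := fun q hq => by
    simp only [Finset.coe_insert, Finset.coe_singleton, Set.mem_insert_iff, Set.mem_singleton_iff]
    exact hall q hq
  rw [← SetLike.coe_sort_coe, Nat.card_coe_set_eq]
  exact (Set.ncard_le_ncard hsub (Finset.finite_toSet _)).trans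
    ((Set.ncard_coe_finset _).trans_le Finset.card_le_four)

/-- Two relations between sums of three disjoint pairs and two-point elements. -/
theorem bad_mem {Δ : G} (hΔ : Δ * Δ = 1) (hcomm : ∀ x ∈ A, ∀ y ∈ A, x * y = y * x) (hΔA : Δ ∈ A)
    {e f g x y x' y' : GolayPt} (hfg : f ≠ g) (hfx : f ≠ x) (hfy : f ≠ y) (hxy : x ≠ y)
    (h : Δ * K.δ e f = K.δ x y) (h' : Δ * K.δ e g = K.δ x' y') : g = x ∨ g = y := by
  have hk : K.δ f g * K.δ x y = K.δ x' y' := by
    rw [← h, ← h', ← K.mul' e f g,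
      hcomm _ (mul_mem (K.mem _ _) (K.mem _ _)) _ (mul_mem hΔA (K.mem _ _)), mul_assoc,
      ← mul_assoc (K.δ e f), K.sq_δ, one_mul]
  by_contra! hne
  exact K.disjoint hfg hxy hfx.symm (Ne.symm hne.1) hfy.symm (Ne.symm hne.2) x' y' hk

/-- Two conjugates behaving differently under a subgroup without conjugates. -/
theorem exists_kinds (hcomm : ∀ x ∈ A, ∀ y ∈ A, x * y = y * x)
    {Q : Subgroup G} (hQA : Q ≤ A) (hz : ∀ q ∈ Q, ¬ IsConj z q) {a b : GolayPt}
    (hab : a ≠ b) (hQ : K.δ a b ∈ Q) :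
    (∃ u ∈ A, IsConj z u ∧ ¬ ∀ q ∈ Q, IsConj z (u * q)) ∧
      ∃ u ∈ A, IsConj z u ∧ ∀ q ∈ Q, IsConj z (u * q) := by
  classical
  obtain ⟨c, hca, hcb, hall⟩ := K.free_shape hQA hz hab hQ
  have hcard : (Finset.univ : Finset GolayPt).card = 24 := by simp [M24Classes.card_golayPt]
  obtain ⟨d, -, hd⟩ := Finset.exists_mem_notMem_of_card_lt_card (s := ({a, b, c} : Finset GolayPt))
    (t := Finset.univ) (Finset.card_le_three.trans_lt (by omega))
  simp only [Finset.mem_insert, Finset.mem_singleton, not_or] at hd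
  obtain ⟨e, -, he⟩ := Finset.exists_mem_notMem_of_card_lt_card (s := ({a, b, c, d} : Finset GolayPt))
    (t := Finset.univ) (Finset.card_le_four.trans_lt (by omega))
  simp only [Finset.mem_insert, Finset.mem_singleton, not_or] at he
  obtain ⟨hda, hdb, hdc⟩ := hd
  obtain ⟨hea, heb, hec, hed⟩ := he
  constructor
  · refine ⟨K.δ a b * K.δ d e, mul_mem (K.mem _ _) (K.mem _ _),
      K.isConj_disjoint hab (Ne.symm hed) hda hdb hea heb, fun h => ?_⟩
    have := h _ hQ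
    rw [hcomm _ (K.mem a b) _ (K.mem d e), mul_assoc, K.sq_δ, mul_one] at this
    exact K.not_isConj_δ (Ne.symm hed) this
  -- a fourth point pair avoiding the exceptions
  have hF : ∃ f : GolayPt, f ≠ a ∧ f ≠ b ∧ f ≠ c ∧ f ≠ d ∧ f ≠ e ∧
      ∀ x y, K.δ a d * K.δ b c * K.δ e f ≠ K.δ x y := by
    let T : Finset GolayPt := {a, b, c, d, e}
    have hT : T.card ≤ 5 := Finset.card_le_five
    by_contra hcon
    push Not at hcon
    have hbad : ∀ f, f ∉ T → ∃ x y, K.δ a d * K.δ b c * K.δ e f = K.δ x y := by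
      intro f hf
      simp only [T, Finset.mem_insert, Finset.mem_singleton, not_or] at hf
      obtain ⟨h1, h2, h3, h4, h5⟩ := hf
      exact hcon f h1 h2 h3 h4 h5
    obtain ⟨f, -, hf⟩ := Finset.exists_mem_notMem_of_card_lt_card (s := T) (t := Finset.univ)
      (by omega)
    obtain ⟨x, y, hxy⟩ := hbad f hf
    have hf' := hf
    simp only [T, Finset.mem_insert, Finset.mem_singleton, not_or] at hf'
    obtain ⟨hfa, hfb, hfc, hfd, hfe⟩ := hf'
    set Δ := K.δ a d * K.δ b c with hΔ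
    have hΔA : Δ ∈ A := mul_mem (K.mem _ _) (K.mem _ _)
    have hΔ2 : Δ * Δ = 1 := by
      rw [hΔ, mul_assoc, ← mul_assoc (K.δ b c), hcomm _ (K.mem b c) _ (K.mem a d), mul_assoc,
        K.sq_δ, mul_one, K.sq_δ]
    have hne : x ≠ y := fun h' => by
      rw [h', K.δ_self] at hxy
      have h0 : Δ = K.δ e f := (eq_inv_of_mul_eq_one_left hxy).trans
        (inv_eq_of_mul_eq_one_right (K.sq_δ e f))
      exact K.disjoint (Ne.symm hda) (Ne.symm hcb) (Ne.symm hab) (Ne.symm hdb) hca (Ne.symm hdc)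
        e f h0
    have hmul : ∀ {u v : G}, u ∈ A → u * u = 1 → v * u = 1 → v = u := fun {u v} _ h2 h =>
      (eq_inv_of_mul_eq_one_left h).trans (inv_eq_of_mul_eq_one_right h2)
    have hΔne : ∀ r s, Δ ≠ K.δ r s := fun r s h' =>
      K.disjoint (Ne.symm hda) (Ne.symm hcb) (Ne.symm hab) (Ne.symm hdb) hca (Ne.symm hdc) r s h'
    have hfx : f ≠ x := fun h' => hΔne y e (by
      subst h'
      calc Δ = Δ * K.δ e f * K.δ e f := by rw [mul_assoc, K.sq_δ, mul_one]
        _ = K.δ f y * K.δ f e := by rw [hxy, K.δ_comm f e]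
        _ = K.δ y e := K.mul' f y e)
    have hfy : f ≠ y := fun h' => hΔne x e (by
      subst h'
      calc Δ = Δ * K.δ e f * K.δ e f := by rw [mul_assoc, K.sq_δ, mul_one]
        _ = K.δ f x * K.δ f e := by rw [hxy, K.δ_comm f e, K.δ_comm f x]
        _ = K.δ x e := K.mul' f x e)
    obtain ⟨g, -, hg⟩ := Finset.exists_mem_notMem_of_card_lt_card (s := T ∪ {f, x, y})
      (t := Finset.univ) (by
        have := Finset.card_union_le T {f, x, y}
        have := Finset.card_le_three (a := f) (b := x) (c := y)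
        omega)
    simp only [Finset.mem_union, Finset.mem_insert, Finset.mem_singleton, not_or] at hg
    obtain ⟨hgT, hgf, hgx, hgy⟩ := hg
    obtain ⟨x', y', hxy'⟩ := hbad g (by simpa [T] using hgT)
    exact (K.bad_mem hΔ2 hcomm hΔA (Ne.symm hgf) hfx hfy hne hxy hxy').elim hgx hgy
  obtain ⟨f, hfa, hfb, hfc, hfd, hfe, hgood⟩ := hF
  have hef : e ≠ f := Ne.symm hfe
  refine ⟨K.δ a d * K.δ e f, mul_mem (K.mem _ _) (K.mem _ _),
    K.isConj_disjoint (Ne.symm hda) hef hea hed hfa hfd, fun q hq => ?_⟩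
  have sw : ∀ r s, K.δ a d * K.δ e f * K.δ r s = K.δ a d * K.δ r s * K.δ e f := fun r s => by
    rw [mul_assoc, hcomm _ (K.mem e f) _ (K.mem r s), mul_assoc]
  rcases hall q hq with rfl | rfl | rfl | rfl
  · rw [mul_one]
    exact K.isConj_disjoint (Ne.symm hda) hef hea hed hfa hfd
  · rw [sw, hcomm _ (K.mem a d) _ (K.mem a b), K.mul' a b d]
    exact K.isConj_disjoint (Ne.symm hdb) hef heb hed hfb hfd
  · rw [sw, hcomm _ (K.mem a d) _ (K.mem a c), K.mul' a c d]
    exact K.isConj_disjoint (Ne.symm hdc) hef hec hed hfc hfd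
  · rw [sw]
    by_contra hc'
    have hne1 : K.δ a d * K.δ b c * K.δ e f ≠ 1 := fun h0 => hgood a a (h0.trans (K.δ_self a).symm)
    obtain ⟨x, y, -, hxy⟩ := (K.others_iff _).1
      ⟨mul_mem (mul_mem (K.mem _ _) (K.mem _ _)) (K.mem _ _), hne1, hc'⟩
    exact hgood x y hxy.symm

end Model

end CfsgLib.JFourEleven
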