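import Cfsg.Agent.JFourEleven.Core

/-!
# A complement in a Sylow 2-subgroup of the normaliser in the centraliser

Given that outer elements of square `z` normalising `R` have `z` as a commutator with `R`, lifts of
the outer involutions stabilising two disjoint hexad subgroups have square one and generate a
subgroup of order sixteen; with the core it gives a subgroup of order `2 ^ 10` meeting `R` trivially.
-/

set_option autoImplicit false
set_option linter.unusedSectionVars false

namespace CfsgLib.JFourEleven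

open Cfsg CfsgLib.JFourType Module

/-- A power with exponent zero or one. -/
def bp {K : Type*} [Monoid K] (a : K) (i : Bool) : K := bif i then a else 1

theorem map_bp {K L : Type*} [Monoid K] [Monoid L] (f : K →* L) (a : K) (i : Bool) :
    f (bp a i) = bp (f a) i := by
  cases i
  exacts [map_one f, rfl]

namespace Cent

variable {H : Type*} [Group H] [Finite H] (C : Cent H)

/-- A lift with square in the centre of an element of order at most two has square one. -/
theorem Coord.lift_sq_one {C : Cent H} (D : C.Coord) {q : H} {m : M22g} (hl : C.Lift q m)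
    (hm : m * m = 1) (hz : C.IsZ (q * q)) : q * q = 1 := by
  by_cases hm1 : m = 1
  · subst hm1
    obtain ⟨y, hy, e⟩ := C.ker_CP (Lift.mem_ker C hl) hl.1
    rcases e with rfl | rfl
    · rw [C.eq_one_of_sq hy hz, one_mul]
    · have : C.IsZ (y * y) := by
        rwa [mul_assoc C.z, ← mul_assoc y, C.central y, mul_assoc C.z, ← mul_assoc, C.z_sq,
          one_mul] at hz
      rw [C.eq_one_of_sq hy this, mul_one, C.z_sq]
  obtain ⟨m0, hm0, h0⟩ := exists_ne_hexad
  have : Fact (Nat.Prime 2) := ⟨Nat.prime_two⟩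
  obtain ⟨g, hg⟩ := isConj_iff.1 (isConj_involutions
    (orderOf_eq_prime (by rw [pow_two, hexad_sq hm0]) h0) (orderOf_eq_prime (by rw [pow_two, hm]) hm1))
  obtain ⟨cg, hcg⟩ := C.exists_lift g
  obtain ⟨c, hc, lc⟩ := C.exists_two hm0 (hexad_sq hm0)
  have hl' : C.Lift (cg * c * cg⁻¹) m := hg ▸ Lift.conj C hcg lc
  have h1 : cg * c * cg⁻¹ * (cg * c * cg⁻¹) = 1 := by
    rw [show cg * c * cg⁻¹ * (cg * c * cg⁻¹) = cg * (c * c) * cg⁻¹ by group, D.two_sq hc, mul_one,
      mul_inv_cancel]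
  rcases C.two_unique hl' hl (Or.inl h1) hz with e | e <;> rw [e]
  · exact h1
  · rw [show cg * c * cg⁻¹ * C.z * (cg * c * cg⁻¹ * C.z) =
      cg * c * cg⁻¹ * (C.z * (cg * c * cg⁻¹)) * C.z by group, ← C.central, ← mul_assoc, h1,
      one_mul, C.z_sq]

theorem exists_over (σ : MulAut M22g) :
    ∃ n ∈ Subgroup.normalizer (C.P : Set H), C.pr n = σ := by
  obtain ⟨h, rfl⟩ := C.surj σ
  obtain ⟨e, he, n, hn, rfl⟩ := C.decomp h
  exact ⟨n, hn, by rw [map_mul, MonoidHom.mem_ker.1 (C.E_le he), one_mul]⟩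

theorem mul_CP_of_outer {n n' : H} (hn : n ∈ Subgroup.normalizer (C.P : Set H))
    (hn' : n' ∈ Subgroup.normalizer (C.P : Set H)) (ho : C.pr n ∉ Inn M22g)
    (ho' : C.pr n' ∉ Inn M22g) : n * n' ∈ C.CP := by
  refine C.mem_CP_x.2 (mul_inv_eq_iff_eq_mul.1 ?_).symm
  rw [show n * n' * C.x * (n * n')⁻¹ = n * (n' * C.x * n'⁻¹) * n⁻¹ by group,
    C.outer_inverts hn' ho', show n * C.x⁻¹ * n⁻¹ = (n * C.x * n⁻¹)⁻¹ by group,
    C.outer_inverts hn ho, inv_inv]

theorem inverts_P {n : H} (hn : n ∈ Subgroup.normalizer (C.P : Set H)) (ho : C.pr n ∉ Inn M22g)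
    {y : H} (hy : y ∈ C.P) : n * y * n⁻¹ = y⁻¹ := by
  rcases C.mem_P hy with rfl | rfl | rfl
  · simp
  · exact C.outer_inverts hn ho
  · rw [show n * (C.x * C.x) * n⁻¹ = (n * C.x * n⁻¹) * (n * C.x * n⁻¹) by group,
      C.outer_inverts hn ho, mul_inv_rev]

theorem isZ_sq_of_inv {k : H} (hk : k ∈ C.pr.ker) (hc : k ∈ C.CP) (h : k * k = 1) : C.IsZ k := by
  obtain ⟨y, hy, e⟩ := C.ker_CP hk hc
  have : y * y = 1 := by
    rcases e with rfl | rfl
    · exact h
    · rwa [mul_assoc C.z, ← mul_assoc y, C.central y, mul_assoc C.z, ← mul_assoc, C.z_sq,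
        one_mul] at h
  obtain rfl := C.eq_one_of_sq hy (Or.inl this)
  simpa [IsZ] using e

/-- An outer involutory element has square in the centre. -/
theorem outer_sq {n : H} (hn : n ∈ Subgroup.normalizer (C.P : Set H)) (ho : C.pr n ∉ Inn M22g)
    (hσ : C.pr n * C.pr n = 1) : C.IsZ (n * n) := by
  obtain ⟨y, hy, e⟩ := C.ker_CP (MonoidHom.mem_ker.2 (by rw [map_mul, hσ])) (C.sq_CP hn)
  have h1 : n * (n * n) * n⁻¹ = n * n := by group
  have hyi : y⁻¹ = y := by
    rw [← C.inverts_P hn ho hy]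
    rcases e with e | e <;> rw [e] at h1
    · exact h1
    · rw [← mul_assoc, C.central n, show C.z * n * y * n⁻¹ = C.z * (n * y * n⁻¹) by group] at h1
      exact mul_left_cancel h1
  obtain rfl := C.eq_one_of_sq hy (Or.inl (by nth_rewrite 2 [← hyi]; exact mul_inv_cancel y))
  simpa [IsZ] using e

/-- Correct the second of two outer involutions so that they commute. -/
theorem exists_adjust (D : C.Coord) {n n' : H} {p : M22g}
    (hn : n ∈ Subgroup.normalizer (C.P : Set H)) (hn' : n' ∈ Subgroup.normalizer (C.P : Set H))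
    (ho : C.pr n ∉ Inn M22g) (ho' : C.pr n' ∉ Inn M22g) (h2 : n * n = 1) (h2' : n' * n' = 1)
    (hp : C.pr n * C.pr n' = MulAut.conj p) (hp2 : p * p = 1) :
    ∃ n'' ∈ Subgroup.normalizer (C.P : Set H), C.pr n'' = C.pr n' ∧ n'' * n'' = 1 ∧
      n * n'' = n'' * n := by
  have hl : C.Lift (n * n') p := ⟨C.mul_CP_of_outer hn hn' ho ho', by rw [map_mul, hp]⟩
  have hl2 := Lift.mul C hl hl
  rw [hp2] at hl2
  obtain ⟨y, hy, e⟩ := C.ker_CP (Lift.mem_ker C hl2) hl2.1
  have hyc : n * n' * y = y * (n * n') := C.P_comm_CP hy hl.1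
  have hpr : C.pr (n' * y) = C.pr n' := by
    rw [map_mul, MonoidHom.mem_ker.1 (C.P_le hy), mul_one]
  have hsq : n' * y * (n' * y) = 1 := by
    have h := C.inverts_P hn' ho' hy
    rw [mul_inv_eq_iff_eq_mul] at h
    rw [show n' * y * (n' * y) = (n' * y) * n' * y by group, h,
      show y⁻¹ * n' * n' * y = y⁻¹ * (n' * n') * y by group, h2', mul_one, inv_mul_cancel]
  have hq : C.IsZ (n * (n' * y) * (n * (n' * y))) := by
    rw [show n * (n' * y) * (n * (n' * y)) = (n * n' * y) * (n * n') * y by group, hyc,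
      show y * (n * n') * (n * n') * y = y * ((n * n') * (n * n')) * y by group]
    rcases e with e | e <;> rw [e]
    · exact Or.inl (by rw [← C.pow_three hy]; simp [pow_succ, mul_assoc])
    · refine Or.inr ?_
      rw [← mul_assoc y, C.central y, show C.z * y * y * y = C.z * y ^ 3 by
        simp [pow_succ, mul_assoc], C.pow_three hy, mul_one]
  have hl' : C.Lift (n * (n' * y)) p := by
    refine ⟨C.mul_CP_of_outer hn (mul_mem hn' (Subgroup.le_normalizer hy)) ho (hpr ▸ ho'), ?_⟩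
    rw [map_mul, hpr, hp]
  refine ⟨n' * y, mul_mem hn' (Subgroup.le_normalizer hy), hpr, hsq, ?_⟩
  have h1 := D.lift_sq_one hl' hp2 hq
  calc n * (n' * y) = (n * (n' * y))⁻¹ := (inv_eq_of_mul_eq_one_right h1).symm
    _ = n' * y * n := by
      rw [mul_inv_rev, inv_eq_of_mul_eq_one_right hsq, inv_eq_of_mul_eq_one_right h2]

end Cent

/-- The subgroup of the words in three commuting involutions and a fourth exchanging two of them. -/
theorem exists_words {K : Type*} [Group K] [Finite K] {a b c m : K} (ha : a * a = 1) (hb : b * b = 1)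
    (hc : c * c = 1) (hm : m * m = 1) (hab : a * b = b * a) (hac : a * c = c * a)
    (hbc : b * c = c * b) (hma : m * a = b * m) (hmc : m * c = c * m) :
    ∃ T : Subgroup K, ∀ t, t ∈ T ↔ ∃ i j k l, bp a i * bp b j * bp c k * bp m l = t := by
  have hmb : m * b = a * m := by
    calc m * b = m * b * (m * m) := by rw [hm, mul_one]
      _ = m * (b * m) * m := by group
      _ = (m * m) * a * m := by rw [← hma]; group
      _ = a * m := by rw [hm, one_mul]
  set F : Bool → Bool → Bool → Bool → K := fun i j k l => bp a i * bp b j * bp c k * bp m l with hF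
  have cb : ∀ {u v : K} (i : Bool), u * v = v * u → u * bp v i = bp v i * u := fun i h => by
    cases i
    exacts [(mul_one _).trans (one_mul _).symm, h]
  have two : ∀ {v : K} (i : Bool), v * v = 1 → v * bp v i = bp v (!i) := fun i h => by
    cases i
    exacts [mul_one _, h]
  have la : ∀ i j k l, a * F i j k l = F (!i) j k l := fun i j k l => by
    simp only [hF, ← mul_assoc]; rw [two i ha]
  have lb : ∀ i j k l, b * F i j k l = F i (!j) k l := fun i j k l => by
    simp only [hF, ← mul_assoc]; rw [cb i hab.symm, mul_assoc _ b, two j hb]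
  have lc : ∀ i j k l, c * F i j k l = F i j (!k) l := fun i j k l => by
    simp only [hF, ← mul_assoc]
    rw [cb i hac.symm, mul_assoc _ c, cb j hbc.symm, ← mul_assoc, mul_assoc _ c, two k hc]
  have lm : ∀ i j k l, m * F i j k l = F j i k (!l) := fun i j k l => by
    have h1 : m * bp a i = bp b i * m := by
      cases i
      exacts [(mul_one _).trans (one_mul _).symm, hma]
    have h2 : m * bp b j = bp a j * m := by
      cases j
      exacts [(mul_one _).trans (one_mul _).symm, hmb]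
    have h3 : bp b i * bp a j = bp a j * bp b i := by
      cases i <;> cases j <;> simp [bp, hab]
    simp only [hF, ← mul_assoc]
    rw [h1, mul_assoc (bp b i), h2, ← mul_assoc, h3, mul_assoc _ m, cb k hmc, ← mul_assoc,
      mul_assoc _ m, two l hm]
  have mul_mem' : ∀ i j k l, ∀ s, (∃ i j k l, F i j k l = s) →
      ∃ i' j' k' l', F i' j' k' l' = F i j k l * s := by
    intro i j k l s ⟨i2, j2, k2, l2, hs⟩
    subst hs
    have step : ∀ (v : K), (∀ i j k l, ∃ i' j' k' l', F i' j' k' l' = v * F i j k l) →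
        ∀ e, ∀ w, (∃ i j k l, F i j k l = w) → ∃ i j k l, F i j k l = bp v e * w := by
      rintro v hv e w ⟨i, j, k, l, rfl⟩
      cases e
      · exact ⟨i, j, k, l, (one_mul _).symm⟩
      · exact hv i j k l
    have h1 := step m (fun _ _ _ _ => ⟨_, _, _, _, (lm _ _ _ _).symm⟩) l _ ⟨i2, j2, k2, l2, rfl⟩
    have h2 := step c (fun _ _ _ _ => ⟨_, _, _, _, (lc _ _ _ _).symm⟩) k _ h1
    have h3 := step b (fun _ _ _ _ => ⟨_, _, _, _, (lb _ _ _ _).symm⟩) j _ h2
    obtain ⟨i3, j3, k3, l3, e⟩ := step a (fun _ _ _ _ => ⟨_, _, _, _, (la _ _ _ _).symm⟩) i _ h3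
    exact ⟨i3, j3, k3, l3, e.trans (by simp only [hF]; group)⟩
  let S : Submonoid K :=
    { carrier := {t | ∃ i j k l, F i j k l = t}
      one_mem' := ⟨false, false, false, false, by simp [hF, bp]⟩
      mul_mem' := by
        rintro _ s ⟨i, j, k, l, rfl⟩ hs
        exact mul_mem' i j k l s hs }
  exact ⟨{ S with
      inv_mem' := fun {g} hg => by
        obtain ⟨n, hn⟩ : ∃ n : ℕ, g⁻¹ = g ^ n :=
          ⟨orderOf g - 1, inv_eq_of_mul_eq_one_right (by
            rw [← pow_succ', Nat.sub_add_cancel (orderOf_pos g), pow_orderOf_eq_one])⟩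
        rw [hn]
        exact pow_mem (show g ∈ S from hg) n }, fun t => Iff.rfl⟩

namespace Outer

variable (O : Outer)

theorem b_out : O.b ∉ Inn M22g := fun h => O.a_out (by
  have e : O.a = (MulAut.conj O.s)⁻¹ * (O.b * MulAut.conj O.s) := by
    rw [O.b_eq, inv_mul_cancel_left]
  rw [e]
  exact mul_mem (inv_mem ⟨_, rfl⟩) (mul_mem h ⟨_, rfl⟩))

theorem out_of_conj {σ : MulAut M22g} (h : ∃ g : M22g, MulAut.conj g * O.a = σ * MulAut.conj g) :
    σ ∉ Inn M22g := fun hσ => O.a_out (by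
  obtain ⟨g, e⟩ := h
  rw [show O.a = (MulAut.conj g)⁻¹ * (MulAut.conj g * O.a) by group, e]
  exact mul_mem (inv_mem ⟨_, rfl⟩) (mul_mem hσ ⟨_, rfl⟩))

/-- The sixteen words are distinct automorphisms, given that the first three commute. -/
theorem word_ne (hbb : O.b * O.b = 1) (hcc : O.c * O.c = 1)
    (hbc : O.b * O.c = O.c * O.b) (hac : O.a * O.c = O.c * O.a) {i j k l : Bool}
    (h : bp O.a i * bp O.b j * bp O.c k * bp (MulAut.conj O.s) l = 1) :
    i = false ∧ j = false ∧ k = false ∧ l = false := by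
  have oa := O.a_out
  have ob := O.b_out
  have oc := O.out_of_conj O.c_conj
  have hs : MulAut.conj O.s ∈ Inn M22g := ⟨_, rfl⟩
  have one : (1 : MulAut M22g) ∈ Inn M22g := one_mem _
  have parity : ∀ {u : MulAut M22g} (w : MulAut M22g), u ∉ Inn M22g →
      (u * w ∈ Inn M22g ↔ w ∉ Inn M22g) := fun w hu => by
    rw [Subgroup.mul_mem_iff_of_index_two index_inn]; tauto
  have cone : (MulAut.conj (1 : M22g)) = 1 := map_one _
  have hab : O.a * O.b ≠ 1 := fun e =>
    O.indep.1 (conj_injective (O.ab.1.symm.trans (e.trans cone.symm)))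
  have hac1 : O.a * O.c ≠ 1 := fun e =>
    O.indep.2.1 (conj_injective (O.ac.1.symm.trans (e.trans cone.symm)))
  have hs1 : MulAut.conj O.s ≠ 1 := fun e => O.indep.2.2.2.1 (conj_injective (e.trans cone.symm))
  have sinv : MulAut.conj O.s * MulAut.conj O.s = 1 := by rw [← map_mul, O.s_sq, map_one]
  have key : ∀ x : MulAut M22g, x * MulAut.conj O.s = 1 → MulAut.conj O.s = x := fun x e =>
    ((eq_inv_of_mul_eq_one_left e).trans (inv_eq_of_mul_eq_one_right sinv)).symm
  have hne : O.a ≠ O.b := fun e => hab (by rw [← e]; exact O.a_sq)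
  have habs : O.a * O.b * MulAut.conj O.s ≠ 1 := fun e => by
    rw [O.ab.1, ← map_mul] at e
    have h1 : O.p * O.s = 1 := conj_injective (e.trans cone.symm)
    exact O.indep.2.2.2.2 (mul_left_cancel (h1.trans O.ab.2.symm))
  have hacs : O.a * O.c * MulAut.conj O.s ≠ 1 := fun e => by
    have hse : MulAut.conj O.s = O.a * O.c := key _ e
    refine hne ?_
    have hb := O.b_eq
    rw [hse] at hb
    have : O.b * (O.a * O.c) = O.a * (O.a * O.c) := by
      rw [hb, show O.a * O.c * O.a = O.a * (O.c * O.a) by group, ← hac]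
    exact (mul_right_cancel this).symm
  have hbcs : O.b * O.c * MulAut.conj O.s ≠ 1 := fun e => by
    have hse : MulAut.conj O.s = O.b * O.c := key _ e
    refine hne ?_
    have hb := O.b_eq
    rw [hse] at hb
    have : O.b * O.c * O.a = O.b * O.c * O.b := by
      rw [← hb, mul_assoc O.b O.c O.b, ← hbc]
    exact mul_left_cancel this
  cases i <;> cases j <;> cases k <;> cases l <;>
    simp only [bp, cond_true, cond_false, mul_one, one_mul] at h <;>
    first
      | exact ⟨rfl, rfl, rfl, rfl⟩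
      | exact absurd h hab | exact absurd h hac1 | exact absurd h O.indep.2.2.1
      | exact absurd h hs1 | exact absurd h habs | exact absurd h hacs | exact absurd h hbcs
      | (exfalso; rw [← h] at one
         try simp only [mul_assoc, parity _ oa, parity _ ob, parity _ oc] at one
         tauto)

end Outer

namespace Cent

namespace Coord

variable {H : Type*} [Group H] [Finite H] {C : Cent H} (D : C.Coord) (O : Outer)
include D

/-- No element fixed like the first outer involution has the central involution as commutator. -/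
theorem sq_a {n : H} (hn : n ∈ Subgroup.normalizer (C.P : Set H)) (hpr : C.pr n = O.a)
    (hsplit : ∀ n ∈ Subgroup.normalizer (D.R : Set H), C.pr n ∉ Inn M22g → n * n = C.z →
      ∃ a ∈ D.R, n * a * n⁻¹ * a⁻¹ = C.z) : n * n = 1 := by
  have ho : C.pr n ∉ Inn M22g := hpr ▸ O.a_out
  have hzz := C.outer_sq hn ho (by rw [hpr, O.a_sq])
  refine hzz.resolve_right fun hzn => ?_
  have hhex : ∀ m ∈ hexadGroup, C.pr n m ∈ hexadGroup := hpr ▸ O.stab.1.1
  obtain ⟨a, ha, hcom⟩ := hsplit n (D.mem_normalizer_R.2 hhex) ho hzn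
  obtain ⟨w, hw, c, ⟨m, hm, hl, hz⟩, rfl⟩ := ha
  have hfix : C.pr n m = m := by
    have h := congrArg C.pr hcom
    simp only [map_mul, map_inv, MonoidHom.mem_ker.1 (C.E_le hw.1), one_mul, hl.2,
      MonoidHom.mem_ker.1 C.z_ker] at h
    apply conj_injective
    rw [mul_inv_eq_one] at h
    rw [← h]
    refine MulEquiv.ext fun y => ?_
    simp
  obtain ⟨u, hu, hmu⟩ := O.cb m hm (hpr ▸ hfix)
  obtain ⟨c1, hc1, l1⟩ := C.exists_two hu (hexad_sq hu)
  set c1' := n * c1 * n⁻¹ with hc1'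
  have hc1'2 : C.Two hexadGroup c1' := C.conj_two hn hhex hc1
  obtain ⟨⟨m', hm', lm', zm'⟩, -⟩ := C.two_mul (fun m hm => hexad_sq hm) hc1 hc1'2
  have hl' : C.Lift (c1 * c1') m := ⟨lm'.1, by
    rw [hc1', map_mul, map_mul, map_mul, map_inv, l1.2, hmu, map_mul, hpr]
    refine MulEquiv.ext fun y => ?_
    simp⟩
  have comm : ∀ {x y : H}, C.Two hexadGroup x → C.Two hexadGroup y → x * y = y * x :=
    fun {x y} hx hy => D.R_comm ⟨1, one_mem _, x, hx, (one_mul x).symm⟩
      ⟨1, one_mem _, y, hy, (one_mul y).symm⟩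
  have hfixc' : n * (c1 * c1') * n⁻¹ = c1 * c1' := by
    rw [show n * (c1 * c1') * n⁻¹ = c1' * ((n * n) * c1 * (n * n)⁻¹) by rw [hc1']; group,
      ← IsZ.comm C hzz c1, mul_inv_cancel_right, comm hc1'2 hc1]
  have hfixc : n * c * n⁻¹ = c := by
    rcases C.two_unique hl' hl zm' hz with e | e <;> rw [e]
    · exact hfixc'
    · rw [show n * (c1 * c1' * C.z) * n⁻¹ = n * (c1 * c1') * (C.z * n⁻¹) by group,
        ← C.central n⁻¹, ← mul_assoc, hfixc']
  have hw' : n * w * n⁻¹ = C.z * w := by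
    rw [show n * (w * c) * n⁻¹ * (w * c)⁻¹ = n * w * n⁻¹ * (n * c * n⁻¹) * c⁻¹ * w⁻¹ by group,
      hfixc, mul_inv_cancel_right, mul_inv_eq_iff_eq_mul] at hcom
    exact hcom
  set w1 := C.x * w * C.x⁻¹ with hw1
  set w2 := C.x * w1 * C.x⁻¹ with hw2
  have m1 : w1 ∈ D.Wt := ⟨C.normal _ _ hw.1, by rw [← D.ρ_ψ _ _ hw.1]; exact D.fixB_x hw.2⟩
  have m2 : w2 ∈ D.Wt := ⟨C.normal _ _ m1.1, by rw [← D.ρ_ψ _ _ m1.1]; exact D.fixB_x m1.2⟩
  have hψp : D.ψ (w * w1 * w2) = 0 := by
    rw [D.mul _ (mul_mem hw.1 m1.1) _ m2.1, D.mul _ hw.1 _ m1.1, hw2, ← D.ρ_ψ _ _ m1.1, hw1,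
      ← D.ρ_ψ _ _ hw.1]
    exact D.x_sum _
  have hpz : C.IsZ (w * w1 * w2) := (D.eq_zero _ (mul_mem (mul_mem hw.1 m1.1) m2.1)).1 hψp
  have hx3 : C.x * C.x = C.x⁻¹ := (inv_eq_of_mul_eq_one_right (by
    rw [← C.pow_three C.x_mem]; simp [pow_succ, mul_assoc])).symm
  have hxn : n * C.x * n⁻¹ = C.x⁻¹ := C.outer_inverts hn ho
  have ew1 : n * w1 * n⁻¹ = C.z * w2 := by
    rw [hw1, show n * (C.x * w * C.x⁻¹) * n⁻¹ =
      (n * C.x * n⁻¹) * (n * w * n⁻¹) * (n * C.x * n⁻¹)⁻¹ by group, hxn, hw', inv_inv, ← mul_assoc,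
      C.central, hw2, hw1, mul_assoc C.z,
      show C.x * (C.x * w * C.x⁻¹) * C.x⁻¹ = (C.x * C.x) * w * (C.x * C.x)⁻¹ by group, hx3, inv_inv,
      mul_assoc C.z]
  have ew2 : n * w2 * n⁻¹ = C.z * w1 := by
    rw [hw2, show n * (C.x * w1 * C.x⁻¹) * n⁻¹ =
      (n * C.x * n⁻¹) * (n * w1 * n⁻¹) * (n * C.x * n⁻¹)⁻¹ by group, hxn, ew1, inv_inv, ← mul_assoc,
      C.central, hw2, mul_assoc C.z, mul_assoc C.z]
    congr 1
    group
  have hcz : ∀ g : H, g * C.z = C.z * g := C.central
  have e1 : n * (w * w1 * w2) * n⁻¹ = w * w1 * w2 := by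
    rw [IsZ.comm C hpz n, mul_inv_cancel_right]
  have e2 : n * (w * w1 * w2) * n⁻¹ = C.z * (w * w1 * w2) := by
    rw [show n * (w * w1 * w2) * n⁻¹ = n * w * n⁻¹ * (n * w1 * n⁻¹) * (n * w2 * n⁻¹) by group,
      hw', ew1, ew2]
    calc C.z * w * (C.z * w2) * (C.z * w1) = C.z * (w * C.z) * (w2 * C.z) * w1 := by group
      _ = C.z * (C.z * w) * (C.z * w2) * w1 := by rw [hcz, hcz]
      _ = C.z * C.z * (w * C.z) * (w2 * w1) := by group
      _ = C.z * (w * w1 * w2) := by
        rw [C.z_sq, one_mul, hcz, D.Wt_comm m2 m1]; group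
  exact C.z_ne (mul_eq_right.1 (e2.symm.trans e1))

/-- A subgroup of order sixteen over the stabiliser of the two hexad subgroups. -/
theorem exists_frame (hsplit : ∀ n ∈ Subgroup.normalizer (D.R : Set H), C.pr n ∉ Inn M22g →
    n * n = C.z → ∃ a ∈ D.R, n * a * n⁻¹ * a⁻¹ = C.z) :
    ∃ T : Subgroup H, T ≤ Subgroup.normalizer (C.P : Set H) ∧
      T ≤ Subgroup.normalizer (D.R : Set H) ∧
      (∀ t ∈ T, Stab O.c0 (C.pr t)) ∧ Nat.card T = 16 ∧ ∀ t ∈ T, C.pr t = 1 → t = 1 := by
  obtain ⟨na, hna, pna⟩ := C.exists_over O.a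
  have qa : na * na = 1 := D.sq_a O hna pna hsplit
  have oa : C.pr na ∉ Inn M22g := pna ▸ O.a_out
  have cmap : ∀ {c : H} {g : M22g} {σ : MulAut M22g}, C.Lift c g →
      MulAut.conj g * O.a = σ * MulAut.conj g →
      c * na * c⁻¹ ∈ Subgroup.normalizer (C.P : Set H) ∧ C.pr (c * na * c⁻¹) = σ ∧
        c * na * c⁻¹ * (c * na * c⁻¹) = 1 := fun {c g σ} hc e => by
    refine ⟨mul_mem (mul_mem (C.lift_normalizer hc) hna) (inv_mem (C.lift_normalizer hc)), ?_, ?_⟩
    · rw [map_mul, map_mul, map_inv, pna, hc.2, e, mul_inv_cancel_right]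
    · rw [show c * na * c⁻¹ * (c * na * c⁻¹) = c * (na * na) * c⁻¹ by group, qa, mul_one,
        mul_inv_cancel]
  obtain ⟨m, hm2, hm⟩ := C.exists_two (B := ⊤) (Subgroup.mem_top O.s) O.s_sq
  obtain ⟨_, -, -, zm⟩ := hm2
  have qm : m * m = 1 := D.lift_sq_one hm O.s_sq zm
  have mi : m⁻¹ = m := inv_eq_of_mul_eq_one_right qm
  obtain ⟨nbN, pnb, qb⟩ := cmap hm O.b_eq.symm
  rw [mi] at nbN pnb qb
  set nb := m * na * m with hnb
  have ob : C.pr nb ∉ Inn M22g := pnb ▸ O.b_out
  have hma : m * na = nb * m := by rw [hnb, mul_assoc _ m m, qm, mul_one]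
  -- the first two commute
  have hab : na * nb = nb * na := by
    set q := na * nb with hq
    have lq : C.Lift q O.p := ⟨C.mul_CP_of_outer hna nbN oa ob, by rw [hq, map_mul, pna, pnb, O.ab.1]⟩
    have hl2 := Lift.mul C lq lq
    rw [O.ab.2] at hl2
    have hi : m * q * m = q⁻¹ := by
      rw [mul_inv_rev, inv_eq_of_mul_eq_one_right qa, inv_eq_of_mul_eq_one_right qb, hq, hnb]
      calc m * (na * (m * na * m)) * m = m * na * m * na * (m * m) := by group
        _ = m * na * m * na := by rw [qm, mul_one]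
    have hk : (q * q) * (q * q) = 1 := by
      obtain ⟨hcomm, -⟩ := C.mem_center_part (Lift.mem_ker C hl2) hl2.1
      have h1 : m * (q * q) * m = (q * q)⁻¹ := by
        rw [show m * (q * q) * m = (m * q) * 1 * (q * m) by group, ← qm,
          show m * q * (m * m) * (q * m) = (m * q * m) * (m * q * m) by group, hi, ← mul_inv_rev]
      rw [hcomm m hm.1, mul_assoc, qm, mul_one] at h1
      nth_rewrite 2 [h1]
      exact mul_inv_cancel _
    have h1 := D.lift_sq_one lq O.ab.2 (C.isZ_sq_of_inv (Lift.mem_ker C hl2) hl2.1 hk)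
    calc q = q⁻¹ := (inv_eq_of_mul_eq_one_right h1).symm
      _ = nb * na := by
        rw [mul_inv_rev, inv_eq_of_mul_eq_one_right qa, inv_eq_of_mul_eq_one_right qb]
  -- the third
  obtain ⟨gc, egc⟩ := O.c_conj
  obtain ⟨cc, hcc⟩ := C.exists_lift gc
  obtain ⟨nc0N, pnc0, qc0⟩ := cmap hcc egc
  obtain ⟨nc, ncN, pnc, qc, hac⟩ := C.exists_adjust D hna nc0N oa
    (pnc0 ▸ O.out_of_conj O.c_conj) qa qc0 (by rw [pna, pnc0, O.ac.1]) O.ac.2
  rw [pnc0] at pnc
  have oc : C.pr nc ∉ Inn M22g := pnc ▸ O.out_of_conj O.c_conj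
  have mN := C.lift_normalizer hm
  obtain ⟨u, hu, hmc⟩ : ∃ u, C.IsZ u ∧ m * nc * m = nc * u := by
    refine ⟨nc⁻¹ * (m * nc * m), ?_, by group⟩
    set u := nc⁻¹ * (m * nc * m) with hu
    have hk : u ∈ C.pr.ker := MonoidHom.mem_ker.2 (by
      rw [hu, map_mul, map_mul, map_mul, map_inv, pnc, hm.2, ← O.sc, mul_assoc O.c, ← map_mul,
        O.s_sq, map_one, mul_one, inv_mul_cancel])
    have hc : u ∈ C.CP := C.ker_normalizer hk (mul_mem (inv_mem ncN) (mul_mem (mul_mem mN ncN) mN))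
    obtain ⟨hcomm, -⟩ := C.mem_center_part hk hc
    refine C.isZ_sq_of_inv hk hc ?_
    have h1 : m * nc * m = nc * u := by rw [hu]; group
    have h2 : nc = nc * u * u := by
      calc nc = (m * m) * nc * (m * m) := by rw [qm, one_mul, mul_one]
        _ = m * (m * nc * m) * m := by group
        _ = m * (nc * u) * m := by rw [h1]
        _ = (m * nc * m) * u := by
          rw [show m * (nc * u) * m = m * nc * (u * m) by group, ← hcomm m hm.1]; group
        _ = nc * u * u := by rw [h1]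
    exact mul_eq_left.1 (show nc * (u * u) = nc by rw [← mul_assoc]; exact h2.symm)
  have hbc : nb * nc = nc * nb := by
    have e : m * na * m * (m * nc * m) = m * nc * m * (m * na * m) := by
      rw [show m * na * m * (m * nc * m) = m * na * (m * m) * nc * m by group,
        show m * nc * m * (m * na * m) = m * nc * (m * m) * na * m by group, qm, mul_one, mul_one,
        mul_assoc m na nc, hac, ← mul_assoc]
    rw [← hnb, hmc, ← mul_assoc, mul_assoc nc u nb, ← IsZ.comm C hu nb, ← mul_assoc] at e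
    exact mul_right_cancel e
  -- the fourth, which shows that the inner involution commutes with the third
  obtain ⟨gd, egd⟩ := O.d_conj
  obtain ⟨cd, hcd⟩ := C.exists_lift gd
  obtain ⟨nd0N, pnd0, qd0⟩ := cmap hcd egd
  obtain ⟨nd, ndN, pnd, qd, hcd'⟩ := C.exists_adjust D ncN nd0N oc
    (pnd0 ▸ O.out_of_conj O.d_conj) qc qd0 (by rw [pnc, pnd0, O.cd.1]) O.cd.2
  rw [pnd0] at pnd
  have od : C.pr nd ∉ Inn M22g := pnd ▸ O.out_of_conj O.d_conj
  have hq0 : na * nb * (na * nb) = 1 := by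
    rw [show na * nb * (na * nb) = na * (nb * na) * nb by group, ← hab, ← mul_assoc na na, qa,
      one_mul, qb]
  have lm' : C.Lift (nd * (na * nb) * nd) O.s := by
    have hpr : C.pr (nd * (na * nb)) = O.d * MulAut.conj O.p := by
      rw [map_mul, map_mul, pnd, pna, pnb, O.ab.1]
    refine ⟨C.mul_CP_of_outer (mul_mem ndN (mul_mem hna nbN)) ndN ?_ od, ?_⟩
    · rw [hpr]
      intro h
      refine O.out_of_conj O.d_conj ?_
      rw [show O.d = O.d * MulAut.conj O.p * (MulAut.conj O.p)⁻¹ by group]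
      exact mul_mem h (inv_mem ⟨_, rfl⟩)
    · rw [map_mul, hpr, pnd, O.swap, mul_assoc, ← pnd, ← map_mul, qd, map_one, mul_one]
  have q' : nd * (na * nb) * nd * (nd * (na * nb) * nd) = 1 := by
    rw [show nd * (na * nb) * nd * (nd * (na * nb) * nd) =
      nd * ((na * nb) * (nd * nd) * (na * nb)) * nd by group, qd, mul_one, hq0, mul_one, qd]
  have hmc : m * nc = nc * m := by
    have hcomm : Commute nc (nd * (na * nb) * nd) :=
      ((Commute.mul_right hcd' (Commute.mul_right hac.symm hbc.symm)).mul_right hcd')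
    rcases C.two_unique lm' hm (Or.inl q') (Or.inl qm) with e | e <;> rw [e]
    · exact hcomm.eq.symm
    · exact ((hcomm.mul_right (C.central nc)).eq).symm
  obtain ⟨T, hT⟩ := exists_words qa qb qc qm hab hac hbc hma hmc
  have stab_mul : ∀ {σ τ : MulAut M22g}, Stab O.c0 σ → Stab O.c0 τ → Stab O.c0 (σ * τ) :=
    fun hσ hτ => ⟨fun x hx => hσ.1 _ (hτ.1 x hx), fun x hx => hσ.2 _ (hτ.2 x hx)⟩
  have stab_bp : ∀ {σ : MulAut M22g} (i : Bool), Stab O.c0 σ → Stab O.c0 (bp σ i) := fun i h => by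
    cases i
    exacts [⟨fun x hx => hx, fun x hx => hx⟩, h]
  have hpr : ∀ i j k l, C.pr (bp na i * bp nb j * bp nc k * bp m l) =
      bp O.a i * bp O.b j * bp O.c k * bp (MulAut.conj O.s) l := fun i j k l => by
    simp only [map_mul, map_bp, pna, pnb, pnc, hm.2]
  have hst : ∀ t ∈ T, Stab O.c0 (C.pr t) := fun t ht => by
    obtain ⟨i, j, k, l, rfl⟩ := (hT t).1 ht
    rw [hpr]
    obtain ⟨sa, sb, sc, -, ss⟩ := O.stab
    exact stab_mul (stab_mul (stab_mul (stab_bp i sa) (stab_bp j sb)) (stab_bp k sc)) (stab_bp l ss)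
  have hinj : ∀ t ∈ T, C.pr t = 1 → t = 1 := fun t ht h1 => by
    obtain ⟨i, j, k, l, rfl⟩ := (hT t).1 ht
    rw [hpr] at h1
    have e1 : O.b * O.b = 1 := by rw [← pnb, ← map_mul, qb, map_one]
    have e2 : O.c * O.c = 1 := by rw [← pnc, ← map_mul, qc, map_one]
    have e3 : O.b * O.c = O.c * O.b := by rw [← pnb, ← pnc, ← map_mul, hbc, map_mul]
    have e4 : O.a * O.c = O.c * O.a := by rw [← pna, ← pnc, ← map_mul, hac, map_mul]
    obtain ⟨rfl, rfl, rfl, rfl⟩ := O.word_ne e1 e2 e3 e4 h1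
    simp [bp]
  refine ⟨T, ?_, fun t ht => D.mem_normalizer_R.2 (hst t ht).1, hst, ?_, hinj⟩
  · intro t ht
    obtain ⟨i, j, k, l, rfl⟩ := (hT t).1 ht
    have hb : ∀ {x : H} (i : Bool), x ∈ Subgroup.normalizer (C.P : Set H) →
        bp x i ∈ Subgroup.normalizer (C.P : Set H) := fun i h => by
      cases i
      exacts [one_mem _, h]
    exact mul_mem (mul_mem (mul_mem (hb i hna) (hb j nbN)) (hb k ncN)) (hb l mN)
  · let f : Bool × Bool × Bool × Bool → T := fun p =>
      ⟨bp na p.1 * bp nb p.2.1 * bp nc p.2.2.1 * bp m p.2.2.2, (hT _).2 ⟨_, _, _, _, rfl⟩⟩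
    rw [← Nat.card_eq_of_bijective f ⟨?_, fun t => by
      obtain ⟨i, j, k, l, e⟩ := (hT t).1 t.2
      exact ⟨(i, j, k, l), Subtype.ext e⟩⟩]
    · simp
    rintro ⟨i, j, k, l⟩ ⟨i', j', k', l'⟩ h
    have h1 : bp na i * bp nb j * bp nc k * bp m l =
        bp na i' * bp nb j' * bp nc k' * bp m l' := congrArg Subtype.val h
    have cc : ∀ {u v : H} (e e' : Bool), u * v = v * u → bp u e * bp v e' = bp v e' * bp u e :=
      fun e e' he => by cases e <;> cases e' <;> simp [bp, he]
    have two : ∀ {v : H} (e e' : Bool), v * v = 1 → bp v e * bp v e' = bp v (xor e e') :=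
      fun e e' he => by cases e <;> cases e' <;> simp [bp, he]
    have xmul : ∀ i j k i' j' k', bp na i * bp nb j * bp nc k * (bp na i' * bp nb j' * bp nc k') =
        bp na (xor i i') * bp nb (xor j j') * bp nc (xor k k') := fun i j k i' j' k' => by
      rw [← two i i' qa, ← two j j' qb, ← two k k' qc]
      calc bp na i * bp nb j * bp nc k * (bp na i' * bp nb j' * bp nc k')
          = bp na i * bp nb j * (bp nc k * bp na i') * bp nb j' * bp nc k' := by group
        _ = bp na i * (bp nb j * bp na i') * (bp nc k * bp nb j') * bp nc k' := by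
          rw [← cc i' k hac]; group
        _ = _ := by rw [← cc i' j hab, ← cc j' k hbc]; group
    have self : ∀ e : Bool, xor e e = false := fun e => by cases e <;> rfl
    have h0 : bp na (xor i' i) * bp nb (xor j' j) * bp nc (xor k' k) * bp m (xor l l') = 1 := by
      rw [← xmul, ← two l l' qm, ← mul_assoc, mul_assoc _ _ (bp m l), h1, ← mul_assoc, xmul,
        self, self, self, mul_assoc _ (bp m l'), two l' l' qm, self]
      simp [bp]
    obtain ⟨e1, e2, e3, e4⟩ := O.word_ne (by rw [← pnb, ← map_mul, qb, map_one])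
      (by rw [← pnc, ← map_mul, qc, map_one]) (by rw [← pnb, ← pnc, ← map_mul, hbc, map_mul])
      (by rw [← pna, ← pnc, ← map_mul, hac, map_mul]) (by rw [← hpr, h0, map_one])
    simp at e1 e2 e3 e4
    rw [e1, e2, e3, e4]

end Coord

end Cent

end CfsgLib.JFourEleven
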