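import Cfsg.Agent.JFourEleven.Fixed

/-!
# The elementary abelian subgroup of order `2 ^ 11`
-/

set_option autoImplicit false

namespace CfsgLib.JFourEleven

open Cfsg CfsgLib.JFourType Module

theorem exists_ne_hexad : ∃ m ∈ hexadGroup, m ≠ (1 : M22g) := by
  by_contra! hcon
  have h := card_hexadGroup
  rw [(Subgroup.eq_bot_iff_forall hexadGroup).2 hcon, Subgroup.card_bot] at h
  norm_num at h


namespace Cent

variable {H : Type*} [Group H] {C : Cent H}

namespace Coord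

variable (D : C.Coord)

/-- The fixed space of the hexad subgroup. -/
abbrev W : Submodule (ZMod 2) Vec := D.fixB hexadGroup

variable [Finite H]

include D

/-- An invariant subspace has dimension zero, six or twelve. -/
theorem dvd_of_invariant (U : Submodule (ZMod 2) Vec)
    (hU : ∀ (c : H) (d : M22g), C.Lift c d → d ∈ Subgroup.normalizer (hexadGroup : Set M22g) →
      ∀ v ∈ U, D.ρ c v ∈ U)
    (hUx : ∀ v ∈ U, D.ρ C.x v ∈ U) :
    finrank (ZMod 2) U = 0 ∨ finrank (ZMod 2) U = 6 ∨ finrank (ZMod 2) U = 12 := by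
  obtain ⟨a, b, cb, ha, hb, oa, lb, hrel⟩ := C.exists_triple
  obtain ⟨c, hc, c3⟩ := C.exists_three oa
  have h3 : (D.ρ c) ^ 3 = 1 := by rw [← map_pow, c3, map_one]
  have h := D.triple_dim hc lb (hrel c hc) h3 U (hU c a hc ha) hUx (hU cb b lb hb)
  -- the fixed part has even dimension
  have hev : 2 ∣ finrank (ZMod 2) ↥(U ⊓ fixed (D.ρ c)) := by
    refine two_dvd_of_three (dvd_two_pow_sub_one Nat.prime_three (t := D.ρ C.x) ?_ _ ?_
      fun v _ hv => D.x_fixed hv)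
    · rw [← map_pow, C.pow_three C.x_mem, map_one]
    · intro v hv
      refine ⟨hUx v hv.1, mem_fixed.2 ?_⟩
      rw [D.ρ_apply_apply, ← C.P_comm_CP C.x_mem hc.1 |>.symm, ← D.ρ_apply_apply,
        mem_fixed.1 hv.2]
  have hle : finrank (ZMod 2) U ≤ 12 :=
    (Submodule.finrank_le _).trans (finrank_fin_fun (ZMod 2)).le
  omega

theorem W_lift {c : H} {d : M22g} (hc : C.Lift c d)
    (hd : d ∈ Subgroup.normalizer (hexadGroup : Set M22g)) {v : Vec} (hv : v ∈ D.W) :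
    D.ρ c v ∈ D.W := D.fixB_lift hc hd hv

theorem two_le_normalizer {c : H} (hc : C.Two hexadGroup c) :
    ∃ d ∈ Subgroup.normalizer (hexadGroup : Set M22g), C.Lift c d := by
  obtain ⟨m, hm, hl, -⟩ := hc
  exact ⟨m, Subgroup.le_normalizer hm, hl⟩

theorem W_ne_bot : D.W ≠ ⊥ := by
  obtain ⟨v, -, hv0, hv⟩ := D.exists_fixB (fun m hm => hexad_sq hm) ⊤
    (fun _ _ _ _ => Submodule.mem_top) (by simp)
  exact fun h => hv0 ((Submodule.mem_bot (R := ZMod 2)).1 (h ▸ hv))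

theorem finrank_W : finrank (ZMod 2) D.W = 6 := by
  rcases D.dvd_of_invariant D.W (fun c d hc hd v hv => D.W_lift hc hd hv)
    (fun v hv => D.fixB_x hv) with h | h | h
  · exact absurd (Submodule.finrank_eq_zero.1 h) D.W_ne_bot
  · exact h
  · exfalso
    have htop : D.W = ⊤ := Submodule.eq_top_of_finrank_eq (by rw [h, finrank_fin_fun])
    obtain ⟨m, hm, h1⟩ := exists_ne_hexad
    obtain ⟨c, hc, hl⟩ := C.exists_two hm (hexad_sq hm)
    have hρ : D.ρ c = 1 := LinearMap.ext fun v =>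
      D.mem_fixB.1 (htop ▸ Submodule.mem_top : v ∈ D.W) c hc
    have := C.E_le (D.mem_E_of_ρ hρ)
    rw [MonoidHom.mem_ker, hl.2, ← map_one MulAut.conj] at this
    exact h1 (conj_injective this)

theorem orth_W : D.B.orthogonal D.W = D.W := by
  have hinv : ∀ (c : H) (d : M22g), C.Lift c d →
      d ∈ Subgroup.normalizer (hexadGroup : Set M22g) →
      ∀ v ∈ D.B.orthogonal D.W, D.ρ c v ∈ D.B.orthogonal D.W := fun c d hc hd =>
    D.orth_invariant fun v hv => D.W_lift (Lift.inv C hc) (inv_mem hd) hv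
  have hxinv : ∀ v ∈ D.B.orthogonal D.W, D.ρ C.x v ∈ D.B.orthogonal D.W :=
    hinv C.x 1 ⟨C.x_CP, by rw [MonoidHom.mem_ker.1 (C.P_le C.x_mem), map_one]⟩ (one_mem _)
  have hI := D.dvd_of_invariant (D.W ⊓ D.B.orthogonal D.W)
    (fun c d hc hd v hv => ⟨D.W_lift hc hd hv.1, hinv c d hc hd v hv.2⟩)
    (fun v hv => ⟨D.fixB_x hv.1, hxinv v hv.2⟩)
  have hle : finrank (ZMod 2) ↥(D.W ⊓ D.B.orthogonal D.W) ≤ 6 :=
    D.finrank_W ▸ Submodule.finrank_mono inf_le_left
  have horth : finrank (ZMod 2) (D.B.orthogonal D.W) = 6 := by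
    rw [D.finrank_orth, D.finrank_W]
  rcases hI with h | h | h
  · exfalso
    obtain ⟨v, hv, hv0, hvW⟩ := D.exists_fixB (fun m hm => hexad_sq hm) (D.B.orthogonal D.W)
      (fun c hc => by
        obtain ⟨d, hd, hl⟩ := D.two_le_normalizer hc
        exact hinv c d hl hd)
      (fun e => by rw [e, finrank_bot] at horth; omega)
    exact hv0 ((Submodule.mem_bot (R := ZMod 2)).1
      (Submodule.finrank_eq_zero.1 h ▸ ⟨hvW, hv⟩))
  · exact (Submodule.eq_of_le_of_finrank_le inf_le_right (by omega)).symm.trans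
      (Submodule.eq_of_le_of_finrank_le inf_le_left (by rw [h, D.finrank_W]))
  · omega

/-- The fixed space of a pentad subgroup is small and lies in that of a hexad subgroup. -/
theorem pentad_fix : finrank (ZMod 2) (D.fixB pentadGroup) ≤ 4 ∧ D.fixB pentadGroup ≤ D.W := by
  set X := D.fixB pentadGroup with hX
  by_cases hbot : X = ⊥
  · rw [hbot, finrank_bot]; exact ⟨by omega, bot_le⟩
  obtain ⟨f0, g0, h0, hf, hg, hh, hf5, hgf, hgen⟩ := exists_pentad_gen
  obtain ⟨cf', lf'⟩ := C.exists_lift f0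
  obtain ⟨cg, lg⟩ := C.exists_lift g0
  obtain ⟨ch, lh⟩ := C.exists_lift h0
  set cf := cf' ^ 6 with hcf
  have lf : C.Lift cf f0 := by
    have := Lift.pow C lf' 6
    rwa [show f0 ^ 6 = f0 by rw [pow_succ, hf5, one_mul]] at this
  have cf5 : cf ^ 5 = 1 := by
    have h := Lift.pow C lf' 5
    rw [hf5] at h
    rw [hcf, ← pow_mul, show 6 * 5 = 5 * 6 by norm_num, pow_mul]
    exact (C.mem_center_part (Lift.mem_ker C h) h.1).2
  have hrel : cg * cf * cg⁻¹ = cf * cf := by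
    set k := (cf * cf)⁻¹ * (cg * cf * cg⁻¹) with hk
    have hkl : C.Lift k ((f0 * f0)⁻¹ * (g0 * f0 * g0⁻¹)) :=
      Lift.mul C (Lift.inv C (Lift.mul C lf lf)) (Lift.conj C lg lf)
    rw [hgf, inv_mul_cancel] at hkl
    obtain ⟨hcomm, hk6⟩ := C.mem_center_part (Lift.mem_ker C hkl) hkl.1
    have e : cg * cf * cg⁻¹ = cf * cf * k := by rw [hk, mul_inv_cancel_left]
    have h5 := congrArg (fun w => w ^ 5) e
    simp only [conj_pow, cf5, mul_one, mul_inv_cancel] at h5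
    have hck : Commute (cf * cf) k := hcomm _ (mul_mem lf.1 lf.1)
    have hff : Commute cf cf := Commute.refl cf
    rw [hck.mul_pow, hff.mul_pow, cf5, one_mul, one_mul] at h5
    have hk1 : k = 1 := by
      have : k = k ^ 6 * (k ^ 5)⁻¹ := by rw [pow_succ' k 5, mul_inv_cancel_right]
      rw [this, hk6, ← h5, inv_one, one_mul]
    rw [e, hk1, mul_one]
  have hrelρ : D.ρ cg * D.ρ cf = D.ρ cf * D.ρ cf * D.ρ cg := by
    rw [← map_mul, ← map_mul, ← map_mul, ← mul_inv_eq_iff_eq_mul.1 hrel]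
  have hρ5 : (D.ρ cf) ^ 5 = 1 := by rw [← map_pow, cf5, map_one]
  have five : ∀ U : Submodule (ZMod 2) Vec, (∀ v ∈ U, D.ρ cf v ∈ U) →
      (∀ v ∈ U, D.ρ cg v ∈ U) → (∀ v ∈ U, D.ρ C.x v ∈ U) →
      (∀ v ∈ U, D.ρ cf v = v) ∨ ∃ K : Submodule (ZMod 2) Vec, K ≤ U ∧ 8 ≤ finrank (ZMod 2) K ∧
        ∀ v ∈ K, D.ρ cf v = v → v = 0 :=
    five_trivial hρ5 D.x_sum (by rw [← map_mul, ← map_mul, C.P_comm_CP C.x_mem lf.1])
      (by rw [← map_mul, ← map_mul, C.P_comm_CP C.x_mem lg.1]) hrelρ fun v => D.ρ_injective cg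
  have Xinv : ∀ {c : H} {d : M22g}, C.Lift c d →
      d ∈ Subgroup.normalizer (pentadGroup : Set M22g) → ∀ v ∈ X, D.ρ c v ∈ X :=
    fun hc hd v hv => D.fixB_lift hc hd hv
  have hX8 : finrank (ZMod 2) X ≤ 8 := by
    obtain ⟨m, hm, h1⟩ : ∃ m ∈ pentadGroup, m ≠ (1 : M22g) := by
      by_contra! hcon
      have h := card_pentadGroup
      rw [(Subgroup.eq_bot_iff_forall pentadGroup).2 hcon, Subgroup.card_bot] at h
      norm_num at h
    obtain ⟨c, hc, hl⟩ := C.exists_two hm (pentad_sq hm)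
    have : Fact (Nat.Prime 2) := ⟨Nat.prime_two⟩
    have hz : C.IsZ (c * c) := by
      obtain ⟨_, -, -, hz⟩ := hc
      exact hz
    have h8 := D.fixed_two_le (orderOf_eq_prime (by rw [pow_two, pentad_sq hm]) h1) hl hz
    exact (Submodule.finrank_mono fun v hv =>
      show v ∈ fixed (D.ρ c) from mem_fixed.2 (D.mem_fixB.1 hv c hc)).trans h8
  have htriv : ∀ v ∈ X, D.ρ cf v = v := by
    refine (five X (Xinv lf hf) (Xinv lg hg) fun v hv => D.fixB_x hv).resolve_right ?_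
    rintro ⟨K, hKX, hK8, hKfix⟩
    have hKe : K = X := Submodule.eq_of_le_of_finrank_le hKX (by omega)
    set O := D.B.orthogonal X with hO
    have hOdim : finrank (ZMod 2) O = 4 := by
      rw [hO, D.finrank_orth]
      have := Submodule.finrank_mono hKX
      omega
    have Oinv : ∀ {c : H} {d : M22g}, C.Lift c d →
        d ∈ Subgroup.normalizer (pentadGroup : Set M22g) → ∀ v ∈ O, D.ρ c v ∈ O :=
      fun hc hd => D.orth_invariant fun v hv => Xinv (Lift.inv C hc) (inv_mem hd) v hv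
    have lx : C.Lift C.x (1 : M22g) :=
      ⟨C.x_CP, by rw [MonoidHom.mem_ker.1 (C.P_le C.x_mem), map_one]⟩
    obtain ⟨v, hv, hv0, hvX⟩ := D.exists_fixB (fun m hm => pentad_sq hm) O (fun c hc => by
      obtain ⟨m, hm, hl, -⟩ := hc
      exact Oinv hl (Subgroup.le_normalizer hm)) (fun e => by
        rw [e, finrank_bot] at hOdim; omega)
    rcases five O (Oinv lf hf) (Oinv lg hg) (Oinv lx (one_mem _)) with h | ⟨K', hK', hK'8, -⟩
    · exact hv0 (hKfix v (hKe ▸ hvX) (h v hv))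
    · have := Submodule.finrank_mono hK'
      omega
  -- the elements with a lift fixing the space
  let L : Subgroup M22g :=
    { carrier := {m | ∃ c, C.Lift c m ∧ ∀ v ∈ X, D.ρ c v = v}
      mul_mem' := fun ⟨c, hc, h⟩ ⟨d, hd, h'⟩ => ⟨c * d, Lift.mul C hc hd, fun v hv => by
        rw [map_mul, Module.End.mul_apply, h' v hv, h v hv]⟩
      one_mem' := ⟨1, ⟨one_mem _, by rw [map_one, map_one]⟩, fun v _ => by simp⟩
      inv_mem' := fun ⟨c, hc, h⟩ => ⟨c⁻¹, Lift.inv C hc, fun v hv => by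
        conv_lhs => rw [← h v hv, D.ρ_inv]⟩ }
  have hpL : pentadGroup ≤ L := fun m hm => by
    obtain ⟨c, hc, hl⟩ := C.exists_two hm (pentad_sq hm)
    exact ⟨c, hl, fun v hv => D.mem_fixB.1 hv c hc⟩
  have hfL : f0 ∈ L := ⟨cf, lf, htriv⟩
  have hqL : h0 * f0 * h0⁻¹ ∈ L := ⟨ch * cf * ch⁻¹, Lift.conj C lh lf, fun v hv => by
    have h1 : D.ρ ch⁻¹ v ∈ X := Xinv (Lift.inv C lh) (inv_mem hh) v hv
    rw [map_mul, map_mul, Module.End.mul_apply, Module.End.mul_apply, htriv _ h1,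
      D.ρ_apply_apply, mul_inv_cancel, map_one, Module.End.one_apply]⟩
  obtain ⟨hhex, m3, ⟨c3, hl3, hfix3⟩, hm3⟩ := hgen L hpL hfL hqL
  obtain ⟨v0, hv0, hne0⟩ := Submodule.exists_mem_ne_zero_of_ne_bot hbot
  refine ⟨?_, fun v hv => D.mem_fixB.2 fun c hc => ?_⟩
  · have hz := D.isZ_of_fix hl3 hne0 (hfix3 v0 hv0) (n := 3) (by rw [← hm3, pow_orderOf_eq_one])
    rw [← D.fixed_three hm3 hl3 (by rw [← map_pow, D.ρ_isZ hz])]
    exact Submodule.finrank_mono fun v hv => mem_fixed.2 (hfix3 v hv)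
  · obtain ⟨m, hm, hl, hz⟩ := hc
    obtain ⟨d, hdl, hdfix⟩ := hhex hm
    have hz' := D.isZ_of_fix hdl hne0 (hdfix v0 hv0) (n := 2) (by rw [pow_two, hexad_sq hm])
    rw [pow_two] at hz'
    rw [D.ρ_two_eq hdl hl hz' hz]
    exact hdfix v hv

/-- The preimage of the fixed space of the hexad subgroup. -/
def Wt : Subgroup H where
  carrier := {e | e ∈ C.E ∧ D.ψ e ∈ D.W}
  mul_mem' {a b} ha hb := ⟨mul_mem ha.1 hb.1, by
    rw [D.mul a ha.1 b hb.1]; exact add_mem ha.2 hb.2⟩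
  one_mem' := ⟨one_mem _, by rw [D.ψ_one]; exact zero_mem _⟩
  inv_mem' {a} ha := ⟨inv_mem ha.1, by
    have h := D.mul a⁻¹ (inv_mem ha.1) a ha.1
    rw [inv_mul_cancel, D.ψ_one] at h
    rw [eq_neg_of_add_eq_zero_left h.symm]
    exact neg_mem ha.2⟩

theorem mem_Wt {e : H} : e ∈ D.Wt ↔ e ∈ C.E ∧ D.ψ e ∈ D.W := Iff.rfl

theorem z_mem_Wt : C.z ∈ D.Wt := ⟨C.z_mem, by rw [D.zero_z]; exact zero_mem _⟩

theorem Wt_comm {u w : H} (hu : u ∈ D.Wt) (hw : w ∈ D.Wt) : u * w = w * u :=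
  (D.B_ψ u hu.1 w hw.1).1
    (D.orth_mem.1 (show D.ψ w ∈ D.B.orthogonal D.W by rw [D.orth_W]; exact hw.2) _ hu.2)

theorem card_Wt : Nat.card D.Wt = 128 := by
  classical
  choose sec hsec hsec' using D.surj
  let f : Fin 2 × D.W → D.Wt := fun p =>
    ⟨(if p.1 = 0 then 1 else C.z) * sec p.2.1, mul_mem (by
      split_ifs
      exacts [one_mem _, D.z_mem_Wt]) ⟨hsec _, by rw [hsec']; exact p.2.2⟩⟩
  have hψ : ∀ i v, D.ψ ((if i = (0 : Fin 2) then 1 else C.z) * sec v) = v := fun i v => by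
    split_ifs
    · rw [one_mul, hsec']
    · rw [D.mul _ C.z_mem _ (hsec v), D.zero_z, zero_add, hsec']
  have hf : Function.Bijective f := by
    constructor
    · rintro ⟨i, v⟩ ⟨j, w⟩ h
      have h' := congrArg Subtype.val h
      have e : v = w := by
        have h2 := congrArg D.ψ h'
        simp only [f, hψ] at h2
        exact Subtype.ext h2
      subst e
      have h3 : (if i = (0 : Fin 2) then (1 : H) else C.z) = if j = 0 then 1 else C.z :=
        mul_right_cancel h'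
      fin_cases i <;> fin_cases j <;> simp [C.z_ne, C.z_ne.symm] at h3 <;> rfl
    · rintro ⟨e, he, hW⟩
      rcases D.eq_of_ψ (hsec (D.ψ e)) he (hsec' _) with h | h
      · exact ⟨⟨0, _, hW⟩, Subtype.ext (by simp [f, ← h])⟩
      · exact ⟨⟨1, _, hW⟩, Subtype.ext (by simp [f, ← h])⟩
  rw [← Nat.card_eq_of_bijective f hf, Nat.card_prod, Nat.card_fin, card_submodule, D.finrank_W]
  norm_num

theorem two_comm_Wt {c w : H} (hc : C.Two hexadGroup c) (hw : w ∈ D.Wt) : c * w = w * c := by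
  have hfix : ∀ u ∈ D.Wt, c * u * c⁻¹ = u ∨ c * u * c⁻¹ = C.z * u := fun u hu =>
    D.eq_of_ψ hu.1 (C.normal c u hu.1) (by rw [← D.ρ_ψ c u hu.1, D.mem_fixB.1 hu.2 c hc])
  rcases hfix w hw with h | h
  · exact mul_inv_eq_iff_eq_mul.1 h
  exfalso
  obtain ⟨m, -, hl, -⟩ := hc
  have hcx : c * C.x = C.x * c := C.P_comm_CP C.x_mem hl.1
  set w1 := C.x * w * C.x⁻¹ with hw1
  set w2 := C.x * w1 * C.x⁻¹ with hw2
  have m1 : w1 ∈ D.Wt := ⟨C.normal _ _ hw.1, by rw [← D.ρ_ψ _ _ hw.1]; exact D.fixB_x hw.2⟩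
  have m2 : w2 ∈ D.Wt := ⟨C.normal _ _ m1.1, by rw [← D.ρ_ψ _ _ m1.1]; exact D.fixB_x m1.2⟩
  have hzx : C.x * C.z * C.x⁻¹ = C.z := by rw [C.central, mul_inv_cancel_right]
  have hx : ∀ u, c * u * c⁻¹ = C.z * u →
      c * (C.x * u * C.x⁻¹) * c⁻¹ = C.z * (C.x * u * C.x⁻¹) := fun u hu => by
    have hxi : C.x⁻¹ * c⁻¹ = c⁻¹ * C.x⁻¹ := by rw [← mul_inv_rev, ← mul_inv_rev, hcx]
    rw [show c * (C.x * u * C.x⁻¹) * c⁻¹ = (c * C.x) * u * (C.x⁻¹ * c⁻¹) by group, hcx, hxi,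
      show C.x * c * u * (c⁻¹ * C.x⁻¹) = C.x * (c * u * c⁻¹) * C.x⁻¹ by group, hu,
      show C.x * (C.z * u) * C.x⁻¹ = (C.x * C.z * C.x⁻¹) * (C.x * u * C.x⁻¹) by group, hzx]
  have h1 := hx w h
  have h2 := hx w1 h1
  set p := w * w1 * w2 with hp
  have hψp : D.ψ p = 0 := by
    rw [hp, D.mul _ (mul_mem hw.1 m1.1) _ m2.1, D.mul _ hw.1 _ m1.1, hw2, ← D.ρ_ψ _ _ m1.1, hw1,
      ← D.ρ_ψ _ _ hw.1]
    exact D.x_sum _
  have hpz := (D.eq_zero p (mul_mem (mul_mem hw.1 m1.1) m2.1)).1 hψp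
  have e1 : c * p * c⁻¹ = p := by rw [IsZ.comm C hpz c, mul_inv_cancel_right]
  have e2 : c * p * c⁻¹ = C.z * p := by
    rw [hp, show c * (w * w1 * w2) * c⁻¹ = (c * w * c⁻¹) * (c * w1 * c⁻¹) * (c * w2 * c⁻¹) by group,
      h, h1, h2, show C.z * w * (C.z * w1) * (C.z * w2) = C.z * (w * C.z) * w1 * (C.z * w2) by group,
      C.central w, show C.z * (C.z * w) * w1 * (C.z * w2) = (C.z * C.z) * ((w * w1) * C.z) * w2 by
        group, C.z_sq, one_mul, C.central (w * w1), mul_assoc]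
  exact C.z_ne (mul_eq_right.1 (e2.symm.trans e1))

theorem Wt_sq {w : H} (hw : w ∈ D.Wt) : w * w = 1 := by
  set w1 := C.x * w * C.x⁻¹ with hw1
  set w2 := C.x * w1 * C.x⁻¹ with hw2
  have m1 : w1 ∈ D.Wt := ⟨C.normal _ _ hw.1, by rw [← D.ρ_ψ _ _ hw.1]; exact D.fixB_x hw.2⟩
  have m2 : w2 ∈ D.Wt := ⟨C.normal _ _ m1.1, by rw [← D.ρ_ψ _ _ m1.1]; exact D.fixB_x m1.2⟩
  have hψp : D.ψ (w * w1 * w2) = 0 := by
    rw [D.mul _ (mul_mem hw.1 m1.1) _ m2.1, D.mul _ hw.1 _ m1.1, hw2, ← D.ρ_ψ _ _ m1.1, hw1,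
      ← D.ρ_ψ _ _ hw.1]
    exact D.x_sum _
  have hpz : C.IsZ (w * w1 * w2) :=
    (D.eq_zero _ (mul_mem (mul_mem hw.1 m1.1) m2.1)).1 hψp
  have hsqz : C.IsZ (w * w) := C.sq w hw.1
  have s1 : w1 * w1 = w * w := by
    rw [hw1, show C.x * w * C.x⁻¹ * (C.x * w * C.x⁻¹) = C.x * (w * w) * C.x⁻¹ by group,
      IsZ.comm C hsqz, mul_inv_cancel_right]
  have s2 : w2 * w2 = w * w := by
    rw [hw2, show C.x * w1 * C.x⁻¹ * (C.x * w1 * C.x⁻¹) = C.x * (w1 * w1) * C.x⁻¹ by group, s1,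
      IsZ.comm C hsqz, mul_inv_cancel_right]
  have hp2 : w * w1 * w2 * (w * w1 * w2) = 1 := by
    rcases hpz with e | e <;> rw [e]
    exacts [one_mul 1, C.z_sq]
  have c1 : Commute w w1 := D.Wt_comm hw m1
  have c2 : Commute (w * w1) w2 := D.Wt_comm (mul_mem hw m1) m2
  rw [← pow_two, c2.mul_pow, c1.mul_pow, pow_two, pow_two, pow_two, s1, s2] at hp2
  rcases hsqz with e | e
  · exact e
  · rw [e, C.z_sq, one_mul] at hp2
    exact absurd hp2 C.z_ne

theorem two_sq {c : H} (hc : C.Two hexadGroup c) : c * c = 1 := by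
  by_contra hne
  obtain ⟨m, hm, hl, hz⟩ := hc
  have hm1 : m ≠ 1 := by
    rintro rfl
    obtain ⟨y, hy, e⟩ := C.ker_CP (Lift.mem_ker C hl) hl.1
    have hyy : C.IsZ (y * y) := by
      rcases e with rfl | rfl
      · exact hz
      · rwa [show C.z * y * (C.z * y) = C.z * (y * C.z) * y by group, C.central y,
          show C.z * (C.z * y) * y = (C.z * C.z) * (y * y) by group, C.z_sq, one_mul] at hz
    obtain rfl := C.eq_one_of_sq hy hyy
    rcases e with rfl | rfl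
    · exact hne (one_mul 1)
    · exact hne (by rw [mul_one, C.z_sq])
  let p : M22g → Prop := fun u => ∀ d, C.Lift d u → C.IsZ (d * d) → d * d = 1
  have hinv : ∀ g ∈ Subgroup.normalizer (hexadGroup : Set M22g), ∀ u ∈ hexadGroup,
      (p (g * u * g⁻¹) ↔ p u) := by
    intro g _ u _
    obtain ⟨cg, lg⟩ := C.exists_lift g
    have one_dir : ∀ (g' u' : M22g) (cg' : H), C.Lift cg' g' → p (g' * u' * g'⁻¹) → p u' := by
      intro g' u' cg' lg' hp d hd hdz
      have e : cg' * d * cg'⁻¹ * (cg' * d * cg'⁻¹) = d * d := by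
        rw [show cg' * d * cg'⁻¹ * (cg' * d * cg'⁻¹) = cg' * (d * d) * cg'⁻¹ by group,
          IsZ.comm C hdz, mul_inv_cancel_right]
      rw [← e]
      exact hp _ (Lift.conj C lg' hd) (e.symm ▸ hdz)
    refine ⟨one_dir g u cg lg, fun h => one_dir g⁻¹ _ cg⁻¹ (Lift.inv C lg) ?_⟩
    simpa [mul_assoc] using h
  have hall : ∀ u ∈ hexadGroup, u ≠ 1 → ∀ d, C.Lift d u → C.IsZ (d * d) → d * d = C.z := by
    intro u hu hu1 d hd hdz
    refine hdz.resolve_left fun h1 => ?_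
    have hp : p u := fun d' hd' hd'z => by
      rcases C.two_unique hd hd' hdz hd'z with rfl | rfl
      · exact h1
      · rw [show d * C.z * (d * C.z) = d * (C.z * d) * C.z by group, ← C.central d,
          show d * (d * C.z) * C.z = (d * d) * (C.z * C.z) by group, h1, C.z_sq, one_mul]
    exact hne ((hexad_trans hinv hu hm hu1 hm1).1 hp c hl hz)
  have hcomm : ∀ u ∈ hexadGroup, ∀ v ∈ hexadGroup, u ≠ 1 → v ≠ 1 → u ≠ v → ∀ d e, C.Lift d u →
      C.Lift e v → C.IsZ (d * d) → C.IsZ (e * e) → d * e = C.z * (e * d) := by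
    intro u hu v hv hu1 hv1 huv d e hd he zd ze
    obtain ⟨⟨_, -, -, zde⟩, -⟩ :=
      C.two_mul (fun w hw => hexad_sq hw) ⟨u, hu, hd, zd⟩ ⟨v, hv, he, ze⟩
    have hsq := hall (u * v) (mul_mem hu hv) (fun h => huv (by
      rw [← inv_inv u, inv_eq_of_mul_eq_one_right h, inv_eq_of_mul_eq_one_right (hexad_sq hv)]))
      _ (Lift.mul C hd he) zde
    have d2 := hall u hu hu1 d hd zd
    have e2 := hall v hv hv1 e he ze
    have hinv' : ∀ q : H, q * q = C.z → q⁻¹ = C.z * q := fun q hq => by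
      refine inv_eq_of_mul_eq_one_left ?_
      rw [mul_assoc, hq, C.z_sq]
    have h := hinv' _ hsq
    rw [mul_inv_rev, hinv' d d2, hinv' e e2, show C.z * e * (C.z * d) = C.z * (e * C.z) * d by group,
      C.central e, show C.z * (C.z * e) * d = (C.z * C.z) * (e * d) by group, C.z_sq, one_mul] at h
    rw [h, ← mul_assoc C.z, C.z_sq, one_mul]
  obtain ⟨m2, hm2, m21, hm2m⟩ : ∃ u ∈ hexadGroup, u ≠ 1 ∧ u ≠ m := by
    by_contra! hcon
    have : hexadGroup ≤ Subgroup.zpowers m := fun u hu => by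
      by_cases h : u = 1
      · exact h ▸ one_mem _
      · exact hcon u hu h ▸ Subgroup.mem_zpowers m
    have h2 := Subgroup.card_le_of_le this
    rw [card_hexadGroup, Nat.card_zpowers] at h2
    have := Nat.le_of_dvd two_pos (orderOf_dvd_of_pow_eq_one (n := 2)
      (by rw [pow_two, hexad_sq hm] : m ^ 2 = 1))
    omega
  obtain ⟨m3, hm3, m31, h3a, h3b, h3c⟩ : ∃ u ∈ hexadGroup, u ≠ 1 ∧ u ≠ m ∧ u ≠ m2 ∧ u ≠ m * m2 := by
    classical
    by_contra! hcon
    have hsub : (hexadGroup : Set M22g) ⊆ ({1, m, m2, m * m2} : Finset M22g) := fun u hu => by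
      simp only [Finset.coe_insert, Finset.coe_singleton, Set.mem_insert_iff, Set.mem_singleton_iff]
      by_contra! hc
      exact hc.2.2.2 (hcon u hu hc.1 hc.2.1 hc.2.2.1)
    have h2 := Set.ncard_le_ncard hsub (Finset.finite_toSet _)
    rw [Set.ncard_coe_finset, ← Nat.card_coe_set_eq, SetLike.coe_sort_coe, card_hexadGroup] at h2
    have := h2.trans Finset.card_le_four
    omega
  obtain ⟨d2, ⟨_, -, -, z2⟩, l2⟩ := C.exists_two hm2 (hexad_sq hm2)
  obtain ⟨d3, ⟨_, -, -, z3⟩, l3⟩ := C.exists_two hm3 (hexad_sq hm3)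
  obtain ⟨⟨_, -, -, z23⟩, -⟩ :=
    C.two_mul (fun w hw => hexad_sq hw) ⟨m2, hm2, l2, z2⟩ ⟨m3, hm3, l3, z3⟩
  have i2 : m2⁻¹ = m2 := inv_eq_of_mul_eq_one_right (hexad_sq hm2)
  have e12 := hcomm m hm m2 hm2 hm1 m21 hm2m.symm c d2 hl l2 hz z2
  have e13 := hcomm m hm m3 hm3 hm1 m31 h3a.symm c d3 hl l3 hz z3
  have e123 := hcomm m hm (m2 * m3) (mul_mem hm2 hm3) hm1
    (fun h => h3b (by rw [← i2, inv_eq_of_mul_eq_one_right h]))
    (fun h => h3c (by
      have hc : m * m2 = m2 * m := by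
        have hh := hexad_sq (mul_mem hm hm2)
        rw [← inv_eq_of_mul_eq_one_right hh, mul_inv_rev, i2,
          inv_eq_of_mul_eq_one_right (hexad_sq hm)]
      rw [hc, h, ← mul_assoc, hexad_sq hm2, one_mul]))
    c (d2 * d3) hl (Lift.mul C l2 l3) hz z23
  have : c * (d2 * d3) = d2 * d3 * c := by
    rw [← mul_assoc, e12, mul_assoc C.z, mul_assoc d2, e13, ← mul_assoc d2, C.central d2,
      mul_assoc C.z, ← mul_assoc C.z C.z, C.z_sq, one_mul, mul_assoc]
  rw [this, eq_comm] at e123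
  exact C.z_ne (mul_eq_right.1 e123)

/-- The elementary abelian subgroup. -/
def R : Subgroup H where
  carrier := {r | ∃ w ∈ D.Wt, ∃ c, C.Two hexadGroup c ∧ r = w * c}
  mul_mem' := by
    rintro _ _ ⟨w, hw, c, hc, rfl⟩ ⟨w', hw', c', hc', rfl⟩
    refine ⟨w * w', mul_mem hw hw', c * c', (C.two_mul (fun m hm => hexad_sq hm) hc hc').1, ?_⟩
    rw [show w * c * (w' * c') = w * (c * w') * c' by group, D.two_comm_Wt hc hw']
    group
  one_mem' := ⟨1, one_mem _, 1, (C.twoGroup hexadGroup fun m hm => hexad_sq hm).one_mem,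
    (one_mul 1).symm⟩
  inv_mem' := by
    rintro _ ⟨w, hw, c, hc, rfl⟩
    refine ⟨w⁻¹, inv_mem hw, c⁻¹, (C.twoGroup hexadGroup fun m hm => hexad_sq hm).inv_mem hc, ?_⟩
    rw [mul_inv_rev]
    have hcw : Commute c w := D.two_comm_Wt hc hw
    exact hcw.inv_inv.eq

theorem mem_R {r : H} : r ∈ D.R ↔ ∃ w ∈ D.Wt, ∃ c, C.Two hexadGroup c ∧ r = w * c := Iff.rfl

theorem Wt_le_R : D.Wt ≤ D.R := fun w hw =>
  ⟨w, hw, 1, (C.twoGroup hexadGroup fun m hm => hexad_sq hm).one_mem, (mul_one w).symm⟩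

theorem R_sq {r : H} (hr : r ∈ D.R) : r * r = 1 := by
  obtain ⟨w, hw, c, hc, rfl⟩ := hr
  rw [show w * c * (w * c) = w * (c * w) * c by group, D.two_comm_Wt hc hw,
    show w * (w * c) * c = (w * w) * (c * c) by group, D.Wt_sq hw, D.two_sq hc, one_mul]

theorem R_comm {r s : H} (hr : r ∈ D.R) (hs : s ∈ D.R) : r * s = s * r := by
  have h := D.R_sq (mul_mem hr hs)
  have ir : r⁻¹ = r := inv_eq_of_mul_eq_one_right (D.R_sq hr)
  have is' : s⁻¹ = s := inv_eq_of_mul_eq_one_right (D.R_sq hs)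
  calc r * s = (r * s)⁻¹ := (inv_eq_of_mul_eq_one_right h).symm
    _ = s * r := by rw [mul_inv_rev, ir, is']

theorem mem_Wt_of_ker {r : H} (hr : r ∈ D.R) (hk : r ∈ C.pr.ker) : r ∈ D.Wt := by
  obtain ⟨w, hw, c, ⟨m, hm, hl, hz⟩, rfl⟩ := hr
  have hck : c ∈ C.pr.ker := (Subgroup.mul_mem_cancel_left _ (C.E_le hw.1)).1 hk
  obtain rfl : m = 1 := conj_injective (by rw [map_one, ← hl.2]; exact MonoidHom.mem_ker.1 hck)
  have hcz : C.IsZ c := by
    rcases C.two_unique (c₁ := 1) ⟨one_mem _, by rw [map_one, map_one]⟩ hl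
      (Or.inl (one_mul 1)) hz with e | e
    · exact Or.inl e
    · exact Or.inr (by rw [e, one_mul])
  rcases hcz with rfl | rfl
  · simpa using hw
  · exact mul_mem hw D.z_mem_Wt

theorem card_R : Nat.card D.R = 2 ^ 11 := by
  let f : D.R →* MulAut M22g := C.pr.comp D.R.subtype
  have hk : Nat.card f.ker = 128 := by
    rw [← D.card_Wt, show f.ker = D.Wt.subgroupOf D.R from Subgroup.ext fun r =>
      ⟨fun h => D.mem_Wt_of_ker r.2 h, fun h => C.E_le h.1⟩,
      Nat.card_congr (Subgroup.subgroupOfEquivOfLe D.Wt_le_R).toEquiv]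
  have hr : f.range = hexadGroup.map MulAut.conj := by
    ext σ
    constructor
    · rintro ⟨⟨_, w, hw, c, ⟨m, hm, hl, -⟩, rfl⟩, rfl⟩
      refine ⟨m, hm, ?_⟩
      show MulAut.conj m = C.pr (w * c)
      rw [map_mul, MonoidHom.mem_ker.1 (C.E_le hw.1), one_mul, hl.2]
    · rintro ⟨m, hm, rfl⟩
      obtain ⟨c, hc, hl⟩ := C.exists_two hm (hexad_sq hm)
      exact ⟨⟨c, 1, one_mem _, c, hc, (one_mul c).symm⟩, hl.2⟩
  rw [Subgroup.card_eq_card_quotient_mul_card_subgroup f.ker,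
    Nat.card_congr (QuotientGroup.quotientKerEquivRange f).toEquiv, hr, hk,
    Subgroup.card_map_of_injective conj_injective, card_hexadGroup]
  norm_num

theorem z_mem_R : C.z ∈ D.R := D.Wt_le_R D.z_mem_Wt

/-- The subgroup is self-centralising. -/
theorem centralizer_R {h : H} (hh : ∀ r ∈ D.R, h * r = r * h) : h ∈ D.R := by
  have hW : ∀ v ∈ D.W, D.ρ h v = v := by
    intro v hv
    obtain ⟨e, he, rfl⟩ := D.surj v
    rw [D.ρ_ψ h e he, hh e (D.Wt_le_R ⟨he, hv⟩), mul_inv_cancel_right]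
  obtain ⟨v0, hv0, hne0⟩ := Submodule.exists_mem_ne_zero_of_ne_bot D.W_ne_bot
  have hinn : C.pr h ∈ Inn M22g := by
    by_contra ho
    obtain ⟨e, he, n, hn, rfl⟩ := C.decomp h
    rw [map_mul, MonoidHom.mem_ker.1 (C.E_le he), one_mul] at ho
    have hx := C.outer_inverts hn ho
    have hρ : ∀ v, D.ρ (e * n) v = D.ρ n v := fun v => by
      rw [map_mul, D.ρ_E he, one_mul]
    have hv1 : D.ρ n v0 = v0 := by rw [← hρ]; exact hW v0 hv0
    have hv2 : D.ρ n (D.ρ C.x v0) = D.ρ C.x v0 := by rw [← hρ]; exact hW _ (D.fixB_x hv0)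
    have h3 : D.ρ n (D.ρ C.x v0) = D.ρ C.x⁻¹ v0 := by
      rw [D.ρ_apply_apply, ← mul_inv_eq_iff_eq_mul.1 hx |>.symm, map_mul, Module.End.mul_apply, hv1]
    rw [hv2] at h3
    have h4 : D.ρ (C.x * C.x) v0 = v0 := by
      rw [map_mul, Module.End.mul_apply, h3, D.ρ_apply_apply, mul_inv_cancel, map_one,
        Module.End.one_apply]
    have h5 := D.fixed_P (mul_mem C.x_mem C.x_mem) hne0 h4
    exact C.x_ne (C.eq_one_of_sq C.x_mem (Or.inl h5))
  obtain ⟨m, hm⟩ := hinn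
  obtain ⟨e, he, c, hl, rfl⟩ := C.decomp_inner hm.symm
  have hmH : m ∈ hexadGroup := centralizer_hexad fun a ha => by
    obtain ⟨d, hd, hdl⟩ := C.exists_two ha (hexad_sq ha)
    have h1 : C.pr (e * c * d) = C.pr (d * (e * c)) := by
      rw [hh d ⟨1, one_mem _, d, hd, (one_mul d).symm⟩]
    rw [map_mul C.pr (e * c) d, map_mul C.pr e c, map_mul C.pr d (e * c), map_mul C.pr e c,
      MonoidHom.mem_ker.1 (C.E_le he), one_mul, hl.2, hdl.2, ← map_mul, ← map_mul] at h1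
    exact conj_injective h1
  have hcfix : D.ρ c v0 = v0 := by
    have := hW v0 hv0
    rwa [map_mul, D.ρ_E he, one_mul] at this
  have hz := D.isZ_of_fix hl hne0 hcfix (n := 2) (by rw [pow_two, hexad_sq hmH])
  rw [pow_two] at hz
  have hct : C.Two hexadGroup c := ⟨m, hmH, hl, hz⟩
  refine ⟨e, ⟨he, ?_⟩, c, hct, rfl⟩
  rw [← D.orth_W, D.orth_mem]
  intro u hu
  obtain ⟨w, hw, rfl⟩ := D.surj u
  rw [D.B_ψ w hw e he]
  have h1 := hh w (D.Wt_le_R ⟨hw, hu⟩)
  rw [mul_assoc, D.two_comm_Wt hct ⟨hw, hu⟩, ← mul_assoc, ← mul_assoc] at h1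
  exact (mul_right_cancel h1).symm

end Coord

/-- The image in `M22` of the inner part of a subgroup. -/
def inner (C : Cent H) (A : Subgroup H) : Subgroup M22g := (A.map C.pr).comap MulAut.conj

namespace Coord

variable (D : C.Coord) [Finite H]
include D

theorem mem_inner {A : Subgroup H} {m : M22g} :
    m ∈ C.inner A ↔ ∃ a ∈ A, C.pr a = MulAut.conj m := Iff.rfl

theorem decomp_sq {v : H} (hv : v * v = 1) {m : M22g} (hm : C.pr v = MulAut.conj m) :
    ∃ e ∈ C.E, ∃ c, C.Lift c m ∧ C.IsZ (c * c) ∧ v = e * c := by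
  obtain ⟨e, he, c, hl, rfl⟩ := C.decomp_inner hm
  refine ⟨e, he, c, hl, ?_, rfl⟩
  have hm2 : m * m = 1 := conj_injective (by
    rw [map_mul, ← hm, ← map_mul, hv, map_one, map_one])
  have hl2 := Lift.mul C hl hl
  rw [hm2] at hl2
  have hρ : D.ρ (c * c) = 1 := by
    have h := congrArg D.ρ hv
    rwa [map_mul, map_mul, D.ρ_E he, one_mul, ← map_mul, map_one] at h
  obtain ⟨y, hy, e' | e'⟩ := C.ker_CP (Lift.mem_ker C hl2) hl2.1 <;> rw [e'] at hρ ⊢
  · exact Or.inl (C.eq_one_of_E_P (D.mem_E_of_ρ hρ) hy)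
  · rw [map_mul, D.ρ_z, one_mul] at hρ
    exact Or.inr (by rw [C.eq_one_of_E_P (D.mem_E_of_ρ hρ) hy, mul_one])

/-- An elementary abelian subgroup of order `2 ^ 11` with hexad image is the standard one. -/
theorem eq_R_of_inner {A : Subgroup H} (h2 : ∀ a ∈ A, a * a = 1) (hc : Nat.card A = 2 ^ 11)
    (hB : C.inner A = hexadGroup) (hU : ∀ a ∈ A, a ∈ C.E → D.ψ a ∈ D.W)
    (hcard : Nat.card (A ⊓ C.E : Subgroup H) = 128)
    (hall : ∀ a ∈ A, C.pr a ∈ Inn M22g) : A = D.R := by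
  have hW : A ⊓ C.E = D.Wt := Subgroup.eq_of_le_of_card_ge (fun a ha => ⟨ha.2, hU a ha.1 ha.2⟩)
    (by rw [hcard, D.card_Wt])
  have comm : ∀ a ∈ A, ∀ b ∈ A, a * b = b * a := fun a ha b hb => by
    have h := h2 _ (mul_mem ha hb)
    calc a * b = (a * b)⁻¹ := (inv_eq_of_mul_eq_one_right h).symm
      _ = b * a := by rw [mul_inv_rev, inv_eq_of_mul_eq_one_right (h2 a ha),
          inv_eq_of_mul_eq_one_right (h2 b hb)]
  refine Subgroup.eq_of_le_of_card_ge (fun v hv => ?_) (by rw [hc, D.card_R])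
  obtain ⟨m, hm⟩ := hall v hv
  obtain ⟨e, he, c, hl, hz, rfl⟩ := D.decomp_sq (h2 v hv) hm.symm
  have hct : C.Two hexadGroup c := ⟨m, hB ▸ D.mem_inner.2 ⟨_, hv, hm.symm⟩, hl, hz⟩
  refine ⟨e, ⟨he, ?_⟩, c, hct, rfl⟩
  rw [← D.orth_W, D.orth_mem]
  intro u hu
  obtain ⟨w, hw, rfl⟩ := D.surj u
  have hwA : w ∈ A := by
    have hwW : w ∈ D.Wt := ⟨hw, hu⟩
    rw [← hW] at hwW
    exact hwW.1
  rw [D.B_ψ w hw e he]
  have h1 := comm w hwA _ hv
  rw [mul_assoc e, D.two_comm_Wt hct ⟨hw, hu⟩, ← mul_assoc, ← mul_assoc] at h1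
  exact mul_right_cancel h1

/-- An elementary abelian subgroup of order `2 ^ 11` containing the central involution. -/
theorem elementary_eq {A : Subgroup H} (h2 : ∀ a ∈ A, a * a = 1) (hc : Nat.card A = 2 ^ 11)
    (hzA : C.z ∈ A) : ∃ (c : H) (d : M22g), C.Lift c d ∧ A = D.R.map (MulAut.conj c).toMonoidHom ∧
      C.inner A = hexadGroup.map (MulAut.conj d).toMonoidHom := by
  classical
  have comm : ∀ a ∈ A, ∀ b ∈ A, a * b = b * a := fun a ha b hb => by
    have h := h2 _ (mul_mem ha hb)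
    calc a * b = (a * b)⁻¹ := (inv_eq_of_mul_eq_one_right h).symm
      _ = b * a := by rw [mul_inv_rev, inv_eq_of_mul_eq_one_right (h2 a ha),
          inv_eq_of_mul_eq_one_right (h2 b hb)]
  let U' : AddSubgroup Vec :=
    { carrier := D.ψ '' {a | a ∈ A ∧ a ∈ C.E}
      zero_mem' := ⟨1, ⟨one_mem _, one_mem _⟩, D.ψ_one⟩
      add_mem' := by
        rintro _ _ ⟨a, ha, rfl⟩ ⟨b, hb, rfl⟩
        exact ⟨a * b, ⟨mul_mem ha.1 hb.1, mul_mem ha.2 hb.2⟩, D.mul a ha.2 b hb.2⟩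
      neg_mem' := by
        rintro _ ⟨a, ha, rfl⟩
        exact ⟨a, ha, (neg_eq_of_add_eq_zero_right (add_self' _)).symm⟩ }
  let U : Submodule (ZMod 2) Vec := AddSubgroup.toZModSubmodule 2 U'
  have memU : ∀ v, v ∈ U ↔ ∃ a, (a ∈ A ∧ a ∈ C.E) ∧ D.ψ a = v := fun v => Iff.rfl
  set w := finrank (ZMod 2) U with hw
  have hiso : U ≤ D.B.orthogonal U := fun v hv => D.orth_mem.2 fun u hu => by
    obtain ⟨a, ha, rfl⟩ := (memU v).1 hv
    obtain ⟨b, hb, rfl⟩ := (memU u).1 hu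
    exact (D.B_ψ b hb.2 a ha.2).2 (comm b hb.1 a ha.1)
  have hw6 : w ≤ 6 := by
    have := Submodule.finrank_mono hiso
    rw [D.finrank_orth] at this
    omega
  -- the part inside the extraspecial group
  have hAE : Nat.card (A ⊓ C.E : Subgroup H) = 2 * 2 ^ w := by
    choose sec hsec hsec' using fun v : U => (memU v).1 v.2
    let f : Fin 2 × U → (A ⊓ C.E : Subgroup H) := fun p =>
      ⟨(if p.1 = 0 then 1 else C.z) * sec p.2,
        mul_mem (by split_ifs; exacts [one_mem _, ⟨hzA, C.z_mem⟩]) (hsec p.2)⟩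
    have hψ : ∀ i v, D.ψ ((if i = (0 : Fin 2) then 1 else C.z) * sec v) = v.1 := fun i v => by
      split_ifs
      · rw [one_mul, hsec']
      · rw [D.mul _ C.z_mem _ (hsec v).2, D.zero_z, zero_add, hsec']
    have hf : Function.Bijective f := by
      constructor
      · rintro ⟨i, v⟩ ⟨j, u⟩ h
        have h' := congrArg Subtype.val h
        have e : v = u := by
          have h2 := congrArg D.ψ h'
          simp only [f, hψ] at h2
          exact Subtype.ext h2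
        subst e
        have h3 : (if i = (0 : Fin 2) then (1 : H) else C.z) = if j = 0 then 1 else C.z :=
          mul_right_cancel h'
        fin_cases i <;> fin_cases j <;> simp [C.z_ne, C.z_ne.symm] at h3 <;> rfl
      · rintro ⟨e, heA, heE⟩
        have hu : D.ψ e ∈ U := ⟨e, ⟨heA, heE⟩, rfl⟩
        rcases D.eq_of_ψ (hsec ⟨_, hu⟩).2 heE (hsec' _) with h | h
        · exact ⟨⟨0, _, hu⟩, Subtype.ext (by simp [f, ← h])⟩
        · exact ⟨⟨1, _, hu⟩, Subtype.ext (by simp [f, ← h])⟩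
    rw [← Nat.card_eq_of_bijective f hf, Nat.card_prod, Nat.card_fin, card_submodule]
  let π : A →* MulAut M22g := C.pr.comp A.subtype
  have hker : π.ker = (A ⊓ C.E).subgroupOf A := by
    ext ⟨a, ha⟩
    refine ⟨fun hk => ⟨ha, ?_⟩, fun h => C.E_le h.2⟩
    obtain ⟨e, he, y, hy, rfl⟩ := C.ker_decomp (show a ∈ C.pr.ker from hk)
    have h1 : e * y * (e * y) = 1 := h2 _ ha
    have h3 : y * y ∈ C.E := by
      have : y * y = (y * e⁻¹ * y⁻¹) * e⁻¹ * (e * y * (e * y)) := by group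
      rw [this, h1, mul_one]
      exact mul_mem (C.normal y _ (inv_mem he)) (inv_mem he)
    have hy1 := C.eq_one_of_sq hy (Or.inl (C.eq_one_of_E_P h3 (mul_mem hy hy)))
    show e * y ∈ C.E
    rw [hy1, mul_one]; exact he
  have hcardA : Nat.card π.range * (2 * 2 ^ w) = 2 ^ 11 := by
    rw [← hc, ← hAE, Subgroup.card_eq_card_quotient_mul_card_subgroup π.ker,
      Nat.card_congr (QuotientGroup.quotientKerEquivRange π).toEquiv, hker,
      Nat.card_congr (Subgroup.subgroupOfEquivOfLe inf_le_left).toEquiv]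
  have hrange : π.range = A.map C.pr := by
    ext σ
    constructor
    · rintro ⟨a, rfl⟩
      exact ⟨a, a.2, rfl⟩
    · rintro ⟨a, ha, rfl⟩
      exact ⟨⟨a, ha⟩, rfl⟩
  set B := C.inner A with hBdef
  have hBsq : ∀ m ∈ B, m * m = 1 := fun m hm => by
    obtain ⟨a, ha, e⟩ := D.mem_inner.1 hm
    exact conj_injective (by rw [map_mul, ← e, ← map_mul, h2 a ha, map_one, map_one])
  have hBcard : Nat.card B = Nat.card (A.map C.pr ⊓ Inn M22g : Subgroup (MulAut M22g)) := by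
    rw [← Subgroup.card_map_of_injective (K := B) conj_injective]
    refine congrArg (fun X : Subgroup (MulAut M22g) => Nat.card X) ?_
    ext σ
    constructor
    · rintro ⟨m, hm, rfl⟩
      exact ⟨hm, m, rfl⟩
    · rintro ⟨hσ, m, rfl⟩
      exact ⟨m, hσ, rfl⟩
  have hU : ∀ v ∈ U, v ∈ D.fixB B := fun v hv => D.mem_fixB.2 fun c ⟨m, hm, hl, hz⟩ => by
    obtain ⟨a, ha, ea⟩ := D.mem_inner.1 hm
    obtain ⟨e, he, c', hl', hz', rfl⟩ := D.decomp_sq (h2 a ha) ea
    obtain ⟨b, hb, rfl⟩ := (memU v).1 hv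
    rw [D.ρ_two_eq hl' hl hz' hz]
    have h1 : D.ρ (e * c') (D.ψ b) = D.ψ b := by
      rw [D.ρ_ψ _ b hb.2, comm _ ha b hb.1, mul_inv_cancel_right]
    rwa [map_mul, D.ρ_E he, one_mul] at h1
  have hBle : Nat.card B ≤ 16 := card_elementary_le hBsq
  -- no outer elements
  have hall : ∀ a ∈ A, C.pr a ∈ Inn M22g := by
    by_contra hcon
    push Not at hcon
    obtain ⟨a0, ha0, ho⟩ := hcon
    obtain ⟨e, he, n, hn, rfl⟩ := C.decomp a0
    have hx := C.outer_inverts hn (by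
      rwa [map_mul, MonoidHom.mem_ker.1 (C.E_le he), one_mul] at ho)
    have hfixU : ∀ v ∈ U, D.ρ n v = v := fun v hv => by
      obtain ⟨b, hb, rfl⟩ := (memU v).1 hv
      have h1 : D.ρ (e * n) (D.ψ b) = D.ψ b := by
        rw [D.ρ_ψ _ b hb.2, comm _ ha0 b hb.1, mul_inv_cancel_right]
      rwa [map_mul, D.ρ_E he, one_mul] at h1
    let U2 := U.map (D.ρ C.x)
    have hdim2 : finrank (ZMod 2) U2 = w :=
      (Submodule.equivMapOfInjective (D.ρ C.x) (fun v u h => sub_eq_zero.1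
        (D.ρ_injective C.x (by rw [map_sub, h, sub_self]))) U).finrank_eq.symm
    have hdisj : U ⊓ U2 = ⊥ := by
      rw [eq_bot_iff]
      rintro _ ⟨hu, v, hv, rfl⟩
      have h1 := hfixU _ hu
      rw [D.ρ_apply_apply, ← mul_inv_eq_iff_eq_mul.1 hx |>.symm, map_mul, Module.End.mul_apply,
        hfixU v hv] at h1
      have h4 : D.ρ (C.x * C.x) v = v := by
        rw [map_mul, Module.End.mul_apply, ← h1, D.ρ_apply_apply, mul_inv_cancel, map_one,
          Module.End.one_apply]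
      by_cases hv0 : v = 0
      · simp [hv0]
      · exact absurd (C.eq_one_of_sq C.x_mem
          (Or.inl (D.fixed_P (mul_mem C.x_mem C.x_mem) hv0 h4))) C.x_ne
    have hsup : finrank (ZMod 2) ↥(U ⊔ U2) = w + w := by
      have := Submodule.finrank_sup_add_finrank_inf_eq U U2
      rw [hdisj, finrank_bot, hdim2] at this
      omega
    have hle : U ⊔ U2 ≤ D.fixB B := sup_le hU (by
      rintro _ ⟨v, hv, rfl⟩
      exact D.fixB_x (hU v hv))
    have h2B : Nat.card π.range ≤ 2 * Nat.card B := by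
      rw [hrange, hBcard]
      have h := Subgroup.relIndex_dvd_index_of_normal (H := Inn M22g) (K := A.map C.pr)
      rw [index_inn] at h
      have h3 := Nat.le_of_dvd two_pos h
      rw [← Subgroup.inf_relIndex_right] at h3
      have h5 := Subgroup.card_mul_index ((A.map C.pr ⊓ Inn M22g).subgroupOf (A.map C.pr))
      rw [Nat.card_congr (Subgroup.subgroupOfEquivOfLe inf_le_left).toEquiv, mul_comm] at h5
      rw [inf_comm] at h3
      calc Nat.card (A.map C.pr) = _ := h5.symm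
        _ ≤ 2 * _ := Nat.mul_le_mul_right _ h3
    have hw5 : 5 ≤ w := by
      by_contra hlt
      have : Nat.card π.range * (2 * 2 ^ w) ≤ 32 * (2 * 2 ^ 4) := Nat.mul_le_mul (by omega)
        (Nat.mul_le_mul_left 2 (Nat.pow_le_pow_right (by norm_num) (by omega)))
      omega
    obtain ⟨m, hm, h1⟩ : ∃ m ∈ B, m ≠ 1 := by
      by_contra! hc'
      rw [(Subgroup.eq_bot_iff_forall B).2 hc', Subgroup.card_bot] at h2B
      have : Nat.card π.range * (2 * 2 ^ w) ≤ 2 * (2 * 2 ^ 6) := Nat.mul_le_mul h2B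
        (Nat.mul_le_mul_left 2 (Nat.pow_le_pow_right (by norm_num) hw6))
      omega
    obtain ⟨c, hct, hl⟩ := C.exists_two hm (hBsq m hm)
    have : Fact (Nat.Prime 2) := ⟨Nat.prime_two⟩
    have hz : C.IsZ (c * c) := by obtain ⟨_, -, -, hz⟩ := hct; exact hz
    have h8 := D.fixed_two_le (orderOf_eq_prime (by rw [pow_two, hBsq m hm]) h1) hl hz
    have h9 := Submodule.finrank_mono (hle.trans fun v hv =>
      (mem_fixed.2 (D.mem_fixB.1 hv c hct) : v ∈ fixed (D.ρ c)))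
    omega
  have hBeq : Nat.card B = Nat.card π.range := by
    rw [hrange, hBcard, inf_eq_left.2]
    rintro _ ⟨a, ha, rfl⟩
    exact hall a ha
  have hw6' : w = 6 := by
    by_contra hne
    have : Nat.card π.range * (2 * 2 ^ w) ≤ 16 * (2 * 2 ^ 5) := Nat.mul_le_mul (by omega)
      (Nat.mul_le_mul_left 2 (Nat.pow_le_pow_right (by norm_num) (by omega)))
    omega
  rw [hw6'] at hcardA hAE
  have hB16 : Nat.card B = 16 := by omega
  obtain ⟨d, hd⟩ := exists_conj_eq hBsq hB16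
  obtain ⟨cd, hcd⟩ := C.exists_lift d
  have hmove : ∀ v ∈ U, D.ρ cd v ∈ D.fixB (B.map (MulAut.conj d).toMonoidHom) := fun v hv => by
    refine D.fixB_map (C.lift_normalizer hcd) ?_ (hU v hv)
    rintro _ ⟨m, hm, rfl⟩
    rw [map_inv, hcd.2]
    simpa [mul_assoc] using hm
  rcases hd with hd | hd
  · let A' := A.map (MulAut.conj cd).toMonoidHom
    have hA' : A' = D.R := by
      refine D.eq_R_of_inner ?_ ?_ ?_ ?_ ?_ ?_
      · rintro _ ⟨a, ha, rfl⟩
        show MulAut.conj cd a * MulAut.conj cd a = 1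
        rw [← map_mul, h2 a ha, map_one]
      · rw [Subgroup.card_map_of_injective (MulAut.conj cd).injective, hc]
      · rw [← hd]
        ext m
        constructor
        · intro hm
          obtain ⟨_, ⟨a, ha, rfl⟩, e⟩ := D.mem_inner.1 hm
          refine ⟨d⁻¹ * m * d, D.mem_inner.2 ⟨a, ha, ?_⟩, by simp [mul_assoc]⟩
          simp only [MulEquiv.coe_toMonoidHom, MulAut.conj_apply, map_mul, map_inv, hcd.2] at e
          rw [map_mul, map_mul, map_inv, ← e]
          group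
        · rintro ⟨u, hu, rfl⟩
          obtain ⟨a, ha, e⟩ := D.mem_inner.1 hu
          refine D.mem_inner.2 ⟨_, ⟨a, ha, rfl⟩, ?_⟩
          simp [e, hcd.2]
      · rintro _ ⟨a, ha, rfl⟩ hae
        have haE : a ∈ C.E := by
          have := C.normal cd⁻¹ _ hae
          simpa [mul_assoc] using this
        have hm := hmove _ ⟨a, ⟨ha, haE⟩, rfl⟩
        rw [D.ρ_ψ cd a haE, hd] at hm
        exact hm
      · have hEq : (A' ⊓ C.E : Subgroup H) = (A ⊓ C.E).map (MulAut.conj cd).toMonoidHom := by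
          ext v
          constructor
          · rintro ⟨⟨a, ha, rfl⟩, hv⟩
            refine ⟨a, ⟨ha, ?_⟩, rfl⟩
            have := C.normal cd⁻¹ _ hv
            simpa [mul_assoc] using this
          · rintro ⟨a, ⟨ha, hae⟩, rfl⟩
            exact ⟨⟨a, ha, rfl⟩, C.normal cd a hae⟩
        rw [hEq, Subgroup.card_map_of_injective (MulAut.conj cd).injective, hAE]
        norm_num
      · rintro _ ⟨a, ha, rfl⟩
        obtain ⟨m, hm⟩ := hall a ha
        exact ⟨d * m * d⁻¹, by simp [← hm, hcd.2]⟩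
    refine ⟨cd⁻¹, d⁻¹, Lift.inv C hcd, ?_, ?_⟩
    · rw [← hA', Subgroup.map_map]
      ext v
      simp [mul_assoc]
    · rw [← hd, Subgroup.map_map]
      ext v
      simp [mul_assoc, hBdef]
  · exfalso
    have h4 := D.pentad_fix.1
    have hle : U.map (D.ρ cd) ≤ D.fixB pentadGroup := by
      rintro _ ⟨v, hv, rfl⟩
      exact hd ▸ hmove v hv
    have := Submodule.finrank_mono hle
    rw [← (Submodule.equivMapOfInjective (D.ρ cd) (fun v u h => sub_eq_zero.1
      (D.ρ_injective cd (by rw [map_sub, h, sub_self]))) U).finrank_eq] at this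
    omega

/-- A 2-subgroup contains at most one. -/
theorem elementary_unique {A A' S : Subgroup H} (hS : IsPGroup 2 S) (hA : A ≤ S) (hA' : A' ≤ S)
    (h2 : ∀ a ∈ A, a * a = 1) (hc : Nat.card A = 2 ^ 11) (hzA : C.z ∈ A)
    (h2' : ∀ a ∈ A', a * a = 1) (hc' : Nat.card A' = 2 ^ 11) (hzA' : C.z ∈ A') : A = A' := by
  obtain ⟨c, d, hcd, hAe, hB⟩ := D.elementary_eq h2 hc hzA
  obtain ⟨c', d', hcd', hAe', hB'⟩ := D.elementary_eq h2' hc' hzA'
  let S' : Subgroup M22g := C.inner S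
  have hS' : IsPGroup 2 S' :=
    (hS.map C.pr).comap_of_injective MulAut.conj conj_injective
  have hBB : C.inner A = C.inner A' := by
    refine hexad_unique ⟨d, hB.symm⟩ ⟨d', hB'.symm⟩ hS' ?_ ?_
    · exact Subgroup.comap_mono (Subgroup.map_mono hA)
    · exact Subgroup.comap_mono (Subgroup.map_mono hA')
  -- move back to the standard one
  have hkey : A'.map (MulAut.conj c⁻¹).toMonoidHom = D.R := by
    let X := A'.map (MulAut.conj c⁻¹).toMonoidHom
    obtain ⟨e, u, he, hXe, hXB⟩ := D.elementary_eq (A := X) (by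
        rintro _ ⟨a, ha, rfl⟩
        show MulAut.conj c⁻¹ a * MulAut.conj c⁻¹ a = 1
        rw [← map_mul, h2' a ha, map_one])
      (by rw [Subgroup.card_map_of_injective (MulAut.conj c⁻¹).injective, hc'])
      ⟨C.z, hzA', by simp [C.central]⟩
    have hX : C.inner X = hexadGroup := by
      ext m
      constructor
      · intro hm
        obtain ⟨_, ⟨a, ha, rfl⟩, e'⟩ := D.mem_inner.1 hm
        have hm' : d * m * d⁻¹ ∈ C.inner A' := D.mem_inner.2 ⟨a, ha, by
          simp only [MulEquiv.coe_toMonoidHom, MulAut.conj_apply, map_mul, map_inv, inv_inv,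
            hcd.2] at e'
          rw [map_mul, map_mul, map_inv, ← e']
          simp [mul_assoc, hcd.2]⟩
        rw [← hBB, hB] at hm'
        obtain ⟨u', hu', e2⟩ := hm'
        obtain rfl : u' = m := by simpa using e2
        exact hu'
      · intro hm
        have hm' : d * m * d⁻¹ ∈ C.inner A := by rw [hB]; exact ⟨m, hm, by simp⟩
        rw [hBB] at hm'
        obtain ⟨a, ha, e'⟩ := D.mem_inner.1 hm'
        refine D.mem_inner.2 ⟨_, ⟨a, ha, rfl⟩, ?_⟩
        simp [e', hcd.2, mul_assoc]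
    rw [hX] at hXB
    have hu : u ∈ Subgroup.normalizer (hexadGroup : Set M22g) := by
      rw [Subgroup.mem_normalizer_iff]
      intro m
      conv_rhs => rw [hXB]
      exact ⟨fun hm => ⟨m, hm, by simp⟩, fun ⟨v, hv, hv'⟩ => by
        obtain rfl : v = m := by simpa using hv'
        exact hv⟩
    show X = D.R
    rw [hXe]
    refine Subgroup.eq_of_le_of_card_ge ?_ ?_
    · rintro _ ⟨_, ⟨w, hw, t, ht, rfl⟩, rfl⟩
      have hw' : e * w * e⁻¹ ∈ D.Wt :=
        ⟨C.normal e w hw.1, by rw [← D.ρ_ψ e w hw.1]; exact D.W_lift he hu hw.2⟩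
      have ht' : C.Two hexadGroup (e * t * e⁻¹) := C.conj_two (C.lift_normalizer he)
        (fun m hm => by
          rw [he.2, MulAut.conj_apply]
          exact (Subgroup.mem_normalizer_iff.1 hu m).1 hm) ht
      refine ⟨_, hw', _, ht', ?_⟩
      simp [mul_assoc]
    · rw [Subgroup.card_map_of_injective (MulAut.conj e).injective]
  rw [hAe, ← hkey, Subgroup.map_map]
  ext v
  simp [mul_assoc]

/-- No larger elementary abelian subgroup contains the central involution. -/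
theorem card_le {A : Subgroup H} (h2 : ∀ a ∈ A, a * a = 1) (hzA : C.z ∈ A) :
    Nat.card A ≤ 2 ^ 11 := by
  by_contra hlt
  push Not at hlt
  have : Fact (Nat.Prime 2) := ⟨Nat.prime_two⟩
  have hp : IsPGroup 2 A := fun a => ⟨1, Subtype.ext (by
    rw [SubmonoidClass.coe_pow, pow_one, pow_two]; exact h2 a a.2)⟩
  obtain ⟨n, hn⟩ := IsPGroup.iff_card.1 hp
  have hn11 : 11 ≤ n := by
    by_contra h
    have := Nat.pow_le_pow_right (show 0 < 2 by norm_num) (show n ≤ 11 by omega)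
    omega
  have hz : Nat.card (Subgroup.zpowers (⟨C.z, hzA⟩ : A)) = 2 ^ 1 := by
    rw [Nat.card_zpowers, Subgroup.orderOf_mk, C.two]; norm_num
  obtain ⟨K, hK, hle⟩ := Sylow.exists_subgroup_card_pow_prime_le (G := A) 2 (m := 11)
    (hn ▸ pow_dvd_pow 2 hn11) _ hz (by norm_num)
  let A₀ := K.map A.subtype
  have hA0 : A₀ ≤ A := Subgroup.map_subtype_le K
  have hz0 : C.z ∈ A₀ := ⟨⟨C.z, hzA⟩, hle (Subgroup.mem_zpowers _), rfl⟩
  have hc0 : Nat.card A₀ = 2 ^ 11 := by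
    rw [Subgroup.card_map_of_injective A.subtype_injective, hK]
  obtain ⟨c, d, -, he, -⟩ := D.elementary_eq (fun a ha => h2 a (hA0 ha)) hc0 hz0
  have hsub : A ≤ A₀ := fun a ha => by
    have hcc : ∀ r ∈ D.R, c⁻¹ * a * c * r = r * (c⁻¹ * a * c) := fun r hr => by
      have hr' : c * r * c⁻¹ ∈ A₀ := he.symm ▸ ⟨r, hr, rfl⟩
      have h := h2 _ (mul_mem ha (hA0 hr'))
      have ia : a⁻¹ = a := inv_eq_of_mul_eq_one_right (h2 a ha)
      have ir : (c * r * c⁻¹)⁻¹ = c * r * c⁻¹ := inv_eq_of_mul_eq_one_right (h2 _ (hA0 hr'))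
      have hcomm : a * (c * r * c⁻¹) = c * r * c⁻¹ * a := by
        rw [← inv_eq_of_mul_eq_one_right h, mul_inv_rev, ir, ia]
      calc c⁻¹ * a * c * r = c⁻¹ * (a * (c * r * c⁻¹)) * c := by group
        _ = c⁻¹ * (c * r * c⁻¹ * a) * c := by rw [hcomm]
        _ = r * (c⁻¹ * a * c) := by group
    rw [he]
    exact ⟨_, D.centralizer_R hcc, by simp [mul_assoc]⟩
  have := Subgroup.card_le_of_le hsub
  omega

end Coord

end Cent

end CfsgLib.JFourEleven
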