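import Cfsg.Prelude.Def_JankoFourType
import Cfsg.Agent.LargeExtraspecial.Basic
import Cfsg.Agent.JFourEleven.Eleven

/-!
# The elementary abelian subgroup of order `2 ^ 11` of a group of Janko-four type
-/

set_option autoImplicit false

namespace CfsgLib.JFourEleven

open Cfsg CfsgLib.JFourType

variable {G : Type*} [Group G] [Finite G] {z : G} {P : Subgroup G}

theorem exists_cent (h : IsOfJankoFourTypeWith z P) :
    ∃ C : Cent (Subgroup.centralizer ({z} : Set G)),
      (C.z : G) = z ∧ C.E = pCore 2 (Subgroup.centralizer ({z} : Set G)) ∧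
      C.E.map (Subgroup.centralizer ({z} : Set G)).subtype = twoCoreOfCentralizer z ∧
      C.P.map (Subgroup.centralizer ({z} : Set G)).subtype = P := by
  classical
  obtain ⟨hz, hext, hcard, hcent, ⟨N, hEN, hNH, -, hNcard, ⟨hNn, ⟨e⟩⟩, hPN⟩, hP3, hfix, hne,
    hperf⟩ := h
  have : Fact (Nat.Prime 2) := ⟨Nat.prime_two⟩
  set H := Subgroup.centralizer ({z} : Set G) with hH
  let E := pCore 2 H
  have hE : E.map H.subtype = twoCoreOfCentralizer z := rfl
  haveI hEn : E.Normal := LargeExtraspecial.pCore_normal' 2 H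
  have hzH : z ∈ H := Subgroup.mem_centralizer_singleton_iff.2 rfl
  let zH : H := ⟨z, hzH⟩
  have hzc : ∀ a : H, a * zH = zH * a := fun a =>
    Subtype.ext (Subgroup.mem_centralizer_singleton_iff.1 a.2)
  have hzE : zH ∈ E := by
    have hcyc : (Subgroup.zpowers zH).Normal := ⟨fun a ha g => by
      obtain ⟨n, rfl⟩ := Subgroup.mem_zpowers_iff.1 ha
      have hc : Commute g zH := hzc g
      rw [(hc.zpow_right n).eq, mul_inv_cancel_right]
      exact ⟨n, rfl⟩⟩
    have h2 : IsPGroup 2 (Subgroup.zpowers zH) := IsPGroup.of_card (n := 1) (by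
      rw [Nat.card_zpowers, Subgroup.orderOf_mk, hz]; norm_num)
    have hle : Subgroup.zpowers zH ≤ E :=
      le_sSup (show Subgroup.zpowers zH ∈ {M : Subgroup H | M.Normal ∧ IsPGroup 2 M} from ⟨hcyc, h2⟩)
    exact hle (Subgroup.mem_zpowers zH)
  have hzpow : ∀ a : H, (a : G) ∈ Subgroup.zpowers z → a = 1 ∨ a = zH := fun a ha => by
    rcases LargeExtraspecial.mem_zpowers_two hz ha with e | e
    · exact Or.inl (Subtype.ext e)
    · exact Or.inr (Subtype.ext e)
  have hmem : ∀ a : H, a ∈ E ↔ (a : G) ∈ twoCoreOfCentralizer z := fun a =>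
    ⟨fun ha => ⟨a, ha, rfl⟩, fun ⟨b, hb, hba⟩ => by rwa [← show b = a from Subtype.ext hba]⟩
  have hcenter : (Subgroup.center (twoCoreOfCentralizer z)).map (twoCoreOfCentralizer z).subtype =
      Subgroup.zpowers z := by
    refine (Subgroup.eq_of_le_of_card_ge (Subgroup.zpowers_le.2 ?_) ?_).symm
    · refine ⟨⟨z, (hmem zH).1 hzE⟩, Subgroup.mem_center_iff.2 fun a => ?_, rfl⟩
      obtain ⟨b, -, hb⟩ := a.2
      refine Subtype.ext ?_
      show (a : G) * z = z * a
      rw [← hb]
      exact congrArg Subtype.val (hzc b)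
    · rw [Subgroup.card_map_of_injective (Subgroup.subtype_injective _), hext.2, Nat.card_zpowers,
        hz]
  have hcomm : ∀ a ∈ E, ∀ b ∈ E, a * b = b * a ∨ a * b = zH * (b * a) := by
    intro a ha b hb
    have hc := LargeExtraspecial.commutator_mem_center hext ((hmem a).1 ha) ((hmem b).1 hb)
    rw [hcenter] at hc
    rcases hzpow (a * b * a⁻¹ * b⁻¹) (by simpa using hc) with e | e
    · exact Or.inl (mul_inv_eq_iff_eq_mul.1 (mul_inv_eq_one.1 e))
    · refine Or.inr ?_
      rw [← e]
      group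
  have hcentE : ∀ a : H, (∀ b ∈ E, a * b = b * a) → a = 1 ∨ a = zH := by
    intro a ha
    have hamem : (a : G) ∈ twoCoreOfCentralizer z := hcent ⟨a.2, Subgroup.mem_centralizer_iff.2 (by
      rintro _ ⟨b, hb, rfl⟩
      exact (congrArg Subtype.val (ha b hb)).symm)⟩
    refine hzpow a ?_
    rw [← hcenter]
    refine ⟨⟨a, hamem⟩, Subgroup.mem_center_iff.2 fun b => Subtype.ext ?_, rfl⟩
    obtain ⟨c, hc, hcb⟩ := b.2
    show (b : G) * a = a * b
    rw [← hcb]
    exact (congrArg Subtype.val (ha c hc)).symm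
  have hzsq : zH * zH = 1 := Subtype.ext (by
    show z * z = 1
    rw [← pow_two, ← hz, pow_orderOf_eq_one])
  have hsq : ∀ a ∈ E, a * a = 1 ∨ a * a = zH := by
    intro a ha
    refine hcentE _ fun b hb => ?_
    rcases hcomm a ha b hb with hab | hab
    · rw [mul_assoc, hab, ← mul_assoc, hab, mul_assoc]
    · calc a * a * b = a * (zH * (b * a)) := by rw [mul_assoc, hab]
        _ = zH * (a * b) * a := by rw [← mul_assoc, hzc a]; simp only [mul_assoc]
        _ = b * (a * a) := by rw [hab, ← mul_assoc zH, hzsq, one_mul, mul_assoc]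
  have hPH : P ≤ H := hPN.trans hNH
  haveI := hNn
  let pr : H →* MulAut M22g := e.toMonoidHom.comp (QuotientGroup.mk' (N.subgroupOf H))
  have hker : pr.ker = N.subgroupOf H := by
    ext a
    rw [MonoidHom.mem_ker]
    show e (QuotientGroup.mk' _ a) = 1 ↔ _
    rw [EmbeddingLike.map_eq_one_iff, QuotientGroup.mk'_apply, QuotientGroup.eq_one_iff]
  have hPmap : (P.subgroupOf H).map H.subtype = P := by
    rw [Subgroup.subgroupOf_map_subtype]; exact inf_eq_left.2 hPH
  refine ⟨{ z := zH, E := E, P := P.subgroupOf H, pr := pr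
            two := by rw [Subgroup.orderOf_mk, hz]
            central := hzc
            normal := fun g a ha => hEn.conj_mem a ha g
            z_mem := hzE
            cardE := by rw [← Subgroup.card_map_of_injective H.subtype_injective, hE, hcard]
            sq := hsq
            comm := hcomm
            centE := hcentE
            cardP := by rw [Nat.card_congr (Subgroup.subgroupOfEquivOfLe hPH).toEquiv, hP3]
            E_le := by
              rw [hker]
              exact fun a ha => Subgroup.mem_subgroupOf.2 (hEN ((hmem a).1 ha))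
            P_le := by
              rw [hker]
              exact fun a ha => Subgroup.mem_subgroupOf.2 (hPN (Subgroup.mem_subgroupOf.1 ha))
            cardKer := by
              rw [hker, Nat.card_congr (Subgroup.subgroupOfEquivOfLe hNH).toEquiv, hNcard, hcard]
            surj := e.surjective.comp (QuotientGroup.mk'_surjective _)
            fixP := fun a ha hx => by
              refine hzpow a ?_
              rw [← hfix]
              refine ⟨(hmem a).1 ha, Subgroup.mem_centralizer_iff.2 fun w hw => ?_⟩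
              exact congrArg Subtype.val (hx ⟨w, hPH hw⟩ hw)
            inverts := ?_
            perfect := ?_ }, rfl, rfl, hE, hPmap⟩
  · by_contra! hcon
    refine hne (le_antisymm (fun g hg => ⟨hg.1, ?_⟩)
      (inf_le_inf_left _ (Subgroup.centralizer_le_normalizer _)))
    have hgn : (⟨g, hg.1⟩ : H) ∈ Subgroup.normalizer ((P.subgroupOf H : Subgroup H) : Set H) :=
      Subgroup.mem_normalizer_iff.2 fun a => (Subgroup.mem_normalizer_iff.1 hg.2 a).trans Iff.rfl
    refine Subgroup.mem_centralizer_iff.2 fun w hw => ?_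
    exact congrArg Subtype.val
      (Subgroup.mem_centralizer_iff.1 (hcon _ hgn) ⟨w, hPH hw⟩ hw)
  · have hC : (Subgroup.centralizer ((P.subgroupOf H : Subgroup H) : Set H)).map H.subtype =
        H ⊓ Subgroup.centralizer (P : Set G) := by
      ext g
      constructor
      · rintro ⟨a, ha, rfl⟩
        refine ⟨a.2, Subgroup.mem_centralizer_iff.2 fun w hw => ?_⟩
        exact congrArg Subtype.val (Subgroup.mem_centralizer_iff.1 ha ⟨w, hPH hw⟩ hw)
      · rintro ⟨hg, hg'⟩
        refine ⟨⟨g, hg⟩, Subgroup.mem_centralizer_iff.2 fun w hw => Subtype.ext ?_, rfl⟩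
        exact Subgroup.mem_centralizer_iff.1 hg' _ hw
    intro a ha
    have h1 : (a : G) ∈ ⁅H ⊓ Subgroup.centralizer (P : Set G),
        H ⊓ Subgroup.centralizer (P : Set G)⁆ := hperf ha
    rw [← hC, ← Subgroup.map_commutator] at h1
    obtain ⟨b, hb, hba⟩ := h1
    rwa [show b = a from Subtype.ext hba] at hb

/-- Some Sylow 2-subgroup centralises the involution. -/
theorem exists_sylow_le (h : IsOfJankoFourTypeWith z P) :
    ∃ T : Sylow 2 G, (T : Subgroup G) ≤ Subgroup.centralizer ({z} : Set G) := by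
  have : Fact (Nat.Prime 2) := ⟨Nat.prime_two⟩
  set H := Subgroup.centralizer ({z} : Set G) with hH
  obtain ⟨C, hCz, hCE, -, -⟩ := exists_cent h
  obtain ⟨S⟩ : Nonempty (Sylow 2 H) := inferInstance
  obtain ⟨T, hT⟩ := (S.2.map H.subtype).exists_le_sylow
  refine ⟨T, ?_⟩
  have hES : ∀ a ∈ C.E, (a : G) ∈ (T : Subgroup G) := fun a ha =>
    hT ⟨a, LargeExtraspecial.pCore_le_sylow 2 S (hCE ▸ ha), rfl⟩
  have hnt : Nontrivial (T : Subgroup G) :=
    nontrivial_of_ne ⟨z, hCz ▸ hES _ C.z_mem⟩ 1 fun e => by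
      have h1 := C.z_ne
      exact h1 (Subtype.ext (hCz.trans (congrArg Subtype.val e)))
  haveI := IsPGroup.center_nontrivial T.2
  obtain ⟨u, hu⟩ := exists_ne (1 : Subgroup.center (T : Subgroup G))
  have hcu : ∀ t ∈ (T : Subgroup G), t * (u.1.1 : G) = u.1.1 * t := fun t ht =>
    congrArg Subtype.val (Subgroup.mem_center_iff.1 u.2 ⟨t, ht⟩)
  have huH : (u.1.1 : G) ∈ H := Subgroup.mem_centralizer_singleton_iff.2 (by
    have := hcu z (hCz ▸ hES _ C.z_mem)
    exact this.symm)
  rcases C.centE ⟨u.1.1, huH⟩ (fun a ha => Subtype.ext (hcu a (hES a ha)).symm) with e | e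
  · exact absurd (show u = 1 from Subtype.ext (Subtype.ext (congrArg (Subtype.val : H → G) e))) hu
  · intro t ht
    have h1 := hcu t ht
    rw [show (u.1.1 : G) = z from (congrArg Subtype.val e).trans hCz] at h1
    exact Subgroup.mem_centralizer_singleton_iff.2 h1

theorem two_of_mem {A : Subgroup G} (hA : Cfsg.IsElementaryAbelian 2 A) {a : G} (ha : a ∈ A) :
    a * a = 1 := by rw [← pow_two]; exact hA.2 a ha

theorem isElementaryAbelian_of_sq {A : Subgroup G} (h : ∀ a ∈ A, a * a = 1) :
    Cfsg.IsElementaryAbelian 2 A := by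
  refine ⟨⟨⟨fun a b => Subtype.ext ?_⟩⟩, fun a ha => by rw [pow_two]; exact h a ha⟩
  have e := h _ (mul_mem a.2 b.2)
  show (a : G) * b = b * a
  calc (a : G) * b = ((a : G) * b)⁻¹ := (inv_eq_of_mul_eq_one_right e).symm
    _ = b * a := by rw [mul_inv_rev, inv_eq_of_mul_eq_one_right (h a a.2),
        inv_eq_of_mul_eq_one_right (h b b.2)]

/-- In the centralizer, every elementary abelian subgroup of order `2 ^ 11` contains the
involution. -/
theorem mem_of_le (h : IsOfJankoFourTypeWith z P) {A : Subgroup G}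
    (hA : Cfsg.IsElementaryAbelian 2 A) (hc : Nat.card A = 2 ^ 11)
    (hle : A ≤ Subgroup.centralizer ({z} : Set G)) : z ∈ A := by
  set H := Subgroup.centralizer ({z} : Set G) with hH
  obtain ⟨C, hCz, -, -, -⟩ := exists_cent h
  obtain ⟨D⟩ := C.nonempty_coord
  by_contra hz
  have h2 : ∀ a ∈ A.subgroupOf H, a * a = 1 := fun a ha => Subtype.ext (two_of_mem hA ha)
  let B : Subgroup H := A.subgroupOf H ⊔ Subgroup.zpowers C.z
  have hB : ∀ a ∈ B, a * a = 1 := by
    intro a ha
    haveI : (Subgroup.zpowers C.z).Normal := ⟨fun w hw g => by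
      obtain ⟨n, rfl⟩ := Subgroup.mem_zpowers_iff.1 hw
      have hc' : Commute g C.z := C.central g
      rw [(hc'.zpow_right n).eq, mul_inv_cancel_right]
      exact ⟨n, rfl⟩⟩
    obtain ⟨b, hb, w, hw, rfl⟩ := Subgroup.mem_sup_of_normal_right.1 ha
    have hwz : C.IsZ w := LargeExtraspecial.mem_zpowers_two C.two hw
    have hbw : Commute b w := Cent.IsZ.comm C hwz b
    rw [← pow_two, hbw.mul_pow, pow_two, pow_two, h2 b hb, one_mul]
    rcases hwz with e | e <;> rw [e]
    exacts [one_mul 1, C.z_sq]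
  have hle' := D.card_le hB (Subgroup.mem_sup_right (Subgroup.mem_zpowers _))
  have hlt : A.subgroupOf H < B := lt_of_le_of_ne le_sup_left fun e => hz (by
    have : C.z ∈ A.subgroupOf H := e ▸ Subgroup.mem_sup_right (Subgroup.mem_zpowers _)
    exact hCz ▸ this)
  have hca : Nat.card (A.subgroupOf H) = 2 ^ 11 := by
    rw [Nat.card_congr (Subgroup.subgroupOfEquivOfLe hle).toEquiv, hc]
  exact absurd (Subgroup.eq_of_le_of_card_ge le_sup_left (hle'.trans hca.ge)) hlt.ne

/-- Every Sylow 2-subgroup has exactly one elementary abelian subgroup of order `2 ^ 11`. -/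
theorem existsUnique_eleven (h : IsOfJankoFourTypeWith z P) (T : Sylow 2 G) :
    ∃! V : Subgroup G, V ≤ (T : Subgroup G) ∧ Cfsg.IsElementaryAbelian 2 V ∧
      Nat.card V = 2 ^ 11 := by
  have : Fact (Nat.Prime 2) := ⟨Nat.prime_two⟩
  set H := Subgroup.centralizer ({z} : Set G) with hH
  obtain ⟨C, hCz, -, -, -⟩ := exists_cent h
  obtain ⟨D⟩ := C.nonempty_coord
  let R := D.R.map H.subtype
  have hR2 : ∀ a ∈ R, a * a = 1 := by
    rintro _ ⟨a, ha, rfl⟩
    exact congrArg Subtype.val (D.R_sq ha)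
  have hRc : Nat.card R = 2 ^ 11 := by
    rw [Subgroup.card_map_of_injective H.subtype_injective, D.card_R]
  obtain ⟨T1, hT1⟩ := (IsPGroup.of_card (n := 11) hRc).exists_le_sylow
  obtain ⟨g, hg⟩ := MulAction.exists_smul_eq G T1 T
  have hgT : (T : Subgroup G) = (T1 : Subgroup G).map (MulAut.conj g).toMonoidHom := by
    rw [← hg]; rfl
  obtain ⟨T0, hT0⟩ := exists_sylow_le h
  obtain ⟨k, hk⟩ := MulAction.exists_smul_eq G T T0
  have hkT : (T0 : Subgroup G) = (T : Subgroup G).map (MulAut.conj k).toMonoidHom := by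
    rw [← hk]; rfl
  refine ⟨R.map (MulAut.conj g).toMonoidHom,
    ⟨hgT ▸ Subgroup.map_mono hT1, isElementaryAbelian_of_sq ?_, ?_⟩, ?_⟩
  · rintro _ ⟨a, ha, rfl⟩
    show MulAut.conj g a * MulAut.conj g a = 1
    rw [← map_mul, hR2 a ha, map_one]
  · rw [Subgroup.card_map_of_injective (MulAut.conj g).injective, hRc]
  rintro V ⟨hVT, hV, hVc⟩
  refine Subgroup.map_injective (f := (MulAut.conj k).toMonoidHom) (MulAut.conj k).injective ?_
  have key : ∀ X : Subgroup G, X ≤ (T : Subgroup G) → Cfsg.IsElementaryAbelian 2 X →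
      Nat.card X = 2 ^ 11 →
      X.map (MulAut.conj k).toMonoidHom ≤ (T0 : Subgroup G) ∧
      (∀ a ∈ (X.map (MulAut.conj k).toMonoidHom).subgroupOf H, a * a = 1) ∧
      Nat.card ((X.map (MulAut.conj k).toMonoidHom).subgroupOf H) = 2 ^ 11 ∧
      C.z ∈ (X.map (MulAut.conj k).toMonoidHom).subgroupOf H := by
    intro X hXT hX hXc
    set Y := X.map (MulAut.conj k).toMonoidHom
    have hYT : Y ≤ (T0 : Subgroup G) := hkT ▸ Subgroup.map_mono hXT
    have hYc : Nat.card Y = 2 ^ 11 := by
      rw [Subgroup.card_map_of_injective (MulAut.conj k).injective, hXc]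
    have hY2 : ∀ a ∈ Y, a * a = 1 := by
      rintro _ ⟨a, ha, rfl⟩
      show MulAut.conj k a * MulAut.conj k a = 1
      rw [← map_mul, two_of_mem hX ha, map_one]
    refine ⟨hYT, fun a ha => Subtype.ext (hY2 _ ha), ?_, ?_⟩
    · rw [Nat.card_congr (Subgroup.subgroupOfEquivOfLe (hYT.trans hT0)).toEquiv, hYc]
    · show (C.z : G) ∈ Y
      rw [hCz]
      exact mem_of_le h (isElementaryAbelian_of_sq hY2) hYc (hYT.trans hT0)
  obtain ⟨a1, a2, a3, a4⟩ := key V hVT hV hVc
  obtain ⟨b1, b2, b3, b4⟩ := key (R.map (MulAut.conj g).toMonoidHom)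
    (hgT ▸ Subgroup.map_mono hT1) (isElementaryAbelian_of_sq (by
      rintro _ ⟨a, ha, rfl⟩
      show MulAut.conj g a * MulAut.conj g a = 1
      rw [← map_mul, hR2 a ha, map_one]))
    (by rw [Subgroup.card_map_of_injective (MulAut.conj g).injective, hRc])
  have heq := D.elementary_unique (S := (T0 : Subgroup G).subgroupOf H)
    (T0.2.comap_of_injective H.subtype H.subtype_injective)
    (Subgroup.comap_mono a1) (Subgroup.comap_mono b1) a2 a3 a4 b2 b3 b4
  have := congrArg (Subgroup.map H.subtype) heq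
  rwa [Subgroup.map_comap_eq, Subgroup.map_comap_eq, Subgroup.range_subtype,
    inf_eq_right.2 (a1.trans hT0), inf_eq_right.2 (b1.trans hT0)] at this

end CfsgLib.JFourEleven
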