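import Cfsg.Agent.JFourEleven.ZCount

/-!
# The part of an invariant class of involutions in the preimage of the fixed space
-/

set_option autoImplicit false
set_option linter.unusedSectionVars false

namespace CfsgLib.JFourEleven

open Cfsg CfsgLib.JFourType Module

namespace Cent

namespace Coord

variable {H : Type*} [Group H] {C : Cent H} [Finite H] (D : C.Coord)
include D

/-- A large subgroup elementary modulo the extraspecial group has a pentad subgroup as inner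
image: after one conjugation its inner elements act as lifts of that subgroup. -/
theorem exists_pentad_conj (Y : Subgroup H)
    (hsq : ∀ y ∈ Y, y * y ∈ C.E)
    (hcomm : ∀ y ∈ Y, ∀ y' ∈ Y, y * y' * y⁻¹ * y'⁻¹ ∈ C.E)
    (hY : Nat.card Y = 4096) (hYE : Nat.card (Y ⊓ C.E : Subgroup H) ≤ 128) :
    ∃ cd : H,
      (∀ v ∈ D.fixB pentadGroup, ∀ y ∈ Y, C.pr y ∈ Inn M22g →
        D.ρ y (D.ρ cd⁻¹ v) = D.ρ cd⁻¹ v) ∧
      ∀ v, (∀ y ∈ Y, C.pr y ∈ Inn M22g → D.ρ y v = v) → D.ρ cd v ∈ D.fixB pentadGroup := by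
  classical
  let π : Y →* MulAut M22g := C.pr.comp Y.subtype
  have hker : π.ker ≤ (Y ⊓ C.E).subgroupOf Y := by
    rintro ⟨y, hy⟩ hk
    refine ⟨hy, ?_⟩
    obtain ⟨e, he, p, hp, rfl⟩ := C.ker_decomp (show y ∈ C.pr.ker from hk)
    have hpp : p * p ∈ C.E := by
      rw [show p * p = (p * e⁻¹ * p⁻¹) * e⁻¹ * (e * p * (e * p)) by group]
      exact mul_mem (mul_mem (C.normal p _ (inv_mem he)) (inv_mem he)) (hsq _ hy)
    show e * p ∈ C.E
    rw [C.eq_one_of_sq hp (Or.inl (C.eq_one_of_E_P hpp (mul_mem hp hp)))]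
    rw [mul_one]
    exact he
  have hrange : 32 ≤ Nat.card π.range := by
    have h := π.ker.index_mul_card
    rw [Subgroup.index_ker, hY] at h
    have h2 : Nat.card π.ker ≤ 128 := by
      refine ((Subgroup.card_le_of_le hker).trans_eq ?_).trans hYE
      exact Nat.card_congr (Subgroup.subgroupOfEquivOfLe inf_le_left).toEquiv
    nlinarith
  let B : Subgroup M22g := π.range.comap MulAut.conj
  have hsq' : ∀ σ ∈ π.range, σ * σ = 1 := by
    rintro _ ⟨y, rfl⟩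
    rw [← map_mul]
    exact MonoidHom.mem_ker.1 (C.E_le (hsq y y.2) : (y.1 * y.1) ∈ C.pr.ker)
  have hBsq : ∀ m ∈ B, m * m = 1 := fun m hm =>
    conj_injective (by rw [map_mul, map_one]; exact hsq' _ hm)
  have hcomm' : ∀ σ ∈ π.range, ∀ τ ∈ π.range, σ * τ = τ * σ := fun σ hσ τ hτ => by
    have h := hsq' _ (mul_mem hσ hτ)
    calc σ * τ = (σ * τ)⁻¹ := (inv_eq_of_mul_eq_one_right h).symm
      _ = τ * σ := by rw [mul_inv_rev, inv_eq_of_mul_eq_one_right (hsq' σ hσ),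
          inv_eq_of_mul_eq_one_right (hsq' τ hτ)]
  have hBmap : B.map MulAut.conj = π.range ⊓ Inn M22g := by
    ext σ
    constructor
    · rintro ⟨m, hm, rfl⟩; exact ⟨hm, m, rfl⟩
    · rintro ⟨hσ, m, rfl⟩; exact ⟨m, hσ, rfl⟩
  have h16 := card_elementary_le hBsq
  have hidx : Nat.card π.range ≤ 2 * Nat.card B := by
    have h := Subgroup.relIndex_dvd_index_of_normal (H := Inn M22g) (K := π.range)
    rw [index_inn] at h
    have h3 := Nat.le_of_dvd two_pos h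
    rw [← Subgroup.inf_relIndex_right, inf_comm] at h3
    have h5 := Subgroup.index_mul_card ((π.range ⊓ Inn M22g).subgroupOf π.range)
    rw [Nat.card_congr (Subgroup.subgroupOfEquivOfLe inf_le_left).toEquiv] at h5
    rw [← Subgroup.card_map_of_injective (K := B) conj_injective, hBmap]
    exact h5.symm.trans_le (Nat.mul_le_mul_right _ h3)
  obtain ⟨σ, hσ, ho⟩ : ∃ σ ∈ π.range, σ ∉ Inn M22g := by
    by_contra! hcon
    have : Nat.card π.range = Nat.card B := by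
      rw [← Subgroup.card_map_of_injective (K := B) conj_injective, hBmap, inf_eq_left.2 hcon]
    omega
  have hpen : IsPentad B := by
    refine ⟨hBsq, by omega, σ, ho, fun m hm => conj_injective ?_⟩
    have e : MulAut.conj (σ m) = σ * MulAut.conj m * σ⁻¹ := by
      refine MulEquiv.ext fun x => ?_
      simp
    rw [e, hcomm' σ hσ _ hm, mul_inv_cancel_right]
  obtain ⟨d, hd⟩ := hpen.exists_conj
  obtain ⟨cd, hcd⟩ := C.exists_lift d
  have hρ : ∀ y ∈ Y, ∀ m, C.pr y = MulAut.conj m → m ∈ B ∧ ∀ c, C.Lift c m → C.IsZ (c * c) →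
      D.ρ c = D.ρ y := by
    intro y hy m e
    refine ⟨⟨⟨y, hy⟩, e⟩, fun c hl hz => ?_⟩
    obtain ⟨e', he', c', hl', rfl⟩ := C.decomp_inner e
    have hc2 : c' * c' ∈ C.E := by
      rw [show c' * c' = (c' * e'⁻¹ * c'⁻¹) * e'⁻¹ * (e' * c' * (e' * c')) by group]
      exact mul_mem (mul_mem (C.normal c' _ (inv_mem he')) (inv_mem he')) (hsq _ hy)
    have hz' : C.IsZ (c' * c') := by
      obtain ⟨p, hp, h⟩ := C.ker_CP (C.E_le hc2) (mul_mem hl'.1 hl'.1)
      have hpE : p ∈ C.E := by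
        rcases h with h | h
        · exact h ▸ hc2
        · rw [h] at hc2
          simpa using mul_mem (inv_mem C.z_mem) hc2
      rw [C.eq_one_of_E_P hpE hp] at h
      simpa [IsZ] using h
    rw [map_mul, D.ρ_E he', one_mul, D.ρ_two_eq hl' hl hz' hz]
  refine ⟨cd, fun v hv y hy hin => ?_, fun v hv => ?_⟩
  · obtain ⟨m, e⟩ := hin
    obtain ⟨hm, hc⟩ := hρ y hy m e.symm
    obtain ⟨c, hc2, hl⟩ := C.exists_two hm (hBsq m hm)
    obtain ⟨_, -, -, hz⟩ := hc2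
    have hw : D.ρ cd⁻¹ v ∈ D.fixB B := by
      refine D.fixB_map (inv_mem (C.lift_normalizer hcd)) (fun k hk => ?_) hv
      rw [inv_inv, hcd.2, ← hd]
      exact ⟨k, hk, rfl⟩
    rw [← hc c hl hz]
    exact D.mem_fixB.1 hw c ⟨m, hm, hl, hz⟩
  · refine D.fixB_map (B := B) (C.lift_normalizer hcd) (fun m hm => ?_)
      (D.mem_fixB.2 fun c ⟨m, hm, hl, hz⟩ => ?_)
    · rw [← hd] at hm
      obtain ⟨a, ha, rfl⟩ := hm
      rw [map_inv, hcd.2]
      simpa [mul_assoc] using ha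
    · obtain ⟨⟨y, hy⟩, e⟩ := (hm : MulAut.conj m ∈ π.range)
      rw [(hρ y hy m e).2 c hl hz]
      exact hv y hy ⟨m, e.symm⟩

/-- An involution of the extraspecial group commuting with a large subgroup elementary modulo it
is conjugate into the preimage of the fixed space. -/
theorem exists_conj_Wt {t : H} (ht : t ∈ C.E) (Y : Subgroup H) (hYt : ∀ y ∈ Y, y * t = t * y)
    (hsq : ∀ y ∈ Y, y * y ∈ C.E)
    (hcomm : ∀ y ∈ Y, ∀ y' ∈ Y, y * y' * y⁻¹ * y'⁻¹ ∈ C.E)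
    (hY : Nat.card Y = 4096) (hYE : Nat.card (Y ⊓ C.E : Subgroup H) ≤ 128) :
    ∃ c : H, c * t * c⁻¹ ∈ D.Wt := by
  obtain ⟨cd, -, h⟩ := D.exists_pentad_conj Y hsq hcomm hY hYE
  exact ⟨cd, C.normal cd t ht, by
    rw [← D.ρ_ψ cd t ht]
    exact D.pentad_fix.2 (h _ fun y hy _ => by rw [D.ρ_ψ y t ht, hYt y hy, mul_inv_cancel_right])⟩

/-- The number of members of an invariant class in the preimage of the fixed space. -/
theorem card_class (p : H → Prop) (hinv : ∀ h a, p a → p (h * a * h⁻¹)) (hz : p C.z) (h1 : ¬ p 1)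
    (hex : ∃ a ∈ D.Wt, p a ∧ a ≠ C.z) :
    Nat.card {a : H // a ∈ D.Wt ∧ p a} = 37 ∨ Nat.card {a : H // a ∈ D.Wt ∧ p a} = 91 ∨
      Nat.card {a : H // a ∈ D.Wt ∧ p a} = 127 := by
  classical
  let S : Set Vec := {v | v ≠ 0 ∧ ∃ a ∈ D.Wt, p a ∧ D.ψ a = v}
  have hswap : ∀ a ∈ D.Wt, p a → a ≠ C.z → p (C.z * a) := by
    intro a ha hp hne
    obtain ⟨e, -, h⟩ := D.swap ha.1 (fun e => h1 (e ▸ hp)) hne
    have h' := hinv e a hp
    rwa [h, C.central a] at h'
  have hSW : ∀ v ∈ S, v ∈ D.W := by rintro _ ⟨-, a, ha, -, rfl⟩; exact ha.2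
  have hS : ∀ (c : H) (d : M22g), C.Lift c d → d ∈ Subgroup.normalizer (hexadGroup : Set M22g) →
      ∀ v ∈ S, D.ρ c v ∈ S := by
    rintro c d hc hd _ ⟨hv, a, ha, hp, rfl⟩
    refine ⟨fun e => hv (D.ρ_injective c e), c * a * c⁻¹,
      ⟨C.normal c a ha.1, by rw [← D.ρ_ψ c a ha.1]; exact D.W_lift hc hd ha.2⟩,
      hinv c a hp, (D.ρ_ψ c a ha.1).symm⟩
  have hiff : ∀ a ∈ C.E, (D.ψ a ∈ S ↔ (a ∈ D.Wt ∧ p a) ∧ a ≠ C.z) := by
    intro a ha
    constructor
    · rintro ⟨hv, b, hb, hp, e⟩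
      have haW : a ∈ D.Wt := ⟨ha, e ▸ hb.2⟩
      have hbz : b ≠ C.z := fun h => hv (by rw [← e, h, D.zero_z])
      refine ⟨⟨haW, ?_⟩, fun h => hv (by rw [h, D.zero_z])⟩
      rcases D.eq_of_ψ hb.1 ha e with h | h
      · exact h ▸ hp
      · exact h ▸ hswap b hb hp hbz
    · rintro ⟨⟨haW, hp⟩, hne⟩
      refine ⟨fun e => ?_, a, haW, hp, rfl⟩
      rcases (D.eq_zero a ha).1 e with h | h
      exacts [h1 (h ▸ hp), hne h]
  let Z : Set H := {a | a ∈ D.Wt ∧ p a}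
  have hzZ : C.z ∈ Z := ⟨D.z_mem_Wt, hz⟩
  have hdiff : Nat.card ↥(Z \ {C.z}) = 2 * Nat.card S := by
    rw [← D.card_over_set S]
    exact Nat.card_congr (Equiv.subtypeEquivRight fun a => ⟨fun h => ⟨h.1.1.1,
      (hiff a h.1.1.1).2 ⟨h.1, by simpa using h.2⟩⟩, fun h => by
        obtain ⟨h', h''⟩ := (hiff a h.1).1 h.2
        exact ⟨h', by simpa using h''⟩⟩)
  have hcard : Nat.card {a : H // a ∈ D.Wt ∧ p a} = 2 * Nat.card S + 1 := by
    rw [← hdiff, Nat.card_coe_set_eq]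
    show Nat.card ↥Z = _
    rw [Nat.card_coe_set_eq, Set.ncard_sdiff_singleton_add_one hzZ (Set.toFinite _)]
  have hpos : Nat.card S ≠ 0 := by
    obtain ⟨a, ha, hp, hne⟩ := hex
    haveI : Nonempty S := ⟨⟨D.ψ a, (hiff a ha.1).2 ⟨⟨ha, hp⟩, hne⟩⟩⟩
    exact Nat.card_pos.ne'
  rcases D.card_cases S hSW (fun h => h.1 rfl) hS with h | h | h | h <;> omega

end Coord

end Cent

end CfsgLib.JFourEleven
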