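import Cfsg.Agent.JFourEleven.Count
import Cfsg.Agent.JFourEleven.Pentad
import Cfsg.Agent.JFourEleven.Local
import Cfsg.Agent.JFourType.Perfect

/-!
# The normaliser of the elementary abelian subgroup: the counting layer
-/

set_option autoImplicit false
set_option linter.style.haveILetI false
set_option linter.unusedSectionVars false

namespace CfsgLib.JFourEleven

open Cfsg CfsgLib.JFourType Module

variable {G : Type*} [Group G] [Finite G]

/-- The centralizer of the involution with coordinates on the extraspecial subgroup. -/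
structure Setting (z : G) where
  /-- the subgroup of order three -/
  P : Subgroup G
  type : IsOfJankoFourTypeWith z P
  /-- the abstract centralizer -/
  C : Cent (Subgroup.centralizer ({z} : Set G))
  Cz : (C.z : G) = z
  mapE : C.E.map (Subgroup.centralizer ({z} : Set G)).subtype = twoCoreOfCentralizer z
  mapP : C.P.map (Subgroup.centralizer ({z} : Set G)).subtype = P
  /-- the coordinates -/
  D : C.Coord

theorem nonempty_setting {z : G} (h : IsOfJankoFourTypeAt z) : Nonempty (Setting z) := by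
  obtain ⟨P, hP⟩ := h
  obtain ⟨C, hCz, -, hE, hPm⟩ := exists_cent hP
  obtain ⟨D⟩ := C.nonempty_coord
  exact ⟨⟨P, hP, C, hCz, hE, hPm, D⟩⟩

namespace Setting

variable {z : G} (L : Setting z)
include L

/-- The centralizer of the involution. -/
abbrev H (_ : Setting z) : Subgroup G := Subgroup.centralizer ({z} : Set G)

/-- The elementary abelian subgroup of order `2 ^ 11`. -/
def A : Subgroup G := L.D.R.map L.H.subtype

/-- The extraspecial subgroup. -/
def E : Subgroup G := L.C.E.map L.H.subtype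

theorem mem_A {h : L.H} : (h : G) ∈ L.A ↔ h ∈ L.D.R :=
  Subgroup.mem_map_iff_mem L.H.subtype_injective

theorem mem_E {h : L.H} : (h : G) ∈ L.E ↔ h ∈ L.C.E :=
  Subgroup.mem_map_iff_mem L.H.subtype_injective

theorem A_le_H : L.A ≤ L.H := Subgroup.map_subtype_le _

theorem E_le_H : L.E ≤ L.H := Subgroup.map_subtype_le _

theorem card_A : Nat.card L.A = 2 ^ 11 := by
  rw [A, Subgroup.card_map_of_injective L.H.subtype_injective, L.D.card_R]

theorem card_E : Nat.card L.E = 2 ^ 13 := by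
  rw [E, Subgroup.card_map_of_injective L.H.subtype_injective, L.C.cardE]

theorem A_sq {a : G} (ha : a ∈ L.A) : a * a = 1 := by
  obtain ⟨b, hb, rfl⟩ := ha
  exact congrArg Subtype.val (L.D.R_sq hb)

theorem elem : Cfsg.IsElementaryAbelian 2 L.A := isElementaryAbelian_of_sq fun _ ha => L.A_sq ha

theorem z_A : z ∈ L.A := ⟨L.C.z, L.D.z_mem_R, L.Cz⟩

theorem z_E : z ∈ L.E := ⟨L.C.z, L.C.z_mem, L.Cz⟩

theorem z_ne : z ≠ 1 := fun e => L.C.z_ne (Subtype.ext (L.Cz.trans e))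

theorem inf_eq : L.A ⊓ L.E = L.D.Wt.map L.H.subtype := by
  ext a
  constructor
  · rintro ⟨⟨b, hb, rfl⟩, hE⟩
    exact ⟨b, L.D.mem_Wt_of_ker hb (L.C.E_le (L.mem_E.1 hE)), rfl⟩
  · rintro ⟨b, hb, rfl⟩
    exact ⟨⟨b, L.D.Wt_le_R hb, rfl⟩, ⟨b, hb.1, rfl⟩⟩

theorem cent : Subgroup.centralizer (L.A : Set G) ≤ L.A := by
  intro g hg
  have hgH : g ∈ L.H := Subgroup.mem_centralizer_singleton_iff.2
    (Subgroup.mem_centralizer_iff.1 hg z L.z_A).symm
  exact (L.mem_A (h := ⟨g, hgH⟩)).2 (L.D.centralizer_R fun r hr =>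
    Subtype.ext (Subgroup.mem_centralizer_iff.1 hg r (L.mem_A.2 hr)).symm)

/-- The group is weakly closed in every 2-subgroup containing it. -/
theorem eq_of_le_pGroup {S V : Subgroup G} (hS : IsPGroup 2 S) (hA : L.A ≤ S) (hV : V ≤ S)
    (hV2 : Cfsg.IsElementaryAbelian 2 V) (hVc : Nat.card V = 2 ^ 11) : V = L.A := by
  obtain ⟨T, hT⟩ := hS.exists_le_sylow
  exact (existsUnique_eleven L.type T).unique ⟨hV.trans hT, hV2, hVc⟩
    ⟨hA.trans hT, L.elem, L.card_A⟩

theorem fusion (a : G) (ha : a ∈ L.A) (g : G) (hg : g * a * g⁻¹ ∈ L.A) :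
    ∃ m ∈ Subgroup.normalizer (L.A : Set G), m * a * m⁻¹ = g * a * g⁻¹ := by
  have : Fact (Nat.Prime 2) := ⟨Nat.prime_two⟩
  set b := g * a * g⁻¹ with hb
  set K := Subgroup.centralizer ({b} : Set G) with hK
  let B := L.A.map (MulAut.conj g).toMonoidHom
  have comm : ∀ {x y : G}, x ∈ L.A → y ∈ L.A → x * y = y * x := fun hx hy => by
    haveI := L.elem.1
    exact congrArg Subtype.val (mul_comm' (⟨_, hx⟩ : L.A) ⟨_, hy⟩)
  have hAK : L.A ≤ K := fun x hx => Subgroup.mem_centralizer_singleton_iff.2 (comm hx hg)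
  have hBK : B ≤ K := by
    rintro _ ⟨x, hx, rfl⟩
    refine Subgroup.mem_centralizer_singleton_iff.2 ?_
    show g * x * g⁻¹ * b = b * (g * x * g⁻¹)
    rw [hb, show g * x * g⁻¹ * (g * a * g⁻¹) = g * (x * a) * g⁻¹ by group, comm hx ha]
    group
  have hAp : IsPGroup 2 (L.A.subgroupOf K) := IsPGroup.of_card (n := 11) (by
    rw [Nat.card_congr (Subgroup.subgroupOfEquivOfLe hAK).toEquiv, L.card_A])
  have hBp : IsPGroup 2 (B.subgroupOf K) := IsPGroup.of_card (n := 11) (by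
    rw [Nat.card_congr (Subgroup.subgroupOfEquivOfLe hBK).toEquiv,
      Subgroup.card_map_of_injective (MulAut.conj g).injective, L.card_A])
  obtain ⟨S, hS⟩ := hAp.exists_le_sylow
  obtain ⟨T, hT⟩ := hBp.exists_le_sylow
  obtain ⟨k, hk⟩ := MulAction.exists_smul_eq K T S
  let V := L.A.map (MulAut.conj ((k : G) * g)).toMonoidHom
  have hV : V = L.A := by
    refine L.eq_of_le_pGroup (S := (S : Subgroup K).map K.subtype) (S.2.map K.subtype)
      (fun x hx => ⟨⟨x, hAK hx⟩, hS hx, rfl⟩) ?_ ?_ ?_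
    · rintro _ ⟨x, hx, rfl⟩
      have hxB : g * x * g⁻¹ ∈ B := ⟨x, hx, rfl⟩
      refine ⟨k * ⟨_, hBK hxB⟩ * k⁻¹, ?_, ?_⟩
      · rw [← hk]
        exact ⟨⟨_, hBK hxB⟩, hT hxB, rfl⟩
      · show (k : G) * (g * x * g⁻¹) * (k : G)⁻¹ = (k : G) * g * x * ((k : G) * g)⁻¹
        group
    · refine isElementaryAbelian_of_sq ?_
      rintro _ ⟨x, hx, rfl⟩
      show MulAut.conj ((k : G) * g) x * MulAut.conj ((k : G) * g) x = 1
      rw [← map_mul, L.A_sq hx, map_one]
    · rw [Subgroup.card_map_of_injective (MulAut.conj _).injective, L.card_A]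
  refine ⟨(k : G) * g, ?_, ?_⟩
  · refine Subgroup.mem_normalizer_fintype fun x hx => ?_
    exact hV ▸ (⟨x, hx, rfl⟩ : (k : G) * g * x * ((k : G) * g)⁻¹ ∈ V)
  · rw [show (k : G) * g * a * ((k : G) * g)⁻¹ = (k : G) * b * (k : G)⁻¹ by rw [hb]; group,
      Subgroup.mem_centralizer_singleton_iff.1 k.2, mul_inv_cancel_right]

theorem mem_normalizer_iff {h : L.H} :
    (h : G) ∈ Subgroup.normalizer (L.A : Set G) ↔ h ∈ Subgroup.normalizer (L.D.R : Set L.H) := by
  constructor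
  · intro hh
    refine Subgroup.mem_normalizer_fintype fun r hr => ?_
    exact L.mem_A.1 ((Subgroup.mem_normalizer_iff.1 hh r).1 (L.mem_A.2 hr))
  · intro hh
    refine Subgroup.mem_normalizer_fintype ?_
    rintro _ ⟨r, hr, rfl⟩
    exact L.mem_A.2 ((Subgroup.mem_normalizer_iff.1 hh r).1 hr)

theorem normalizer_inf :
    Subgroup.normalizer (L.A : Set G) ⊓ L.H =
      (Subgroup.normalizer (L.D.R : Set L.H)).map L.H.subtype := by
  ext g
  constructor
  · rintro ⟨hg, hgH⟩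
    exact ⟨⟨g, hgH⟩, L.mem_normalizer_iff.1 hg, rfl⟩
  · rintro ⟨h, hh, rfl⟩
    exact ⟨L.mem_normalizer_iff.2 hh, h.2⟩

theorem card_inner_conj_cases (hex : ∃ a ∈ L.A ⊓ L.E, IsConj z a ∧ a ≠ z) :
    Nat.card {a : G // a ∈ L.A ⊓ L.E ∧ IsConj z a} = 37 ∨
      Nat.card {a : G // a ∈ L.A ⊓ L.E ∧ IsConj z a} = 91 ∨
      Nat.card {a : G // a ∈ L.A ⊓ L.E ∧ IsConj z a} = 127 := by
  have e : Nat.card {a : G // a ∈ L.A ⊓ L.E ∧ IsConj z a} =
      Nat.card {a : L.H // a ∈ L.D.Wt ∧ IsConj z (a : G)} := by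
    refine (Nat.card_congr (Equiv.ofBijective
      (fun a : {a : L.H // a ∈ L.D.Wt ∧ IsConj z (a : G)} => (⟨(a.1 : G), by
        rw [L.inf_eq]; exact ⟨a.1, a.2.1, rfl⟩, a.2.2⟩ : {a : G // a ∈ L.A ⊓ L.E ∧ IsConj z a}))
      ⟨fun a b hab => Subtype.ext (Subtype.ext
        (congrArg (fun x : {a : G // a ∈ L.A ⊓ L.E ∧ IsConj z a} => x.1) hab)), ?_⟩)).symm
    rintro ⟨a, ha, hc⟩
    rw [L.inf_eq] at ha
    obtain ⟨b, hb, rfl⟩ := ha
    exact ⟨⟨b, hb, hc⟩, rfl⟩
  rw [e]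
  refine L.D.card_class (fun a : L.H => IsConj z (a : G)) ?_ ?_ ?_ ?_
  · exact fun h a ha => LargeFischerJ.Layer.isConj_conj (m := (h : G)) ha
  · rw [L.Cz]
  · intro h
    obtain ⟨c, hc⟩ := isConj_iff.1 h
    exact L.z_ne (conj_eq_one_iff.1 hc)
  · obtain ⟨a, ha, hc, hne⟩ := hex
    rw [L.inf_eq] at ha
    obtain ⟨b, hb, rfl⟩ := ha
    exact ⟨b, hb, hc, fun e => hne (by rw [e]; exact L.Cz)⟩

theorem exists_conj_inner [IsSimpleGroup G] (hG : ¬ IsMulCommutative G) :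
    ∃ a ∈ L.A ⊓ L.E, IsConj z a ∧ a ≠ z := by
  obtain ⟨S, hSz, -⟩ := Shape.exists_of_isOfJankoFourTypeWith L.type
  obtain ⟨g, h, -⟩ := Shape.exists_twin hG S
  have hE : S.E = L.E := by
    refine Subgroup.eq_of_le_of_card_ge ?_ (by rw [S.card_E, L.card_E])
    have hle : S.E ≤ L.H := fun x hx => Subgroup.mem_centralizer_singleton_iff.2 (by
      rw [← hSz]; exact S.sub.z_comm hx)
    have hn : (S.E.subgroupOf L.H).Normal := ⟨fun x hx m => by
      rw [Subgroup.mem_subgroupOf] at hx ⊢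
      exact S.conj_mem (S.mem_H.2 (by rw [hSz]; exact Subgroup.mem_centralizer_singleton_iff.1 m.2)) hx⟩
    have hp : IsPGroup 2 (S.E.subgroupOf L.H) :=
      S.isPGroup_E.of_equiv (Subgroup.subgroupOfEquivOfLe hle).symm
    rw [show L.E = twoCoreOfCentralizer z from L.mapE]
    intro x hx
    exact ⟨⟨x, hle hx⟩, le_sSup (show S.E.subgroupOf L.H ∈
      {M : Subgroup L.H | M.Normal ∧ IsPGroup 2 M} from ⟨hn, hp⟩) hx, rfl⟩
  set T := S.conj g with hT
  let Y : Subgroup L.H := (T.cent S).subgroupOf L.H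
  have hYH : T.cent S ≤ L.H := fun x hx => by
    have h2 : x ∈ S.H := hx.2
    have := S.mem_H.1 h2
    rw [hSz] at this
    exact Subgroup.mem_centralizer_singleton_iff.2 this
  obtain ⟨t, ht, htz⟩ : ∃ t : L.H, t ∈ L.C.E ∧ (t : G) = T.z := by
    have := h.mem
    rw [hE] at this
    exact ⟨⟨T.z, L.E_le_H this⟩, L.mem_E.1 this, rfl⟩
  have hEmem : ∀ y : L.H, (y : G) ∈ S.E → y ∈ L.C.E := fun y hy => L.mem_E.1 (hE ▸ hy)
  obtain ⟨c, hc⟩ := L.D.exists_conj_Wt ht Y
    (fun y hy => Subtype.ext (by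
      show (y : G) * t = t * y
      rw [htz]
      exact T.sub.z_comm hy.1))
    (fun y hy => hEmem _ (h.sq_mem_E hy.1))
    (fun y hy y' hy' => hEmem _ (by
      rcases T.sub.comm_eq (x := (y : G)) (y := (y' : G)) hy.1 hy'.1 with e | e
      · show (y : G) * y' * (y : G)⁻¹ * (y' : G)⁻¹ ∈ S.E
        rw [e]; exact one_mem _
      · show (y : G) * y' * (y : G)⁻¹ * (y' : G)⁻¹ ∈ S.E
        rw [e]; exact h.mem))
    (by rw [Nat.card_congr (Subgroup.subgroupOfEquivOfLe hYH).toEquiv, h.symm.card_cent])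
    (by
      rw [← h.card_meet]
      refine Nat.card_le_card_of_injective
        (fun y : (Y ⊓ L.C.E : Subgroup L.H) => (⟨(y.1 : G), ?_, y.2.1.1⟩ : S.meet T)) fun a b e =>
          Subtype.ext (Subtype.ext (congrArg (fun r : S.meet T => r.1) e))
      rw [hE]
      exact L.mem_E.2 y.2.2)
  refine ⟨(c : G) * T.z * (c : G)⁻¹, ?_, ?_, ?_⟩
  · rw [L.inf_eq]
    exact ⟨c * t * c⁻¹, hc, by simp [htz]⟩
  · have hzT : IsConj z T.z := isConj_iff.2 ⟨g, by rw [← hSz]; rfl⟩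
    exact LargeFischerJ.Layer.isConj_conj hzT
  · intro e
    refine h.ne ?_
    have hcz : (c : G) * z = z * c := Subgroup.mem_centralizer_singleton_iff.1 c.2
    have e2 : T.z = (c : G)⁻¹ * ((c : G) * T.z * (c : G)⁻¹) * c := by group
    rw [hSz, e2, e, mul_assoc, ← hcz]
    group

theorem pre [IsSimpleGroup G] (hG : ¬ IsMulCommutative G) : Pre z L.A L.E where
  elem := L.elem
  cardA := by rw [L.card_A]; norm_num
  z_mem := L.z_A
  z_ne := L.z_ne
  cent := L.cent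
  fusion := L.fusion
  R_le := by
    rw [L.normalizer_inf]
    rintro _ ⟨e, he, rfl⟩
    exact ⟨e, Subgroup.mem_normalizer_fintype fun r hr => L.D.conj_R_E he hr, rfl⟩
  R_normal := by
    rintro h ⟨-, hh⟩ _ ⟨e, he, rfl⟩
    exact ⟨⟨h, hh⟩ * e * ⟨h, hh⟩⁻¹, L.C.normal _ _ he, rfl⟩
  z_R := L.z_E
  cardR := by rw [L.card_E]; norm_num
  cardN := by
    rw [L.normalizer_inf, Subgroup.card_map_of_injective L.H.subtype_injective,
      L.D.card_normalizer_R]
  cardAR := by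
    rw [L.inf_eq, Subgroup.card_map_of_injective L.H.subtype_injective, L.D.card_Wt]
  centR := by
    rintro _ ⟨⟨e, he, rfl⟩, hc⟩
    rw [L.inf_eq]
    refine ⟨e, ⟨he, ?_⟩, rfl⟩
    rw [← L.D.orth_W, L.D.orth_mem]
    intro u hu
    obtain ⟨w, hw, rfl⟩ := L.D.surj u
    refine (L.D.B_ψ w hw e he).2 (Subtype.ext ?_)
    exact Subgroup.mem_centralizer_iff.1 hc w (L.inf_eq.symm ▸ ⟨w, ⟨hw, hu⟩, rfl⟩)
  count := L.card_inner_conj_cases (L.exists_conj_inner hG)
  swap := by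
    intro a ha h1 hz
    rw [L.inf_eq] at ha
    obtain ⟨b, hb, rfl⟩ := ha
    obtain ⟨e, he, h⟩ := L.D.swap hb.1 (fun h => h1 (by rw [h]; rfl))
      (fun h => hz (by rw [h]; exact L.Cz))
    refine ⟨e, ⟨e, he, rfl⟩, ?_⟩
    calc (e : G) * b * (e : G)⁻¹ = (b : G) * (L.C.z : G) := congrArg Subtype.val h
      _ = (b : G) * z := by rw [L.Cz]
  sixteen := by
    rintro _ ⟨a, ha, rfl⟩ hE
    have h := L.D.sixteen ha fun he => hE ⟨a, he, rfl⟩
    let e : L.C.E ≃* L.E := L.C.E.equivMapOfInjective L.H.subtype L.H.subtype_injective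
    have hmap : ((Subgroup.centralizer ({a} : Set L.H)).subgroupOf L.C.E).map e.toMonoidHom =
        (Subgroup.centralizer ({(a : G)} : Set G)).subgroupOf L.E := by
      ext x
      obtain ⟨y, rfl⟩ := e.surjective x
      rw [Subgroup.mem_map_equiv, e.symm_apply_apply, Subgroup.mem_subgroupOf,
        Subgroup.mem_subgroupOf, Subgroup.mem_centralizer_singleton_iff,
        Subgroup.mem_centralizer_singleton_iff]
      exact Subtype.ext_iff
    rw [show L.H.subtype a = (a : G) from rfl, ← hmap]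
    exact (Subgroup.index_map_equiv _ e).symm ▸ h
  five := by
    obtain ⟨g, hg, g5, hfree⟩ := L.D.exists_five
    refine ⟨g, ⟨L.mem_normalizer_iff.2 hg, g.2⟩, by rw [← SubmonoidClass.coe_pow, g5]; rfl, ?_⟩
    rintro _ ⟨a, ha, rfl⟩ he
    exact L.mem_E.2 (hfree a ha (L.mem_E.1 he))
  five_inner := by
    obtain ⟨c, d, hl, hd, c5, h2⟩ := L.D.exists_five_fixed
    refine ⟨c, ⟨L.mem_normalizer_iff.2 (L.D.lift_normalizer_R hl hd), c.2⟩,
      by rw [← SubmonoidClass.coe_pow, c5]; rfl, ?_⟩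
    by_contra! hcon
    have hle : L.D.W ≤ L.D.W ⊓ fixed (L.D.ρ c) := fun v hv => by
      refine ⟨hv, mem_fixed.2 ?_⟩
      obtain ⟨w, hw, rfl⟩ := L.D.surj v
      rw [L.D.ρ_ψ c w hw]
      congr 1
      refine Subtype.ext (hcon (w : G) ?_)
      rw [L.inf_eq]
      exact ⟨w, ⟨hw, hv⟩, rfl⟩
    have := Submodule.finrank_mono hle
    rw [L.D.finrank_W, h2] at this
    omega
  three := by
    obtain ⟨g, hg, g3, hfree⟩ := L.D.exists_three'
    refine ⟨g, ⟨L.mem_normalizer_iff.2 hg, g.2⟩, by rw [← SubmonoidClass.coe_pow, g3]; rfl, ?_⟩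
    rintro _ ⟨a, ha, rfl⟩ he
    exact L.mem_E.2 (hfree a ha (L.mem_E.1 he))

/-- The counting layer. -/
theorem layer [IsSimpleGroup G] (hG : ¬ IsMulCommutative G) : LargeFischerJ.Layer z L.A L.E :=
  (L.pre hG).layer

end Setting

end CfsgLib.JFourEleven
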