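import Cfsg.Agent.JFourEleven.Meet
import Cfsg.Agent.JFourEleven.Setting
import Cfsg.Agent.JFourEleven.Frame

/-!
# Elements over the fixed space of a pentad subgroup, and pairs of involutions

The elements over the fixed space of a pentad subgroup are conjugate to the central involution,
since that space is the line of a twin; so the centraliser of two commuting involutions of the two
classes in `A` normalises `A`.
-/

set_option autoImplicit false
set_option linter.style.haveILetI false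
set_option linter.unusedSectionVars false

namespace CfsgLib.JFourEleven

open Cfsg CfsgLib.JFourType CfsgLib.LargeFischerJ

variable {G : Type*} [Group G] [Finite G]

namespace Setting

variable {z : G} (L : Setting z)
include L

theorem exists_twin_shape [IsSimpleGroup G] (hG : ¬ IsMulCommutative G) :
    ∃ (S : Shape G) (g : G), S.z = z ∧ Subgroup.zpowers S.p = L.P ∧ S.E = L.E ∧
      Shape.Twin S (S.conj g) ∧ IsConj z (S.conj g).z := by
  obtain ⟨S, hSz, hSp⟩ := Shape.exists_of_isOfJankoFourTypeWith L.type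
  obtain ⟨g, h, -⟩ := Shape.exists_twin hG S
  refine ⟨S, g, hSz, hSp, ?_, h, isConj_iff.2 ⟨g, by rw [← hSz]; rfl⟩⟩
  refine Subgroup.eq_of_le_of_card_ge ?_ (by rw [S.card_E, L.card_E])
  have hle : S.E ≤ L.H := fun x hx => Subgroup.mem_centralizer_singleton_iff.2 (by
    rw [← hSz]; exact S.sub.z_comm hx)
  have hn : (S.E.subgroupOf L.H).Normal := ⟨fun x hx m => by
    rw [Subgroup.mem_subgroupOf] at hx ⊢
    exact S.conj_mem (S.mem_H.2 (by rw [hSz]; exact Subgroup.mem_centralizer_singleton_iff.1 m.2)) hx⟩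
  have hp : IsPGroup 2 (S.E.subgroupOf L.H) :=
    S.isPGroup_E.of_equiv (Subgroup.subgroupOfEquivOfLe hle).symm
  rw [show L.E = twoCoreOfCentralizer z from L.mapE]
  intro x hx
  exact ⟨⟨x, hle hx⟩, le_sSup (show S.E.subgroupOf L.H ∈
    {M : Subgroup L.H | M.Normal ∧ IsPGroup 2 M} from ⟨hn, hp⟩) hx, rfl⟩

theorem mem_H_of_shape {S : Shape G} (hSz : S.z = z) {x : G} (hx : x ∈ S.H) : x ∈ L.H := by
  have := S.mem_H.1 hx
  rw [hSz] at this
  exact Subgroup.mem_centralizer_singleton_iff.2 this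

/-- An inner element in the sense of the shape is inner. -/
theorem inner_of_shape {S : Shape G} (hSz : S.z = z) (hSp : Subgroup.zpowers S.p = L.P)
    (hSE : S.E = L.E) {y : G} (hy : y ∈ S.H) (hin : S.Inner y) :
    L.C.pr ⟨y, L.mem_H_of_shape hSz hy⟩ ∈ Inn M22g := by
  set yh : L.H := ⟨y, L.mem_H_of_shape hSz hy⟩
  by_contra ho
  have hpP : S.p ∈ L.C.P.map L.H.subtype := by
    rw [L.mapP, ← hSp]; exact Subgroup.mem_zpowers _
  obtain ⟨ph, hph, hpe⟩ := hpP
  have hpe' : (ph : G) = S.p := hpe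
  obtain ⟨e, he, n, hn, hen⟩ := L.C.decomp yh
  have hno : L.C.pr n ∉ Inn M22g := by
    rwa [hen, map_mul, MonoidHom.mem_ker.1 (L.C.E_le he), one_mul] at ho
  have hinv : n * ph = ph⁻¹ * n := mul_inv_eq_iff_eq_mul.1 (L.C.inverts_P hn hno hph)
  have hlin := Shape.lin_of_inner hy hin
  have hcomm : L.D.ρ yh * L.D.ρ ph = L.D.ρ ph * L.D.ρ yh := by
    refine LinearMap.ext fun v => ?_
    obtain ⟨w, hw, rfl⟩ := L.D.surj v
    rw [Module.End.mul_apply, Module.End.mul_apply, L.D.ρ_apply_apply, L.D.ρ_apply_apply,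
      L.D.ρ_ψ _ _ hw, L.D.ρ_ψ _ _ hw]
    have hwS : (w : G) ∈ S.E := hSE ▸ L.mem_E.2 hw
    have e1 := hlin (S.pr (w : G))
    change S.cj y (S.cj S.p (S.pr (w : G))) = S.cj S.p (S.cj y (S.pr (w : G))) at e1
    rw [← S.cj_mul hy S.p_mem_H, ← S.cj_mul S.p_mem_H hy,
      S.cj_pr (mul_mem hy S.p_mem_H) hwS, S.cj_pr (mul_mem S.p_mem_H hy) hwS] at e1
    have m1 : (yh * ph) * w * (yh * ph)⁻¹ ∈ L.C.E := L.C.normal _ w hw
    have m2 : (ph * yh) * w * (ph * yh)⁻¹ ∈ L.C.E := L.C.normal _ w hw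
    have c1 : (((yh * ph) * w * (yh * ph)⁻¹ : L.H) : G) = y * S.p * w * (y * S.p)⁻¹ := by
      simp [yh, hpe', mul_assoc]
    have c2 : (((ph * yh) * w * (ph * yh)⁻¹ : L.H) : G) = S.p * y * w * (S.p * y)⁻¹ := by
      simp [yh, hpe', mul_assoc]
    rcases (Shape.pr_eq_iff (hSE ▸ c1 ▸ L.mem_E.2 m1) (hSE ▸ c2 ▸ L.mem_E.2 m2)).1 e1 with h | h
    · rw [← c1, ← c2] at h
      rw [Subtype.ext h]
    · rw [← c1, ← c2, hSz.trans L.Cz.symm, ← Subgroup.coe_mul] at h
      first
        | rw [Subtype.ext h, L.D.mul _ L.C.z_mem _ m2, L.D.zero_z, zero_add]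
        | rw [Subtype.ext h, L.D.mul _ L.C.z_mem _ m1, L.D.zero_z, zero_add]
        | rw [Subtype.ext h, L.D.mul _ m2 _ L.C.z_mem, L.D.zero_z, add_zero]
        | rw [Subtype.ext h, L.D.mul _ m1 _ L.C.z_mem, L.D.zero_z, add_zero]
  have h2 : L.D.ρ n * L.D.ρ ph = L.D.ρ ph * L.D.ρ n := by
    rwa [hen, map_mul, L.D.ρ_E he, one_mul] at hcomm
  have h3 : L.D.ρ (ph * ph) = 1 := by
    have h4 : L.D.ρ ph⁻¹ * L.D.ρ n = L.D.ρ ph * L.D.ρ n := by rw [← map_mul, ← hinv, map_mul, h2]
    have h5 := congrArg (fun f => L.D.ρ ph * (f * L.D.ρ n⁻¹)) h4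
    simpa [← map_mul, mul_assoc] using h5.symm
  have h4 := L.C.eq_one_of_E_P (L.D.mem_E_of_ρ h3) (mul_mem hph hph)
  have h5 : ph = 1 := L.C.eq_one_of_sq hph (Or.inl h4)
  have hp3 := S.p3
  rw [← hpe', h5, OneMemClass.coe_one, orderOf_one] at hp3
  omega

/-- The elements over the fixed space of a pentad subgroup are conjugate to the central involution. -/
theorem isConj_of_pentad [IsSimpleGroup G] (hG : ¬ IsMulCommutative G) {e : L.H} (he : e ∈ L.C.E)
    (hfix : L.D.ψ e ∈ L.D.fixB pentadGroup) (h1 : e ≠ 1) (hz : e ≠ L.C.z) :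
    IsConj z (e : G) := by
  obtain ⟨S, g, hSz, hSp, hSE, h, hzT⟩ := L.exists_twin_shape hG
  set T := S.conj g with hT
  let Y : Subgroup L.H := (T.cent S).subgroupOf L.H
  have hYH : T.cent S ≤ L.H := fun x hx => L.mem_H_of_shape hSz hx.2
  have hEmem : ∀ y : L.H, (y : G) ∈ S.E → y ∈ L.C.E := fun y hy => L.mem_E.1 (hSE ▸ hy)
  obtain ⟨cd, hcd, -⟩ := L.D.exists_pentad_conj Y
    (fun y hy => hEmem _ (h.sq_mem_E hy.1))
    (fun y hy y' hy' => hEmem _ (by
      rcases T.sub.comm_eq (x := (y : G)) (y := (y' : G)) hy.1 hy'.1 with e | e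
      · show (y : G) * y' * (y : G)⁻¹ * (y' : G)⁻¹ ∈ S.E
        rw [e]; exact one_mem _
      · show (y : G) * y' * (y : G)⁻¹ * (y' : G)⁻¹ ∈ S.E
        rw [e]; exact h.mem))
    (by rw [Nat.card_congr (Subgroup.subgroupOfEquivOfLe hYH).toEquiv, h.symm.card_cent])
    (by
      rw [← h.card_meet]
      refine Nat.card_le_card_of_injective
        (fun y : (Y ⊓ L.C.E : Subgroup L.H) => (⟨(y.1 : G), ?_, y.2.1.1⟩ : S.meet T)) fun a b e =>
          Subtype.ext (Subtype.ext (congrArg (fun r : S.meet T => r.1) e))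
      rw [hSE]
      exact L.mem_E.2 y.2.2)
  set e' := cd⁻¹ * e * cd with he'
  have hev : e' ∈ L.C.E := by simpa using L.C.normal cd⁻¹ e he
  have hψ : L.D.ψ e' = L.D.ρ cd⁻¹ (L.D.ψ e) := by rw [L.D.ρ_ψ _ _ he, inv_inv]
  have heS : (e' : G) ∈ S.E := hSE ▸ L.mem_E.2 hev
  have hL : S.pr (e' : G) ∈ h.frame.L := by
    refine h.frame.mem_L_of_fixed fun v hv => ?_
    obtain ⟨y, hy, rfl⟩ := Shape.mem_linPart.1 hv
    set yh : L.H := ⟨y, L.mem_H_of_shape hSz hy.2.1⟩ with hyh
    have hfx := hcd _ hfix yh hy.1 (L.inner_of_shape hSz hSp hSE hy.2.1 hy.2.2)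
    rw [← hψ, L.D.ρ_ψ _ _ hev] at hfx
    rw [S.cj_pr hy.2.1 heS]
    have m1 := L.C.normal yh e' hev
    rcases L.D.eq_of_ψ hev m1 hfx.symm with h' | h'
    · exact congrArg (fun r : L.H => S.pr (r : G)) h'
    · have h'' : y * (e' : G) * y⁻¹ = S.z * (e' : G) := by
        rw [hSz.trans L.Cz.symm]; exact congrArg Subtype.val h'
      rw [h'', Shape.pr_mul S.sub.z_mem heS, Shape.pr_z, zero_add]
  have hne : S.pr (e' : G) ≠ 0 := fun h0 => by
    rcases (Shape.pr_eq_zero heS).1 h0 with h' | h'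
    · refine h1 ?_
      have : e' = 1 := Subtype.ext h'
      rw [he'] at this
      have h'' := congrArg (fun r => cd * r * cd⁻¹) this
      simpa [mul_assoc] using h''
    · refine hz ?_
      have : e' = L.C.z := Subtype.ext (by rw [h', hSz, L.Cz])
      rw [he'] at this
      have h'' := congrArg (fun r => cd * r * cd⁻¹) this
      simp only [mul_assoc, mul_inv_cancel_left, mul_inv_cancel, mul_one] at h''
      rw [h'', ← mul_assoc, L.C.central, mul_inv_cancel_right]
  -- every element of the twin line is conjugate to the involution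
  have hswap : ∀ a ∈ S.E, IsConj z a → a ≠ S.z → IsConj z (S.z * a) := by
    intro a ha hc hne'
    have hah : a ∈ L.E := hSE ▸ ha
    obtain ⟨b, hb, rfl⟩ := hah
    obtain ⟨r, -, hr⟩ := L.D.swap hb (fun e0 => by
        rw [e0, map_one] at hc
        obtain ⟨c, hc⟩ := isConj_iff.1 hc
        exact L.z_ne (conj_eq_one_iff.1 hc))
      (fun e0 => hne' (by rw [e0, hSz]; exact L.Cz))
    have h' : (r : G) * b * (r : G)⁻¹ = (b : G) * z :=
      (congrArg Subtype.val hr).trans (congrArg ((b : G) * ·) L.Cz)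
    rw [hSz, show z * L.H.subtype b = (b : G) * z from
      (Subgroup.mem_centralizer_singleton_iff.1 b.2).symm, ← h']
    exact Layer.isConj_conj hc
  suffices hc : IsConj z (e' : G) by
    have he2 : (e : G) = (cd : G) * (e' : G) * (cd : G)⁻¹ := by rw [he']; simp [mul_assoc]
    rw [he2]
    exact Layer.isConj_conj hc
  have key : ∀ m ∈ S.H, S.pr (e' : G) = S.cj m (S.pr T.z) → IsConj z (e' : G) := by
    intro m hm hmv
    rw [S.cj_pr hm h.mem] at hmv
    have hmE := S.conj_mem hm h.mem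
    have hcm : IsConj z (m * T.z * m⁻¹) := Layer.isConj_conj hzT
    rcases (Shape.pr_eq_iff heS hmE).1 hmv with h' | h'
    · rwa [h']
    · rw [h']
      exact hswap _ hmE hcm fun e0 => h.ne (by
        have hz' : m * S.z * m⁻¹ = S.z := by rw [S.mem_H.1 hm, mul_inv_cancel_right]
        rw [← hz'] at e0
        exact mul_left_cancel (mul_right_cancel e0))
  have hLline : S.pr (e' : G) ∈ S.space.line (S.pr T.z) := hL
  rcases span_pair_eq hLline with e0 | e0 | e0 | e0
  · exact absurd e0 hne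
  · exact key 1 (one_mem _) (by rw [S.cj_one]; exact e0)
  · exact key S.p S.p_mem_H e0
  · refine key (S.p * S.p) (mul_mem S.p_mem_H S.p_mem_H) ?_
    rw [e0, S.cj_mul S.p_mem_H S.p_mem_H, add_comm]
    exact (S.space.om_om _).symm

/-- An element centralising the central involution and an involution of `A` of the other class
normalises `A`. -/
theorem centralizer_z_others [IsSimpleGroup G] (hG : ¬ IsMulCommutative G) {t : G}
    (ht : t ∈ Layer.others z L.A) {h : G} (hh : h ∈ L.H) (hht : h * t = t * h) :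
    h ∈ Subgroup.normalizer (L.A : Set G) := by
  obtain ⟨htA, ht1, htz⟩ := ht
  set hH : L.H := ⟨h, hh⟩
  set tH : L.H := ⟨t, L.A_le_H htA⟩ with htH
  refine (L.mem_normalizer_iff (h := hH)).2 (L.D.mem_normalizer_R.2 fun m hm => ?_)
  by_contra hmB
  set B' := hexadGroup.map (L.C.pr hH).toMonoidHom with hB'
  obtain ⟨g, hg⟩ := isHexad_map (L.C.pr hH)
  have hgB : hexadConj g = B' := hg
  have hne : hexadConj g ≠ hexadGroup := fun e => hmB (e ▸ hgB ▸ ⟨m, hm, rfl⟩)
  have hcomm : hH * tH = tH * hH := Subtype.ext hht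
  obtain ⟨w, hw, c, hc, htwc⟩ := (L.mem_A (h := tH)).1 htA
  obtain ⟨k, hk, hl, hzc⟩ := hc
  have hprt : L.C.pr tH = MulAut.conj k := by
    rw [htwc, map_mul, MonoidHom.mem_ker.1 (L.C.E_le hw.1), one_mul, hl.2]
  by_cases hk1 : k = 1
  · subst hk1
    have hcE : c ∈ L.C.E := by
      rcases L.C.two_unique (c₁ := 1) ⟨one_mem _, by rw [map_one, map_one]⟩ hl
        (Or.inl (one_mul 1)) hzc with e' | e'
      · rw [e']; exact one_mem _
      · rw [e', one_mul]; exact L.C.z_mem
    have htW : tH ∈ L.D.Wt := L.D.mem_Wt_of_ker ((L.mem_A (h := tH)).1 htA)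
      (L.C.E_le (htwc ▸ mul_mem hw.1 hcE))
    have hfix : L.D.ρ hH (L.D.ψ tH) = L.D.ψ tH := by
      rw [L.D.ρ_ψ _ _ htW.1, hcomm, mul_inv_cancel_right]
    obtain ⟨e, he, n, hn, hen⟩ := L.C.decomp hH
    have hρn : L.D.ρ n (L.D.ψ tH) = L.D.ψ tH := by
      rwa [hen, map_mul, L.D.ρ_E he, one_mul] at hfix
    have hprn : L.C.pr n = L.C.pr hH := by
      rw [hen, map_mul, MonoidHom.mem_ker.1 (L.C.E_le he), one_mul]
    have hvg : L.D.ψ tH ∈ L.D.fixB (hexadConj g) := by
      rw [← hρn]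
      refine L.D.fixB_map hn (fun x hx => ?_) htW.2
      rw [hgB, hB', ← hprn] at hx
      obtain ⟨y, hy, rfl⟩ := hx
      rw [map_inv]
      simpa using hy
    have ht0 : L.D.ψ tH ≠ 0 := fun e0 => by
      rcases (L.D.eq_zero _ htW.1).1 e0 with e' | e'
      · exact ht1 (congrArg Subtype.val e')
      · exact htz (by
          rw [show t = z from (congrArg Subtype.val e').trans L.Cz])
    obtain ⟨c', hc'⟩ := L.D.exists_pentad_of_meet hne ht0 htW.2 hvg
    rw [L.D.ρ_ψ _ _ htW.1] at hc'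
    have h1' : c' * tH * c'⁻¹ ≠ 1 := fun e0 =>
      ht1 (congrArg Subtype.val (conj_eq_one_iff.1 e0))
    have hz' : c' * tH * c'⁻¹ ≠ L.C.z := fun e0 => by
      have e1 : tH = L.C.z := by
        have := congrArg (fun r => c'⁻¹ * r * c') e0
        simpa [mul_assoc, ← L.C.central c'] using this
      exact htz (by rw [show t = z from (congrArg Subtype.val e1).trans L.Cz])
    have hcz := L.isConj_of_pentad hG (L.C.normal c' _ htW.1) hc' h1' hz'
    have e2 : t = (c' : G)⁻¹ * ((c' * tH * c'⁻¹ : L.H) : G) * ((c' : G)⁻¹)⁻¹ := by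
      simp [htH, mul_assoc]
    exact htz (by rw [e2]; exact Layer.isConj_conj hcz)
  · have hfix : L.C.pr hH k = k := by
      apply conj_injective
      have h' := congrArg L.C.pr hcomm
      rw [map_mul, map_mul, hprt] at h'
      refine MulEquiv.ext fun y => ?_
      have := DFunLike.congr_fun h' ((L.C.pr hH)⁻¹ y)
      simp only [MulAut.mul_apply, MulAut.conj_apply, map_mul, map_inv, MulAut.apply_inv_self] at this ⊢
      exact this
    have hmem : k ∈ hexadGroup ⊓ hexadConj g := ⟨hk, hgB ▸ ⟨k, hk, hfix⟩⟩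
    rw [inf_hexadConj hne, Subgroup.mem_bot] at hmem
    exact hk1 hmem

/-- The centraliser of two involutions of `A` of the two classes normalises `A`. -/
theorem centralizer_pair [IsSimpleGroup G] (hG : ¬ IsMulCommutative G) {t v : G}
    (ht : t ∈ Layer.others z L.A) (hv : v ∈ L.A) (hvz : IsConj z v) {h : G}
    (hhv : h * v = v * h) (hht : h * t = t * h) : h ∈ Subgroup.normalizer (L.A : Set G) := by
  obtain ⟨c, hc⟩ := isConj_iff.1 hvz
  obtain ⟨m, hm, hme⟩ := L.fusion z L.z_A c (hc ▸ hv)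
  rw [hc] at hme
  have hm' := inv_mem hm
  have htm : m⁻¹ * t * m⁻¹⁻¹ ∈ Layer.others z L.A :=
    ⟨(Subgroup.mem_normalizer_iff.1 hm' t).1 ht.1, fun e => ht.2.1 (conj_eq_one_iff.1 e),
      fun e => ht.2.2 (by
        have := Layer.isConj_conj (m := m) e
        simpa [mul_assoc] using this)⟩
  have key := L.centralizer_z_others hG htm (h := m⁻¹ * h * m) ?_ ?_
  · have e : h = m * (m⁻¹ * h * m) * m⁻¹ := by group
    rw [e]
    exact mul_mem (mul_mem hm key) hm'
  · refine Subgroup.mem_centralizer_singleton_iff.2 ?_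
    rw [← mul_inv_eq_iff_eq_mul]
    calc m⁻¹ * h * m * z * (m⁻¹ * h * m)⁻¹ = m⁻¹ * (h * (m * z * m⁻¹) * h⁻¹) * m := by group
      _ = m⁻¹ * (m * z * m⁻¹) * m := by rw [hme, hhv, mul_inv_cancel_right]
      _ = z := by group
  · rw [inv_inv, show m⁻¹ * h * m * (m⁻¹ * t * m) = m⁻¹ * (h * t) * m by group, hht]
    group

end Setting

end CfsgLib.JFourEleven
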