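import Cfsg.Agent.JFourEleven.Complement
import Cfsg.Agent.JFourEleven.PentadClass
import Cfsg.Agent.JFourEleven.PairCount
import Cfsg.Agent.JFourEleven.PairShapes

/-!
# The centraliser of an involution of the second class normalises the subgroup of order `2 ^ 11`
-/

set_option autoImplicit false
set_option linter.style.haveILetI false
set_option linter.unusedSectionVars false

namespace CfsgLib.JFourEleven

open Cfsg CfsgLib.JFourType CfsgLib.LargeFischerJ

variable {G : Type*} [Group G] [Finite G]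

/-- An elementary abelian subgroup of order `2 ^ 11`. -/
def IsEleven (V : Subgroup G) : Prop := Cfsg.IsElementaryAbelian 2 V ∧ Nat.card V = 2 ^ 11

/-- The conjugate of a subgroup. -/
abbrev cjSub (g : G) (V : Subgroup G) : Subgroup G := V.map (MulAut.conj g).toMonoidHom

theorem mem_cjSub {g : G} {V : Subgroup G} {x : G} : x ∈ cjSub g V ↔ g⁻¹ * x * g ∈ V := by
  constructor
  · rintro ⟨v, hv, rfl⟩
    simpa [mul_assoc] using hv
  · exact fun h => ⟨_, h, by simp [mul_assoc]⟩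

theorem conj_mem_cjSub {g : G} {V : Subgroup G} {x : G} (hx : x ∈ V) : g * x * g⁻¹ ∈ cjSub g V :=
  ⟨x, hx, rfl⟩

theorem normalizer_cjSub (g : G) (V : Subgroup G) :
    Subgroup.normalizer (cjSub g V : Set G) = cjSub g (Subgroup.normalizer (V : Set G)) :=
  (Subgroup.map_equiv_normalizer_eq V (MulAut.conj g)).symm

theorem cjSub_cancel (g : G) (V : Subgroup G) : cjSub g (cjSub g⁻¹ V) = V := by
  ext x
  simp [mem_cjSub, mul_assoc]

namespace IsEleven

variable {V : Subgroup G} (hV : IsEleven V)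
include hV

theorem sq {a : G} (ha : a ∈ V) : a * a = 1 := two_of_mem hV.1 ha

theorem comm {a b : G} (ha : a ∈ V) (hb : b ∈ V) : a * b = b * a := by
  haveI := hV.1.1
  exact congrArg Subtype.val (mul_comm' (⟨_, ha⟩ : V) ⟨_, hb⟩)

theorem cj (g : G) : IsEleven (cjSub g V) := by
  refine ⟨isElementaryAbelian_of_sq ?_, ?_⟩
  · rintro _ ⟨a, ha, rfl⟩
    show MulAut.conj g a * MulAut.conj g a = 1
    rw [← map_mul, hV.sq ha, map_one]
  · rw [cjSub, Subgroup.card_map_of_injective (MulAut.conj g).injective, hV.2]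

end IsEleven

namespace Setting

variable {z : G} (L : Setting z)
include L

theorem eleven_A : IsEleven L.A := ⟨L.elem, L.card_A⟩

theorem isConj_cj_iff (g x : G) : IsConj z (g * x * g⁻¹) ↔ IsConj z x :=
  ⟨fun h => by simpa [mul_assoc] using Layer.isConj_conj (m := g⁻¹) h, Layer.isConj_conj⟩

/-- The centraliser of involutions of both classes in such a subgroup normalises it. -/
theorem pair_normalizer [IsSimpleGroup G] (hG : ¬ IsMulCommutative G) {V : Subgroup G}
    (hV : IsEleven V) {t v : G} (ht : t ∈ V) (ht1 : t ≠ 1) (htz : ¬ IsConj z t) (hv : v ∈ V)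
    (hvz : IsConj z v) {h : G} (hhv : h * v = v * h) (hht : h * t = t * h) :
    h ∈ Subgroup.normalizer (V : Set G) := by
  obtain ⟨g, rfl⟩ := L.exists_conj_eq_A hV.1 hV.2
  rw [normalizer_cjSub, mem_cjSub]
  refine L.centralizer_pair hG (t := g⁻¹ * t * g) (v := g⁻¹ * v * g)
    ⟨mem_cjSub.1 ht, fun e => ht1 ?_, fun e => htz ?_⟩ (mem_cjSub.1 hv) ?_ ?_ ?_
  · simpa [mul_assoc] using congrArg (fun r => g * r * g⁻¹) e
  · simpa [mul_assoc] using Layer.isConj_conj (m := g) e
  · simpa using Layer.isConj_conj (m := g⁻¹) hvz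
  · calc g⁻¹ * h * g * (g⁻¹ * v * g) = g⁻¹ * (h * v) * g := by group
      _ = g⁻¹ * v * g * (g⁻¹ * h * g) := by rw [hhv]; group
  · calc g⁻¹ * h * g * (g⁻¹ * t * g) = g⁻¹ * (h * t) * g := by group
      _ = g⁻¹ * t * g * (g⁻¹ * h * g) := by rw [hht]; group

/-- Two such subgroups sharing involutions of both classes are equal. -/
theorem eq_of_two_classes [IsSimpleGroup G] (hG : ¬ IsMulCommutative G) {V W : Subgroup G}
    (hV : IsEleven V) (hW : IsEleven W) {t v : G} (ht : t ∈ V) (htW : t ∈ W) (ht1 : t ≠ 1)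
    (htz : ¬ IsConj z t) (hv : v ∈ V) (hvW : v ∈ W) (hvz : IsConj z v) : V = W := by
  have : Fact (Nat.Prime 2) := ⟨Nat.prime_two⟩
  have hle : W ≤ Subgroup.normalizer (V : Set G) := fun w hw =>
    L.pair_normalizer hG hV ht ht1 htz hv hvz (hW.comm hw hvW) (hW.comm hw htW)
  obtain ⟨T, hT⟩ := (IsPGroup.to_sup_of_normal_right' (IsPGroup.of_card hW.2 : IsPGroup 2 W)
    (IsPGroup.of_card hV.2 : IsPGroup 2 V) hle).exists_le_sylow
  exact (existsUnique_eleven L.type T).unique ⟨le_sup_right.trans hT, hV⟩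
    ⟨le_sup_left.trans hT, hW⟩

/-- A subgroup of such a subgroup without conjugates of the involution has at most four elements. -/
theorem card_free_le [IsSimpleGroup G] (hG : ¬ IsMulCommutative G) {V : Subgroup G}
    (hV : IsEleven V) {Q : Subgroup G} (hQ : Q ≤ V) (hz : ∀ q ∈ Q, ¬ IsConj z q) :
    Nat.card Q ≤ 4 := by
  obtain ⟨g, rfl⟩ := L.exists_conj_eq_A hV.1 hV.2
  obtain ⟨K⟩ := nonempty_model (L.layer hG)
  rw [← Subgroup.card_map_of_injective (K := Q) (f := (MulAut.conj g⁻¹).toMonoidHom)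
    (MulAut.conj g⁻¹).injective]
  refine K.card_free_le ?_ ?_
  · rintro _ ⟨q, hq, rfl⟩
    simpa [mul_assoc] using mem_cjSub.1 (hQ hq)
  · rintro _ ⟨q, hq, rfl⟩ e
    exact hz q hq ((L.isConj_cj_iff g⁻¹ q).1 e)

/-- An involution of the first class in `A` normalises no other such subgroup meeting `A` in an
involution of the second class. -/
theorem false_of_normalizer_A [IsSimpleGroup G] (hG : ¬ IsMulCommutative G) {W : Subgroup G}
    (hW : IsEleven W) (hne : W ≠ L.A) {t : G} (ht : t ∈ L.A) (htW : t ∈ W) (ht1 : t ≠ 1)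
    (htz : ¬ IsConj z t) {u : G} (hu : u ∈ L.A) (huz : IsConj z u)
    (huW : u ∈ Subgroup.normalizer (W : Set G)) : False := by
  classical
  obtain ⟨K⟩ := nonempty_model (L.layer hG)
  have hfree : ∀ q ∈ L.A ⊓ W, ¬ IsConj z q := fun q hq hqz => hne
    (L.eq_of_two_classes hG L.eleven_A hW ht htW ht1 htz hq.1 hq.2 hqz).symm
  set Q := L.A ⊓ W with hQ
  have hQ4 : Nat.card Q ≤ 4 := K.card_free_le inf_le_left hfree
  set C := W ⊓ Subgroup.centralizer ({u} : Set G) with hC
  -- the fixed points of an involution on `W`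
  have hu2 := L.A_sq hu
  have hui : u⁻¹ = u := inv_eq_of_mul_eq_one_right hu2
  have hc : ∀ w : W, u * w * u⁻¹ ∈ W := fun w => (Subgroup.mem_normalizer_iff.1 huW _).1 w.2
  let φ : W →* W := MonoidHom.mk' (fun w => w * ⟨_, hc w⟩) fun a b => Subtype.ext (by
    show (a : G) * b * (u * (a * b) * u⁻¹) = a * (u * a * u⁻¹) * (b * (u * b * u⁻¹))
    rw [show u * ((a : G) * b) * u⁻¹ = (u * a * u⁻¹) * (u * b * u⁻¹) by group, mul_assoc,
      ← mul_assoc (b : G), hW.comm b.2 (hc a), ← mul_assoc, ← mul_assoc, ← mul_assoc]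
    group)
  have hker : φ.ker = C.subgroupOf W := by
    ext w
    rw [MonoidHom.mem_ker, Subgroup.mem_subgroupOf, hC, Subgroup.mem_inf]
    constructor
    · intro h
      have h' : (w : G) * (u * w * u⁻¹) = 1 := congrArg Subtype.val h
      refine ⟨w.2, Subgroup.mem_centralizer_singleton_iff.2 ?_⟩
      have e : u * (w : G) * u⁻¹ = w :=
        (eq_inv_of_mul_eq_one_right h').trans (inv_eq_of_mul_eq_one_right (hW.sq w.2))
      exact (mul_inv_eq_iff_eq_mul.1 e).symm
    · rintro ⟨-, h⟩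
      refine Subtype.ext ?_
      show (w : G) * (u * w * u⁻¹) = 1
      rw [← Subgroup.mem_centralizer_singleton_iff.1 h, mul_inv_cancel_right, hW.sq w.2]
  have hran : φ.range ≤ φ.ker := by
    rintro _ ⟨w, rfl⟩
    refine Subtype.ext ?_
    show (w : G) * (u * w * u⁻¹) * (u * ((w : G) * (u * w * u⁻¹)) * u⁻¹) = 1
    have : u * ((w : G) * (u * w * u⁻¹)) * u⁻¹ = (u * w * u⁻¹) * w := by
      calc u * ((w : G) * (u * w * u⁻¹)) * u⁻¹ = (u * w * u⁻¹) * (u * u * w * (u * u)⁻¹) := by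
            group
        _ = (u * w * u⁻¹) * w := by rw [hu2, inv_one, mul_one, one_mul]
    rw [this, hW.comm (hc w) w.2]
    exact hW.sq (mul_mem w.2 (hc w))
  have hCcard : Nat.card φ.ker = Nat.card C := by
    rw [hker, Nat.card_congr (Subgroup.subgroupOfEquivOfLe inf_le_left).toEquiv]
  have h64 : 64 ≤ Nat.card C := by
    have h1 := Subgroup.card_eq_card_quotient_mul_card_subgroup φ.ker
    rw [Nat.card_congr (QuotientGroup.quotientKerEquivRange φ).toEquiv, hW.2] at h1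
    have h2 : Nat.card φ.range ≤ Nat.card φ.ker := Nat.le_of_dvd Nat.card_pos
      (Subgroup.card_dvd_of_le hran)
    obtain ⟨k, hk, hk'⟩ := (Nat.dvd_prime_pow Nat.prime_two).1 (Dvd.intro_left _ h1.symm)
    rw [← hCcard, hk']
    have h3 : 2 ^ 11 ≤ 2 ^ (k + k) := by
      rw [pow_add, ← hk']
      exact h1.trans_le (Nat.mul_le_mul_right _ h2)
    have h4 : 11 ≤ k + k := (Nat.pow_le_pow_iff_right (by norm_num)).1 h3
    exact (show 2 ^ 6 ≤ 2 ^ k from Nat.pow_le_pow_right (by norm_num) (by omega))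
  obtain ⟨x, hx, hxz⟩ : ∃ x ∈ C, IsConj z x := by
    by_contra! hcon
    exact absurd (h64.trans (L.card_free_le hG hW (inf_le_left : C ≤ W) hcon)) (by norm_num)
  have hxA : x ∉ L.A := fun h => hfree x ⟨h, hx.1⟩ hxz
  have hCN : ∀ w ∈ C, w ∈ Subgroup.normalizer (L.A : Set G) := fun w hw =>
    L.centralizer_pair hG ⟨ht, ht1, htz⟩ hu huz (Subgroup.mem_centralizer_singleton_iff.1 hw.2)
      (hW.comm hw.1 htW)
  set xn : Subgroup.normalizer (L.A : Set G) := ⟨x, hCN x hx⟩ with hxn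
  have hsq : ∀ w (hw : w ∈ C), K.τ ⟨w, hCN w hw⟩ * K.τ ⟨w, hCN w hw⟩ = 1 := fun w hw => by
    rw [← map_mul, K.mem_ker]
    show w * w ∈ L.A
    rw [hW.sq hw.1]
    exact one_mem _
  have hs1 : K.τ xn ≠ 1 := fun h => hxA (K.mem_ker.1 h)
  have hsub : (C : Set G) ⊆ (Q : Set G) ∪ (fun q => q * x) '' (Q : Set G) := by
    intro w hw
    set wn : Subgroup.normalizer (L.A : Set G) := ⟨w, hCN w hw⟩ with hwn
    have hcomm : wn * xn = xn * wn := Subtype.ext (hW.comm hw.1 hx.1)
    have hτ := eq_one_or_self (K.τ wn).2 (K.τ xn).2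
      (congrArg Subtype.val (hsq x hx)) (congrArg Subtype.val (hsq w hw))
      (congrArg Subtype.val (show K.τ wn * K.τ xn = K.τ xn * K.τ wn by
        rw [← map_mul, ← map_mul, hcomm])) (fun c d hcd hcase => by
        have hfix : (xn : G) * K.δ c d * (xn : G)⁻¹ = K.δ c d := by
          rw [K.conj]
          rcases hcase with ⟨h1, h2⟩ | ⟨h1, h2⟩
          · rw [h1, h2, K.δ_comm]
          · rw [h1, h2]
        have hax : K.δ c d * x = x * K.δ c d := (mul_inv_eq_iff_eq_mul.1 hfix).symm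
        have haW : K.δ c d ∈ Subgroup.normalizer (W : Set G) :=
          L.pair_normalizer hG hW htW ht1 htz hx.1 hxz hax (L.eleven_A.comm (K.mem c d) ht)
        have hQm : w * K.δ c d * w⁻¹ * (K.δ c d)⁻¹ ∈ Q := by
          refine Subgroup.mem_inf.2 ⟨mul_mem ((Subgroup.mem_normalizer_iff.1 wn.2 _).1 (K.mem c d))
            (inv_mem (K.mem c d)), ?_⟩
          rw [mul_assoc, mul_assoc, ← mul_assoc (K.δ c d)]
          exact mul_mem hw.1 ((Subgroup.mem_normalizer_iff.1 haW _).1 (inv_mem hw.1))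
        by_contra! hcon
        refine hfree _ hQm ?_
        have hconj := K.conj wn c d
        change w * K.δ c d * w⁻¹ = _ at hconj
        rw [hconj, inv_eq_of_mul_eq_one_right (K.sq_δ c d),
          L.eleven_A.comm (K.mem _ _) (K.mem c d)]
        exact K.isConj_disjoint hcd (fun e => hcd (Equiv.injective _ e)) hcon.1 hcon.2.1
          hcon.2.2.1 hcon.2.2.2)
    rcases hτ with h | h
    · exact Or.inl ⟨K.mem_ker.1 (Subtype.ext h : K.τ wn = 1), hw.1⟩
    · have h' : K.τ wn = K.τ xn := Subtype.ext h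
      have h1 : K.τ (wn * xn) = 1 := by rw [map_mul, h']; exact hsq x hx
      refine Or.inr ⟨w * x, ⟨K.mem_ker.1 h1, mul_mem hw.1 hx.1⟩, ?_⟩
      show w * x * x = w
      rw [mul_assoc, hW.sq hx.1, mul_one]
  have h8 : Nat.card C ≤ 8 := by
    rw [← SetLike.coe_sort_coe, Nat.card_coe_set_eq]
    refine (Set.ncard_le_ncard hsub (Set.toFinite _)).trans ((Set.ncard_union_le _ _).trans ?_)
    have := Set.ncard_image_le (f := fun q => q * x) (s := (Q : Set G)) (Set.toFinite _)
    rw [← SetLike.coe_sort_coe, Nat.card_coe_set_eq] at hQ4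
    omega
  omega

/-- An involution of the first class in such a subgroup normalises no other such subgroup meeting
it in an involution of the second class. -/
theorem false_of_normalizer [IsSimpleGroup G] (hG : ¬ IsMulCommutative G) {V W : Subgroup G}
    (hV : IsEleven V) (hW : IsEleven W) (hne : W ≠ V) {t : G} (ht : t ∈ V) (htW : t ∈ W)
    (ht1 : t ≠ 1) (htz : ¬ IsConj z t) {u : G} (hu : u ∈ V) (huz : IsConj z u)
    (huW : u ∈ Subgroup.normalizer (W : Set G)) : False := by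
  obtain ⟨g, rfl⟩ := L.exists_conj_eq_A hV.1 hV.2
  have tr : ∀ {x : G}, g * (g⁻¹ * x * g) * g⁻¹ = x := fun {x} => by group
  refine L.false_of_normalizer_A hG (hW.cj g⁻¹)
    (fun e => hne (by rw [← cjSub_cancel g W, e])) (t := g⁻¹ * t * g) (u := g⁻¹ * u * g)
    (mem_cjSub.1 ht) ?_ (fun e => ht1 (tr.symm.trans (by rw [e]; group)))
    (fun e => htz (tr (x := t) ▸ Layer.isConj_conj e)) (mem_cjSub.1 hu) ?_ ?_
  · rw [mem_cjSub, inv_inv, tr]; exact htW
  · exact (L.isConj_cj_iff g _).1 (by rwa [tr])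
  · rw [normalizer_cjSub, mem_cjSub, inv_inv, tr]; exact huW

/-- An element inverted up to the common part lies in the base subgroup. -/
theorem mem_of_flip [IsSimpleGroup G] (hG : ¬ IsMulCommutative G) {V V' : Subgroup G}
    (hV : IsEleven V) (hV' : IsEleven V') {t : G} (ht : t ∈ V) (htV' : t ∈ V') (ht1 : t ≠ 1)
    (htz : ¬ IsConj z t) {v i q : G} (hv : v ∈ V) (hvz : IsConj z v) (he : i * v ∈ V')
    (hez : IsConj z (i * v)) (hq : q ∈ V') (hflip : v * i * v⁻¹ = q * i) : i ∈ V := by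
  have e : v * (i * v) * v⁻¹ = q * (i * v) := by
    calc v * (i * v) * v⁻¹ = v * i * v⁻¹ * v := by group
      _ = q * (i * v) := by rw [hflip, mul_assoc]
  have htt : v * t * v⁻¹ = t := by rw [hV.comm hv ht, mul_inv_cancel_right]
  have heq : cjSub v V' = V' := L.eq_of_two_classes hG (hV'.cj v) hV' (t := t)
    (v := v * (i * v) * v⁻¹) (htt ▸ conj_mem_cjSub htV') htV' ht1 htz (conj_mem_cjSub he)
    (e ▸ mul_mem hq he) (Layer.isConj_conj hez)
  have hN : v ∈ Subgroup.normalizer (V' : Set G) := Subgroup.mem_normalizer_fintype fun x hx => by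
    have h := conj_mem_cjSub (g := v) hx
    rwa [heq] at h
  by_cases hVV : V' = V
  · have := mul_mem (hVV ▸ he) (inv_mem hv)
    rwa [mul_inv_cancel_right] at this
  · exact (L.false_of_normalizer hG hV hV' hVV ht htV' ht1 htz hv hvz hN).elim

/-- The centraliser of an involution of the second class normalises the subgroup. -/
theorem centralizer_others [IsSimpleGroup G] (hG : ¬ IsMulCommutative G) {t : G}
    (ht : t ∈ Layer.others z L.A) :
    Subgroup.centralizer ({t} : Set G) ≤ Subgroup.normalizer (L.A : Set G) := by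
  classical
  intro g hg
  have hgt : g * t * g⁻¹ = t := by
    rw [Subgroup.mem_centralizer_singleton_iff.1 hg, mul_inv_cancel_right]
  by_cases hWA : cjSub g L.A = L.A
  · exact Subgroup.mem_normalizer_fintype fun x hx => hWA ▸ conj_mem_cjSub (g := g) hx
  exfalso
  obtain ⟨htA, ht1, htz⟩ := ht
  obtain ⟨K⟩ := nonempty_model (L.layer hG)
  set W := cjSub g L.A with hWdef
  have hA := L.eleven_A
  have hW : IsEleven W := hA.cj g
  have htW : t ∈ W := hgt ▸ conj_mem_cjSub htA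
  set Q := L.A ⊓ W with hQ
  have hfree : ∀ q ∈ Q, ¬ IsConj z q := fun q hq hqz => hWA
    (L.eq_of_two_classes hG hA hW htA htW ht1 htz hq.1 hq.2 hqz).symm
  obtain ⟨a, b, hab, hd⟩ := (K.others_iff t).1 ⟨htA, ht1, htz⟩
  have htQ : t ∈ Q := ⟨htA, htW⟩
  obtain ⟨x, hxW, hxz⟩ : ∃ x ∈ W, IsConj z x :=
    ⟨g * z * g⁻¹, conj_mem_cjSub L.z_A, Layer.isConj_conj (IsConj.refl z)⟩
  let Kind : G → Prop := fun v => ∀ q ∈ Q, IsConj z (v * q)
  obtain ⟨u, huA, huz, hkind⟩ : ∃ u ∈ L.A, IsConj z u ∧ (Kind u ↔ ¬ Kind x) := by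
    obtain ⟨⟨u0, h01, h02, h03⟩, u1, h11, h12, h13⟩ :=
      K.exists_kinds (fun _ h _ h' => hA.comm h h') inf_le_left hfree hab (hd ▸ htQ)
    by_cases hx : Kind x
    · exact ⟨u0, h01, h02, iff_of_false h03 (not_not.2 hx)⟩
    · exact ⟨u1, h11, h12, iff_of_true h13 hx⟩
  set Z := Subgroup.centralizer (Q : Set G) with hZ
  have huZ : u ∈ Z := Subgroup.mem_centralizer_iff.2 fun q hq => hA.comm hq.1 huA
  have hxZ : x ∈ Z := Subgroup.mem_centralizer_iff.2 fun q hq => hW.comm hq.2 hxW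
  have hui : u⁻¹ = u := inv_eq_of_mul_eq_one_right (hA.sq huA)
  have hxi : x⁻¹ = x := inv_eq_of_mul_eq_one_right (hW.sq hxW)
  set y := u * x with hy
  have hyi : y⁻¹ = x * u := by rw [hy, mul_inv_rev, hui, hxi]
  have huy : u * y * u⁻¹ = y⁻¹ := by
    rw [hyi, hy, hui, ← mul_assoc, hA.sq huA, one_mul]
  have hxy : x * y * x⁻¹ = y⁻¹ := by
    rw [hyi, hy, hxi, mul_assoc, mul_assoc, hW.sq hxW, mul_one]
  have hyZ : y ∈ Z := mul_mem huZ hxZ
  have dbl : ∀ {v : G}, v * y * v⁻¹ = y⁻¹ → ∀ m : ℕ, y ^ m * v * (y ^ m)⁻¹ = y ^ (m + m) * v := by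
    intro v hv m
    have h1 : v * y ^ m * v⁻¹ = (y ^ m)⁻¹ := by rw [← conj_pow, hv, inv_pow]
    calc y ^ m * v * (y ^ m)⁻¹ = y ^ m * (v * y ^ m * v⁻¹)⁻¹ * v := by group
      _ = y ^ (m + m) * v := by rw [h1, inv_inv, ← pow_add]
  have hex : ∃ n, 0 < n ∧ y ^ n ∈ Q :=
    ⟨orderOf y, orderOf_pos y, by rw [pow_orderOf_eq_one]; exact one_mem _⟩
  obtain ⟨hn0, hnQ⟩ := Nat.find_spec hex
  rcases Nat.even_or_odd (Nat.find hex) with ⟨k, hk⟩ | ⟨k, hk⟩
  · rw [hk] at hnQ
    have hk0 : 0 < k := by omega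
    have hiQ : y ^ k ∉ Q := fun h => Nat.find_min hex (show k < Nat.find hex by omega) ⟨hk0, h⟩
    have main : ∀ (V : Subgroup G) (v : G), IsEleven V → Q ≤ V → v ∈ V → IsConj z v →
        v * y * v⁻¹ = y⁻¹ → ∀ (d vb : G) (Vb : Subgroup G), d ∈ Z → IsEleven Vb → Q ≤ Vb →
        vb ∈ Vb → IsConj z vb → d * vb * d⁻¹ = y ^ k * v → y ^ k ∈ V := by
      intro V v hV hQV hv hvz hinv d vb Vb hdZ hVb hQb hvb hvbz he
      have hQd : ∀ q ∈ Q, q ∈ cjSub d Vb := fun q hq => by
        rw [mem_cjSub, mul_assoc, Subgroup.mem_centralizer_iff.1 hdZ q hq, inv_mul_cancel_left]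
        exact hQb hq
      refine L.mem_of_flip hG hV (hVb.cj d) (hQV htQ) (hQd t htQ) ht1 htz
        (i := y ^ k) (q := (y ^ (k + k))⁻¹) hv hvz (he ▸ conj_mem_cjSub hvb)
        (he ▸ Layer.isConj_conj hvbz) (hQd _ (inv_mem hnQ)) ?_
      rw [← conj_pow, hinv, inv_pow, pow_add]
      group
    have hyu : y * u = u * x * u⁻¹ := by rw [hy, hui]
    have hyx : y * x = u := by rw [hy, mul_assoc, hW.sq hxW, mul_one]
    have hinvu : (y * u) * y * (y * u)⁻¹ = y⁻¹ := by
      calc (y * u) * y * (y * u)⁻¹ = y * (u * y * u⁻¹) * y⁻¹ := by group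
        _ = y⁻¹ := by rw [huy]; group
    refine hiQ ⟨?_, ?_⟩
    · refine (?_ : y ^ k ∈ L.A)
      rcases Nat.even_or_odd k with ⟨m, hm⟩ | ⟨m, hm⟩
      · exact main L.A u hA inf_le_left huA huz huy (y ^ m) u L.A (pow_mem hyZ m) hA inf_le_left
          huA huz (by rw [dbl huy, hm])
      · refine main L.A u hA inf_le_left huA huz huy (y ^ m * u) x W (mul_mem (pow_mem hyZ m) huZ)
          hW inf_le_right hxW hxz ?_
        calc y ^ m * u * x * (y ^ m * u)⁻¹ = y ^ m * (u * x * u⁻¹) * (y ^ m)⁻¹ := by group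
          _ = y ^ k * u := by
            rw [← hyu, dbl hinvu, ← mul_assoc, ← pow_succ, hm, two_mul]
    · refine (?_ : y ^ k ∈ W)
      rcases Nat.even_or_odd k with ⟨m, hm⟩ | ⟨m, hm⟩
      · exact main W x hW inf_le_right hxW hxz hxy (y ^ m) x W (pow_mem hyZ m) hW inf_le_right
          hxW hxz (by rw [dbl hxy, hm])
      · refine main W x hW inf_le_right hxW hxz hxy (y ^ m) u L.A (pow_mem hyZ m)
          hA inf_le_left huA huz ?_
        rw [dbl huy, ← hyx, ← mul_assoc, ← pow_succ, hm, two_mul]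
  · rw [hk, pow_succ, two_mul] at hnQ
    set q := y ^ (k + k) * y with hq
    have hqx : q * x = x * q := (Subgroup.mem_centralizer_iff.1 hxZ q hnQ)
    have hs : y ^ k * u * (y ^ k)⁻¹ = q * x := by
      rw [dbl huy, hq, mul_assoc (y ^ (k + k)), show y * x = u by
        rw [hy, mul_assoc, hW.sq hxW, mul_one]]
    have key : ∀ r ∈ Q, (IsConj z (u * r) ↔ IsConj z (x * (q * r))) := fun r hr => by
      have e : y ^ k * (u * r) * (y ^ k)⁻¹ = x * (q * r) := by
        calc y ^ k * (u * r) * (y ^ k)⁻¹ = y ^ k * u * (r * (y ^ k)⁻¹) := by group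
          _ = y ^ k * u * (y ^ k)⁻¹ * r := by
            rw [Subgroup.mem_centralizer_iff.1 (inv_mem (pow_mem hyZ k)) r hr, ← mul_assoc]
          _ = x * (q * r) := by rw [hs, hqx, mul_assoc]
      rw [← e, L.isConj_cj_iff]
    have hiff : Kind u ↔ Kind x := by
      refine ⟨fun h r hr => ?_, fun h r hr => (key r hr).2 (h _ (mul_mem hnQ hr))⟩
      have := (key _ (mul_mem (inv_mem hnQ) hr)).1 (h _ (mul_mem (inv_mem hnQ) hr))
      rwa [mul_inv_cancel_left] at this
    exact iff_not_self (hiff.symm.trans hkind)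

/-- The two orbits of the normaliser of the standard subgroup. -/
theorem orbit_conjs :
    {v : G | ∃ n ∈ Subgroup.normalizer (L.A : Set G), n * z * n⁻¹ = v} = Layer.conjs z L.A := by
  ext v
  constructor
  · rintro ⟨n, hn, rfl⟩
    exact ⟨(Subgroup.mem_normalizer_iff.1 hn z).1 L.z_A, Layer.isConj_conj (IsConj.refl z)⟩
  · rintro ⟨hv, hvz⟩
    obtain ⟨c, rfl⟩ := isConj_iff.1 hvz
    exact L.fusion z L.z_A c hv

theorem orbit_others [IsSimpleGroup G] (hG : ¬ IsMulCommutative G) {t : G}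
    (ht : t ∈ Layer.others z L.A) :
    {v : G | ∃ n ∈ Subgroup.normalizer (L.A : Set G), n * t * n⁻¹ = v} = Layer.others z L.A := by
  ext v
  constructor
  · rintro ⟨n, hn, rfl⟩
    exact ⟨(Subgroup.mem_normalizer_iff.1 hn t).1 ht.1, fun e => ht.2.1 (conj_eq_one_iff.1 e),
      fun e => ht.2.2 ((L.isConj_cj_iff n t).1 e)⟩
  · exact fun hv => (L.layer hG).others_transitive ht hv

end Setting

namespace Model

variable {z : G} {A : Subgroup G} (K : Model z A)

include K in
/-- The centraliser of a two-point element normalises the subgroup. -/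
theorem centralizer_le [IsSimpleGroup G] (hG : ¬ IsMulCommutative G) (L : Setting z)
    (hA : L.A = A) {p q : GolayPt} (h : p ≠ q) :
    Subgroup.centralizer ({K.δ p q} : Set G) ≤ Subgroup.normalizer (A : Set G) := by
  subst hA
  exact L.centralizer_others hG (K.δ_others h)

end Model

/-- The orbits of the normaliser of an elementary abelian subgroup of order `2 ^ 11`. -/
theorem orbits_of_card [IsSimpleGroup G] (hG : ¬ IsMulCommutative G) {z : G}
    (hJ : IsOfJankoFourTypeAt z) {V : Subgroup G} (hV : Cfsg.IsElementaryAbelian 2 V)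
    (hc : Nat.card V = 2 ^ 11) :
    ∃ z' t : G, z' ∈ V ∧ t ∈ V ∧ t ≠ 1 ∧ IsConj z z' ∧ ¬ IsConj z t ∧
    Set.ncard {v : G | ∃ n ∈ Subgroup.normalizer (V : Set G), n * z' * n⁻¹ = v} = 1771 ∧
    Set.ncard {v : G | ∃ n ∈ Subgroup.normalizer (V : Set G), n * t * n⁻¹ = v} = 276 ∧
    Subgroup.centralizer ({t} : Set G) ≤ Subgroup.normalizer (V : Set G) := by
  obtain ⟨L⟩ := nonempty_setting hJ
  obtain ⟨g, rfl⟩ := L.exists_conj_eq_A hV hc
  change ∃ z' t : G, z' ∈ cjSub g L.A ∧ _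
  obtain ⟨⟨t, ht⟩⟩ : Nonempty (Layer.others z L.A) := (Nat.card_pos_iff.1 (by
    rw [(L.layer hG).card_others]; norm_num)).1
  have himg : ∀ c : G, {v : G | ∃ n ∈ Subgroup.normalizer (cjSub g L.A : Set G),
      n * (g * c * g⁻¹) * n⁻¹ = v} =
      MulAut.conj g '' {v : G | ∃ n ∈ Subgroup.normalizer (L.A : Set G), n * c * n⁻¹ = v} := by
    intro c
    ext v
    constructor
    · rintro ⟨n, hn, rfl⟩
      rw [normalizer_cjSub, mem_cjSub] at hn
      exact ⟨_, ⟨_, hn, rfl⟩, by simp [mul_assoc]⟩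
    · rintro ⟨_, ⟨n, hn, rfl⟩, rfl⟩
      refine ⟨g * n * g⁻¹, ?_, by simp [mul_assoc]⟩
      rw [normalizer_cjSub]
      exact conj_mem_cjSub hn
  refine ⟨g * z * g⁻¹, g * t * g⁻¹, conj_mem_cjSub L.z_A, conj_mem_cjSub ht.1,
    fun e => ht.2.1 (conj_eq_one_iff.1 e), Layer.isConj_conj (IsConj.refl z),
    fun e => ht.2.2 ((L.isConj_cj_iff g t).1 e), ?_, ?_, ?_⟩
  · rw [himg, Set.ncard_image_of_injective _ (MulAut.conj g).injective, L.orbit_conjs,
      ← Nat.card_coe_set_eq]
    exact (L.layer hG).main.1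
  · rw [himg, Set.ncard_image_of_injective _ (MulAut.conj g).injective, L.orbit_others hG ht,
      ← Nat.card_coe_set_eq]
    exact (L.layer hG).card_others
  · intro h hh
    rw [normalizer_cjSub, mem_cjSub]
    refine L.centralizer_others hG ht (Subgroup.mem_centralizer_singleton_iff.2 ?_)
    calc g⁻¹ * h * g * t = g⁻¹ * (h * (g * t * g⁻¹)) * g := by group
      _ = t * (g⁻¹ * h * g) := by rw [Subgroup.mem_centralizer_singleton_iff.1 hh]; group

end CfsgLib.JFourEleven
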