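import Cfsg.Agent.JFourEleven.Cocode
import Cfsg.Agent.JFourEleven.Setting

/-!
# The normaliser acts on the elementary abelian group as M24 on the even part of the cocode
-/

set_option autoImplicit false
set_option linter.style.haveILetI false
set_option linter.unusedSectionVars false

namespace CfsgLib.JFourEleven

open Cfsg CfsgLib.LargeFischerJ Matrix
open CfsgLib.MTwentyThreeUnique.Gl11 (V M vecOf ext_cols)
open CfsgLib.MTwentyFourUnique.Gl11 (repD24 repM24 repD24_injective repM24_injective)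

variable {G : Type*} [Group G] [Finite G]

/-- The elements indexed by pairs of points, and the map of the normaliser onto M24. -/
structure Model (z : G) (A : Subgroup G) where
  /-- the map onto M24 -/
  τ : Subgroup.normalizer (A : Set G) →* Cfsg.M24
  surj : Function.Surjective τ
  ker : τ.ker = A.subgroupOf (Subgroup.normalizer (A : Set G))
  /-- the element of two points -/
  δ : GolayPt → GolayPt → G
  mem : ∀ p q, δ p q ∈ A
  mul : ∀ p q r, δ p q * δ q r = δ p r
  eq_iff : ∀ {p q}, p ≠ q → ∀ r s, δ r s = δ p q ↔ (r = p ∧ s = q) ∨ (r = q ∧ s = p)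
  others_iff : ∀ a, a ∈ Layer.others z A ↔ ∃ p q, p ≠ q ∧ δ p q = a
  conj : ∀ (m : Subgroup.normalizer (A : Set G)) (p q : GolayPt),
    (m : G) * δ p q * (m : G)⁻¹ = δ ((τ m : Equiv.Perm GolayPt) p) ((τ m : Equiv.Perm GolayPt) q)
  disjoint : ∀ {p q r s}, p ≠ q → r ≠ s → r ≠ p → r ≠ q → s ≠ p → s ≠ q →
    ∀ x y, δ p q * δ r s ≠ δ x y

/-- The additive coordinates and the representation. -/
theorem exists_linear_rep {z : G} {A R : Subgroup G} (D : Layer z A R) :
    ∃ (ι : A → V) (rho : Subgroup.normalizer (A : Set G) →* GL (Fin 11) (ZMod 2)),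
    Function.Bijective ι ∧ (∀ a b, ι (a * b) = ι a + ι b) ∧ (∀ a : A, ι a = 0 → a = 1) ∧
      rho.ker = A.subgroupOf _ ∧
      ∀ (m : Subgroup.normalizer (A : Set G)) (a : A),
        (rho m : M) *ᵥ ι a = ι ⟨(m : G) * a * (m : G)⁻¹, D.conj_mem m.2 a.2⟩ := by
  obtain ⟨ι, hbij, hι⟩ := D.exists_coord
  have h1 : ι 1 = 0 := by simpa using hι 1 1
  let e := Equiv.ofBijective ι hbij
  let cj : Subgroup.normalizer (A : Set G) → A → A := fun m a => ⟨(m : G) * a * (m : G)⁻¹, D.conj_mem m.2 a.2⟩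
  have hcj : ∀ m a b, cj m (a * b) = cj m a * cj m b := fun m a b => Subtype.ext (by
    show (m : G) * ((a : G) * b) * (m : G)⁻¹ = ((m : G) * a * (m : G)⁻¹) * ((m : G) * b * (m : G)⁻¹)
    group)
  let f : Subgroup.normalizer (A : Set G) → ((Fin 11 → ZMod 2) →+ (Fin 11 → ZMod 2)) := fun m =>
    AddMonoidHom.mk' (fun v => ι (cj m (e.symm v))) fun v w => by
      have : e.symm (v + w) = e.symm v * e.symm w := hbij.1 (by
        rw [hι]
        exact (e.apply_symm_apply _).trans (by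
          rw [show ι (e.symm v) = v from e.apply_symm_apply v, show ι (e.symm w) = w from e.apply_symm_apply w]))
      show ι _ = ι _ + ι _
      rw [this, hcj, hι]
  let mt : Subgroup.normalizer (A : Set G) → M := fun m =>
    LinearMap.toMatrix' ((f m).toZModLinearMap 2)
  have hmt : ∀ m a, mt m *ᵥ ι a = ι (cj m a) := fun m a => by
    rw [LinearMap.toMatrix'_mulVec]
    show ι (cj m (e.symm (ι a))) = ι (cj m a)
    rw [show e.symm (ι a) = a from e.symm_apply_apply a]
  let φ : Subgroup.normalizer (A : Set G) →* M :=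
    { toFun := mt
      map_one' := ext_cols fun j => by
        obtain ⟨a, ha⟩ := hbij.2 (vecOf (2 ^ j.val))
        rw [← ha, hmt, Matrix.one_mulVec]
        exact congrArg ι (Subtype.ext (by show (1 : G) * a * (1 : G)⁻¹ = a; group))
      map_mul' := fun m n => ext_cols fun j => by
        obtain ⟨a, ha⟩ := hbij.2 (vecOf (2 ^ j.val))
        rw [← ha, hmt, ← Matrix.mulVec_mulVec, hmt, hmt]
        exact congrArg ι (Subtype.ext (by
          show ((m : G) * n) * a * ((m : G) * n)⁻¹ = (m : G) * ((n : G) * a * (n : G)⁻¹) * (m : G)⁻¹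
          group)) }
  refine ⟨ι, φ.toHomUnits, hbij, hι, fun a ha => hbij.1 (ha.trans h1.symm), ?_, hmt⟩
  ext m
  rw [MonoidHom.mem_ker, Subgroup.mem_subgroupOf]
  constructor
  · intro hm
    refine D.cent (Subgroup.mem_centralizer_iff.2 fun a ha => ?_)
    have hv : mt m = 1 := congrArg Units.val hm
    have h := congrArg Subtype.val (hbij.1 ((hmt m ⟨a, ha⟩).symm.trans (by rw [hv, Matrix.one_mulVec])))
    exact (mul_inv_eq_iff_eq_mul.1 h).symm
  · intro hm
    refine Units.ext (ext_cols fun j => ?_)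
    obtain ⟨a, ha⟩ := hbij.2 (vecOf (2 ^ j.val))
    rw [← ha]
    show mt m *ᵥ ι a = _
    rw [hmt, Units.val_one, Matrix.one_mulVec]
    exact congrArg ι (Subtype.ext (mul_inv_eq_iff_eq_mul.2 (D.comm hm a.2)))

theorem nonempty_model {z : G} {A R : Subgroup G} (D : Layer z A R) : Nonempty (Model z A) := by
  classical
  set N := Subgroup.normalizer (A : Set G) with hN
  obtain ⟨ι, rho, hbij, hlin, h0, hker, hrho⟩ := exists_linear_rep D
  have hr : Nat.card rho.range = 244823040 := by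
    have h := Subgroup.card_eq_card_quotient_mul_card_subgroup rho.ker
    rw [Nat.card_congr (QuotientGroup.quotientKerEquivRange rho).toEquiv, hker,
      Nat.card_congr (Subgroup.subgroupOfEquivOfLe Subgroup.le_normalizer).toEquiv, D.cardA,
      D.card_normalizer, D.main.1] at h
    omega
  obtain ⟨e⟩ := nonempty_iso_M24 hr rho.range.subtype Subtype.val_injective
  obtain ⟨a, b, d, ha, hb, hd, hab, hdb⟩ := Cocode.exists_frame
  obtain ⟨X, hX⟩ := CfsgLib.MTwentyFourUnique.exists_range_of_rep hr rho.range.subtype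
    Subtype.val_injective (e.symm a) (e.symm b) (e.symm d) (by rw [MulEquiv.orderOf_eq, ha])
    (by rw [MulEquiv.orderOf_eq, hb]) (by rw [← map_pow, hd, map_one])
    (by rw [← map_inv, ← map_mul, ← map_mul, hab, map_pow])
    (by rw [← map_inv, ← map_mul, ← map_mul, hdb, map_pow])
  let π : rho.range →* GL (Fin 11) (ZMod 2) := (MulAut.conj X).toMonoidHom.comp rho.range.subtype
  have hπ : Function.Injective π := (MulAut.conj X).injective.comp Subtype.val_injective
  let κ : A → V := fun x => (X : M) *ᵥ ι x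
  have hκ : Function.Bijective κ := by
    refine ⟨fun x y h => hbij.1 ?_, fun v => ?_⟩
    · have := congrArg ((↑X⁻¹ : M) *ᵥ ·) h
      simpa [κ, Matrix.mulVec_mulVec] using this
    · obtain ⟨x, hx⟩ := hbij.2 ((↑X⁻¹ : M) *ᵥ v)
      exact ⟨x, by simp [κ, hx, Matrix.mulVec_mulVec]⟩
  have hκeq : ∀ (m : N) (x : A), (π (rho.rangeRestrict m) : M) *ᵥ κ x =
      κ ⟨(m : G) * x * (m : G)⁻¹, D.conj_mem m.2 x.2⟩ := by
    intro m x
    show ((X : M) * (rho m : M) * (↑X⁻¹ : M)) *ᵥ ((X : M) *ᵥ ι x) = (X : M) *ᵥ _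
    rw [Matrix.mulVec_mulVec, mul_assoc, Units.inv_mul, mul_one, ← Matrix.mulVec_mulVec, hrho]
  have hadd : ∀ x y : A, κ (x * y) = κ x + κ y := fun x y => by
    show (X : M) *ᵥ ι (x * y) = _
    rw [hlin, Matrix.mulVec_add]
  let S : Set V := κ '' {x : A | (x : G) ∈ Layer.others z A}
  have hScard : Nat.card S = 276 := by
    rw [Nat.card_image_of_injective hκ.1, ← D.card_others]
    exact Nat.card_congr ⟨fun x => ⟨x.1.1, x.2⟩, fun x => ⟨⟨x.1, x.2.1⟩, x.2⟩, fun _ => rfl,
      fun _ => rfl⟩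
  have hS0 : (0 : V) ∉ S := by
    rintro ⟨x, hx, hx0⟩
    have h2 : ι x = 0 := by
      have := congrArg ((↑X⁻¹ : M) *ᵥ ·) hx0
      simpa [κ, Matrix.mulVec_mulVec] using this
    exact hx.2.1 (congrArg Subtype.val (h0 x h2))
  have hcl : ∀ m ∈ N, ∀ c ∈ Layer.others z A, m * c * m⁻¹ ∈ Layer.others z A := fun m hm c hc =>
    ⟨D.conj_mem hm hc.1, fun h => hc.2.1 (conj_eq_one_iff.1 h), fun h => hc.2.2 (by
      have := Layer.isConj_conj (m := m⁻¹) h
      simpa [mul_assoc] using this)⟩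
  have hinv : ∀ (φ : Cfsg.M24 →* M), π.range = φ.toHomUnits.range →
      ∀ σ, ∀ v, v ∈ S → φ σ *ᵥ v ∈ S := by
    rintro φ hφ σ _ ⟨x, hx, rfl⟩
    obtain ⟨⟨_, m, rfl⟩, hk⟩ : φ.toHomUnits σ ∈ π.range := hφ ▸ ⟨σ, rfl⟩
    refine ⟨⟨_, D.conj_mem m.2 x.2⟩, hcl m m.2 x hx, ?_⟩
    have hk' : π (rho.rangeRestrict m) = φ.toHomUnits σ := hk
    rw [← hκeq, hk', MonoidHom.coe_toHomUnits]
  have hD : π.range = repD24.toHomUnits.range := hX.resolve_left fun h =>
    Cocode.not_code hScard hS0 (hinv repM24 h)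
  have hSd := Cocode.eq_duads hScard hS0 (hinv repD24 hD)
  have hinj : Function.Injective (repD24.toHomUnits : Cfsg.M24 →* GL (Fin 11) (ZMod 2)) :=
    fun s t h => repD24_injective (congrArg Units.val h)
  let E : rho.range ≃* Cfsg.M24 := (MonoidHom.ofInjective hπ).trans
    ((MulEquiv.subgroupCongr hD).trans (MonoidHom.ofInjective hinj).symm)
  have hE : ∀ k, repD24 (E k) = (π k : M) := fun k => by
    have h := (MonoidHom.ofInjective hinj).apply_symm_apply
      ((MulEquiv.subgroupCongr hD) (MonoidHom.ofInjective hπ k))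
    exact congrArg (fun u : (repD24.toHomUnits : Cfsg.M24 →* GL (Fin 11) (ZMod 2)).range =>
      ((u.1 : GL (Fin 11) (ZMod 2)) : M)) h
  choose δ0 hδ0 using fun pq : GolayPt × GolayPt => hκ.2 (Cocode.duad pq.1 pq.2)
  exact ⟨{
    τ := E.toMonoidHom.comp rho.rangeRestrict
    surj := E.surjective.comp rho.rangeRestrict_surjective
    ker := by
      rw [← hker]
      ext m
      simp [MonoidHom.mem_ker]
    δ := fun p q => (δ0 (p, q) : G)
    mem := fun p q => (δ0 (p, q)).2
    mul := fun p q r => by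
      refine congrArg Subtype.val (hκ.1 (a₁ := δ0 (p, q) * δ0 (q, r)) (a₂ := δ0 (p, r)) ?_)
      rw [hadd, hδ0, hδ0, hδ0]
      exact Cocode.duad_add p q r
    eq_iff := fun {p q} h r s => by
      rw [← Cocode.duad_eq_iff h, ← hδ0 (r, s), ← hδ0 (p, q), hκ.1.eq_iff, Subtype.ext_iff]
    others_iff := fun a => by
      constructor
      · intro ha
        obtain ⟨p, q, hpq, e⟩ := (hSd (κ ⟨a, ha.1⟩)).1 ⟨_, ha, rfl⟩
        rw [← hδ0 (p, q)] at e
        exact ⟨p, q, hpq, congrArg Subtype.val (hκ.1 e)⟩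
      · rintro ⟨p, q, hpq, rfl⟩
        obtain ⟨x, hx, e⟩ := (hSd (κ (δ0 (p, q)))).2 ⟨p, q, hpq, (hδ0 (p, q)).symm⟩
        exact hκ.1 e ▸ hx
    conj := fun m p q => by
      refine congrArg Subtype.val (hκ.1
        (a₁ := (⟨(m : G) * δ0 (p, q) * (m : G)⁻¹, D.conj_mem m.2 (δ0 (p, q)).2⟩ : A)) ?_)
      rw [← hκeq, hδ0, hδ0, ← hE]
      exact Cocode.repD24_duad _ p q
    disjoint := fun {p q r s} h1 h2 h3 h4 h5 h6 x y e => by
      refine Cocode.duad_add_ne h1 h2 h3 h4 h5 h6 x y ?_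
      have e' : δ0 (p, q) * δ0 (r, s) = δ0 (x, y) := Subtype.ext e
      rw [← hδ0 (p, q), ← hδ0 (r, s), ← hδ0 (x, y), ← hadd, e'] }⟩

namespace Model

variable {z : G} {A : Subgroup G} (K : Model z A)

theorem δ_self (p : GolayPt) : K.δ p p = 1 := mul_eq_left.1 (K.mul p p p)

theorem δ_ne_one {p q : GolayPt} (h : p ≠ q) : K.δ p q ≠ 1 := fun e =>
  (((K.eq_iff h p p).1 ((K.δ_self p).trans e.symm)).elim (fun h' => h h'.2) fun h' => h h'.1)

theorem δ_comm (p q : GolayPt) : K.δ p q = K.δ q p := by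
  by_cases h : p = q
  · rw [h]
  · exact ((K.eq_iff h q p).2 (Or.inr ⟨rfl, rfl⟩)).symm

theorem δ_others {p q : GolayPt} (h : p ≠ q) : K.δ p q ∈ Layer.others z A :=
  (K.others_iff _).2 ⟨p, q, h, rfl⟩

theorem mem_ker {m : Subgroup.normalizer (A : Set G)} : K.τ m = 1 ↔ (m : G) ∈ A := by
  rw [← MonoidHom.mem_ker, K.ker, Subgroup.mem_subgroupOf]

/-- The sum of two disjoint pairs is conjugate to the central involution. -/
theorem isConj_disjoint {p q r s : GolayPt} (hpq : p ≠ q) (hrs : r ≠ s) (h1 : r ≠ p) (h2 : r ≠ q)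
    (h3 : s ≠ p) (h4 : s ≠ q) : IsConj z (K.δ p q * K.δ r s) := by
  by_contra hc
  have hne : K.δ p q * K.δ r s ≠ 1 := fun e =>
    K.disjoint hpq hrs h1 h2 h3 h4 p p (e.trans (K.δ_self p).symm)
  obtain ⟨x, y, -, e⟩ := (K.others_iff _).1 ⟨mul_mem (K.mem p q) (K.mem r s), hne, hc⟩
  exact K.disjoint hpq hrs h1 h2 h3 h4 x y e.symm

end Model

end CfsgLib.JFourEleven
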