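import Cfsg.Agent.JFourEleven.FactsTwo

/-!
# A group with the properties of the centralizer of the involution

`Cent H` records the hypotheses of the centralizer as statements about the group `H` alone, with
`pr` the map onto the automorphism group of `M22`.
-/

set_option autoImplicit false

namespace CfsgLib.JFourEleven

open Cfsg CfsgLib.JFourType
open scoped commutatorElement

/-- The centralizer of the involution, abstractly. -/
structure Cent (H : Type*) [Group H] where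
  /-- The central involution. -/
  z : H
  /-- The extraspecial subgroup. -/
  E : Subgroup H
  /-- The subgroup of order three. -/
  P : Subgroup H
  /-- The map onto the automorphism group. -/
  pr : H →* MulAut M22g
  two : orderOf z = 2
  central : ∀ h, h * z = z * h
  normal : ∀ h, ∀ e ∈ E, h * e * h⁻¹ ∈ E
  z_mem : z ∈ E
  cardE : Nat.card E = 2 ^ 13
  sq : ∀ e ∈ E, e * e = 1 ∨ e * e = z
  comm : ∀ e ∈ E, ∀ f ∈ E, e * f = f * e ∨ e * f = z * (f * e)
  centE : ∀ h, (∀ e ∈ E, h * e = e * h) → h = 1 ∨ h = z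
  cardP : Nat.card P = 3
  E_le : E ≤ pr.ker
  P_le : P ≤ pr.ker
  cardKer : Nat.card pr.ker = 3 * 2 ^ 13
  surj : Function.Surjective pr
  fixP : ∀ e ∈ E, (∀ x ∈ P, x * e = e * x) → e = 1 ∨ e = z
  inverts : ∃ h ∈ Subgroup.normalizer (P : Set H), h ∉ Subgroup.centralizer (P : Set H)
  perfect : P ≤ ⁅Subgroup.centralizer (P : Set H), Subgroup.centralizer (P : Set H)⁆

/-- Conjugation is faithful on `M22`. -/
theorem conj_injective : Function.Injective (MulAut.conj : M22g →* MulAut M22g) := by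
  haveI : IsSimpleGroup M22g := CfsgLib.Mathieu.simple_SporM22
  rw [← MonoidHom.ker_eq_bot_iff]
  refine ((inferInstance : (MulAut.conj : M22g →* MulAut M22g).ker.Normal).eq_bot_or_eq_top).resolve_right
    fun htop => ?_
  obtain ⟨s, t, hs, ht, hst⟩ := exists_involution_pair
  have h1 : MulAut.conj s = 1 := MonoidHom.mem_ker.1 (htop ▸ Subgroup.mem_top s)
  have e : s * t * s⁻¹ = t := by
    rw [← MulAut.conj_apply, h1]; rfl
  have hs2 : s * s = 1 := by rw [← pow_two, ← hs, pow_orderOf_eq_one]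
  have ht2 : t * t = 1 := by rw [← pow_two, ← ht, pow_orderOf_eq_one]
  have hc : Commute s t := mul_inv_eq_iff_eq_mul.1 e
  have : (s * t) ^ 2 = 1 := by rw [hc.mul_pow, pow_two, pow_two, hs2, ht2, mul_one]
  have := orderOf_dvd_of_pow_eq_one this
  rw [hst] at this
  norm_num at this

theorem index_inn : (Inn M22g).index = 2 := Cfsg.Agent.S2062.result

namespace Cent

variable {H : Type*} [Group H] (C : Cent H)

/-- The centraliser of the subgroup of order three. -/
abbrev CP : Subgroup H := Subgroup.centralizer (C.P : Set H)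

/-- A lift of an element of `M22` to the centraliser of the subgroup of order three. -/
def Lift (c : H) (m : M22g) : Prop := c ∈ C.CP ∧ C.pr c = MulAut.conj m

theorem z_sq : C.z * C.z = 1 := by rw [← pow_two, ← C.two, pow_orderOf_eq_one]

theorem z_ne : C.z ≠ 1 := fun h => by simpa [h] using C.two

theorem z_inv : C.z⁻¹ = C.z := inv_eq_of_mul_eq_one_right C.z_sq

theorem z_CP : C.z ∈ C.CP := Subgroup.mem_centralizer_iff.2 fun x _ => C.central x

theorem z_ker : C.z ∈ C.pr.ker := C.E_le C.z_mem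

theorem mem_CP {c : H} : c ∈ C.CP ↔ ∀ x ∈ C.P, x * c = c * x := Subgroup.mem_centralizer_iff

theorem exists_x : ∃ x ∈ C.P, x ≠ 1 := by
  by_contra! hcon
  have h := C.cardP
  rw [(Subgroup.eq_bot_iff_forall C.P).2 hcon, Subgroup.card_bot] at h
  norm_num at h

/-- A fixed generator of the subgroup of order three. -/
noncomputable def x : H := Classical.choose C.exists_x

theorem x_mem : C.x ∈ C.P := (Classical.choose_spec C.exists_x).1

theorem x_ne : C.x ≠ 1 := (Classical.choose_spec C.exists_x).2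

theorem pow_three {y : H} (hy : y ∈ C.P) : y ^ 3 = 1 := by
  have := congrArg Subtype.val (pow_card_eq_one' (x := (⟨y, hy⟩ : C.P)))
  rwa [C.cardP, SubmonoidClass.coe_pow, OneMemClass.coe_one] at this

theorem orderOf_x : orderOf C.x = 3 :=
  haveI : Fact (Nat.Prime 3) := ⟨Nat.prime_three⟩
  orderOf_eq_prime (C.pow_three C.x_mem) C.x_ne

theorem zpowers_x : Subgroup.zpowers C.x = C.P := by
  haveI := Nat.finite_of_card_ne_zero (show Nat.card C.P ≠ 0 by rw [C.cardP]; norm_num)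
  exact Subgroup.eq_of_le_of_card_ge (Subgroup.zpowers_le.2 C.x_mem)
    (by rw [Nat.card_zpowers, C.orderOf_x, C.cardP])

theorem mem_P {y : H} (hy : y ∈ C.P) : y = 1 ∨ y = C.x ∨ y = C.x * C.x := by
  rw [← C.zpowers_x] at hy
  obtain ⟨n, rfl⟩ := Subgroup.mem_zpowers_iff.1 hy
  rw [← zpow_mod_orderOf, C.orderOf_x]
  have h0 : 0 ≤ n % (3 : ℕ) := Int.emod_nonneg _ (by norm_num)
  have h3 : n % (3 : ℕ) < 3 := Int.emod_lt_of_pos _ (by norm_num)
  rcases (by omega : n % (3 : ℕ) = 0 ∨ n % (3 : ℕ) = 1 ∨ n % (3 : ℕ) = 2) with e | e | e <;> rw [e]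
  · exact Or.inl (zpow_zero _)
  · exact Or.inr (Or.inl (zpow_one _))
  · exact Or.inr (Or.inr (zpow_two _))

theorem mem_CP_x {c : H} : c ∈ C.CP ↔ C.x * c = c * C.x := by
  refine ⟨fun h => C.mem_CP.1 h _ C.x_mem, fun h => C.mem_CP.2 fun y hy => ?_⟩
  rcases C.mem_P hy with rfl | rfl | rfl
  · simp
  · exact h
  · exact (Commute.mul_left h h : Commute (C.x * C.x) c).eq

theorem x_CP : C.x ∈ C.CP := C.mem_CP_x.2 rfl

variable [Finite H]

theorem eq_one_of_E_P {y : H} (he : y ∈ C.E) (hp : y ∈ C.P) : y = 1 := by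
  have h1 : y ^ 2 ^ 13 = 1 := by
    have := congrArg Subtype.val (pow_card_eq_one' (x := (⟨y, he⟩ : C.E)))
    rwa [C.cardE, SubmonoidClass.coe_pow, OneMemClass.coe_one] at this
  have := pow_gcd_eq_one (a := y) |>.2 ⟨h1, C.pow_three hp⟩
  simpa using this

theorem ker_decomp {k : H} (hk : k ∈ C.pr.ker) : ∃ e ∈ C.E, ∃ y ∈ C.P, k = e * y := by
  let f : C.E × C.P → C.pr.ker := fun p => ⟨p.1.1 * p.2.1, mul_mem (C.E_le p.1.2) (C.P_le p.2.2)⟩
  have hinj : Function.Injective f := fun p q h => by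
    have h' : p.1.1 * p.2.1 = q.1.1 * q.2.1 := congrArg Subtype.val h
    have e : q.1.1⁻¹ * p.1.1 = q.2.1 * p.2.1⁻¹ := by
      rw [inv_mul_eq_iff_eq_mul, ← mul_assoc, eq_mul_inv_iff_mul_eq, h']
    have h1 := C.eq_one_of_E_P (y := q.1.1⁻¹ * p.1.1) (mul_mem (inv_mem q.1.2) p.1.2)
      (e ▸ mul_mem q.2.2 (inv_mem p.2.2))
    have e1 : q.1.1 = p.1.1 := inv_mul_eq_one.1 h1
    rw [e1, mul_right_inj] at h'
    exact Prod.ext (Subtype.ext e1.symm) (Subtype.ext h')
  have hbij : Function.Bijective f :=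
    (Nat.bijective_iff_injective_and_card f).2 ⟨hinj, by
      rw [Nat.card_prod, C.cardE, C.cardP, C.cardKer]; norm_num⟩
  obtain ⟨⟨e, y⟩, h⟩ := hbij.2 ⟨k, hk⟩
  exact ⟨e.1, e.2, y.1, y.2, (congrArg Subtype.val h).symm⟩

theorem ker_CP {c : H} (hk : c ∈ C.pr.ker) (hc : c ∈ C.CP) :
    ∃ y ∈ C.P, c = y ∨ c = C.z * y := by
  obtain ⟨e, he, y, hy, rfl⟩ := C.ker_decomp hk
  have hy' : y ∈ C.CP := C.mem_CP.2 fun w hw => by
    rcases C.mem_P hw with rfl | rfl | rfl <;> rcases C.mem_P hy with rfl | rfl | rfl <;>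
      simp [mul_assoc]
  have he' : e ∈ C.CP := by simpa using mul_mem hc (inv_mem hy')
  rcases C.fixP e he (C.mem_CP.1 he') with rfl | rfl
  · exact ⟨y, hy, Or.inl (one_mul y)⟩
  · exact ⟨y, hy, Or.inr rfl⟩

theorem ker_normalizer {n : H} (hk : n ∈ C.pr.ker)
    (hn : n ∈ Subgroup.normalizer (C.P : Set H)) : n ∈ C.CP := by
  obtain ⟨e, he, y, hy, rfl⟩ := C.ker_decomp hk
  have hyN : y ∈ Subgroup.normalizer (C.P : Set H) := Subgroup.le_normalizer hy
  have heN : e ∈ Subgroup.normalizer (C.P : Set H) := by simpa using mul_mem hn (inv_mem hyN)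
  have heC : e ∈ C.CP := C.mem_CP.2 fun w hw => by
    have h1 : e * w * e⁻¹ * w⁻¹ ∈ C.P :=
      mul_mem ((Subgroup.mem_normalizer_iff.1 heN w).1 hw) (inv_mem hw)
    have h2 : e * w * e⁻¹ * w⁻¹ ∈ C.E := by
      rw [show e * w * e⁻¹ * w⁻¹ = e * (w * e⁻¹ * w⁻¹) by group]
      exact mul_mem he (C.normal w _ (inv_mem he))
    exact (mul_inv_eq_iff_eq_mul.1 (mul_inv_eq_one.1 (C.eq_one_of_E_P h2 h1))).symm
  refine mul_mem heC (C.mem_CP.2 fun w hw => ?_)
  rcases C.mem_P hw with rfl | rfl | rfl <;> rcases C.mem_P hy with rfl | rfl | rfl <;>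
    simp [mul_assoc]

/-- The Frattini argument. -/
theorem decomp (h : H) : ∃ e ∈ C.E, ∃ n ∈ Subgroup.normalizer (C.P : Set H), h = e * n := by
  haveI : Fact (Nat.Prime 3) := ⟨Nat.prime_three⟩
  set K := C.pr.ker with hK
  haveI : K.Normal := MonoidHom.normal_ker _
  have hfac : Nat.card K = 3 ^ 1 * 2 ^ 13 := by rw [hK, C.cardKer]; norm_num
  have h3 : (Nat.card K).factorization 3 = 1 := by
    rw [hfac, Nat.factorization_mul (by norm_num) (by norm_num), Finsupp.coe_add, Pi.add_apply,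
      Nat.Prime.factorization_pow Nat.prime_three, Finsupp.single_eq_same,
      Nat.factorization_eq_zero_of_not_dvd (by norm_num)]
  let P' := C.P.map (MulAut.conj h).toMonoidHom
  have hP' : P' ≤ K := by
    rintro _ ⟨y, hy, rfl⟩
    exact Subgroup.Normal.conj_mem inferInstance y (C.P_le hy) h
  have c1 : Nat.card (C.P.subgroupOf K) = 3 ^ (Nat.card K).factorization 3 := by
    rw [Nat.card_congr (Subgroup.subgroupOfEquivOfLe C.P_le).toEquiv, C.cardP, h3, pow_one]
  have c2 : Nat.card (P'.subgroupOf K) = 3 ^ (Nat.card K).factorization 3 := by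
    rw [Nat.card_congr (Subgroup.subgroupOfEquivOfLe hP').toEquiv,
      Subgroup.card_map_of_injective (MulAut.conj h).injective, C.cardP, h3, pow_one]
  obtain ⟨k, hk⟩ := MulAction.exists_smul_eq K (Sylow.ofCard _ c1) (Sylow.ofCard _ c2)
  have hkc : (C.P.subgroupOf K).map (MulAut.conj k).toMonoidHom = P'.subgroupOf K := by
    have he := congrArg (fun S : Sylow 3 K => (S : Subgroup K)) hk
    simp only [Sylow.coe_ofCard, Sylow.coe_subgroup_smul] at he
    exact he
  obtain ⟨e, he, y, hy, hky⟩ := C.ker_decomp k.2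
  refine ⟨e, he, e⁻¹ * h, ?_, by group⟩
  have hmap : ∀ w ∈ C.P, (e⁻¹ * h) * w * (e⁻¹ * h)⁻¹ ∈ C.P := by
    intro w hw
    have hw' : h * w * h⁻¹ ∈ P' := ⟨w, hw, rfl⟩
    have : (⟨h * w * h⁻¹, hP' hw'⟩ : K) ∈ P'.subgroupOf K := hw'
    rw [← hkc] at this
    obtain ⟨v, hv, ev⟩ := this
    have ev' : e * y * v.1 * (e * y)⁻¹ = h * w * h⁻¹ := by
      rw [← hky]; exact congrArg Subtype.val ev
    rw [show (e⁻¹ * h) * w * (e⁻¹ * h)⁻¹ = e⁻¹ * (h * w * h⁻¹) * e by group, ← ev',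
      show e⁻¹ * (e * y * v.1 * (e * y)⁻¹) * e = y * v.1 * y⁻¹ by group]
    exact mul_mem (mul_mem hy hv) (inv_mem hy)
  exact Subgroup.mem_normalizer_fintype hmap

theorem normalizer_conj_x {n : H} (hn : n ∈ Subgroup.normalizer (C.P : Set H)) :
    n ∈ C.CP ∨ n * C.x * n⁻¹ = C.x⁻¹ := by
  have hx := (Subgroup.mem_normalizer_iff.1 hn C.x).1 C.x_mem
  rcases C.mem_P hx with e | e | e
  · exact absurd (conj_eq_one_iff.1 e) C.x_ne
  · exact Or.inl (C.mem_CP_x.2 (mul_inv_eq_iff_eq_mul.1 e).symm)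
  · refine Or.inr (e.trans (inv_eq_of_mul_eq_one_right ?_).symm)
    rw [← C.pow_three C.x_mem]; simp [pow_succ, mul_assoc]

theorem sq_CP {n : H} (hn : n ∈ Subgroup.normalizer (C.P : Set H)) : n * n ∈ C.CP := by
  rcases C.normalizer_conj_x hn with h | h
  · exact mul_mem h h
  · refine C.mem_CP_x.2 (mul_inv_eq_iff_eq_mul.1 ?_).symm
    rw [show n * n * C.x * (n * n)⁻¹ = n * (n * C.x * n⁻¹) * n⁻¹ by group, h,
      show n * C.x⁻¹ * n⁻¹ = (n * C.x * n⁻¹)⁻¹ by group, h, inv_inv]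

/-- The image of the centraliser of the subgroup of order three. -/
theorem map_CP : C.CP.map C.pr = Inn M22g := by
  haveI : IsSimpleGroup M22g := CfsgLib.Mathieu.simple_SporM22
  set I := C.CP.map C.pr with hI
  have hall : ∀ σ : MulAut M22g, ∃ n ∈ Subgroup.normalizer (C.P : Set H), C.pr n = σ := by
    intro σ
    obtain ⟨h, rfl⟩ := C.surj σ
    obtain ⟨e, he, n, hn, rfl⟩ := C.decomp h
    exact ⟨n, hn, by rw [map_mul, MonoidHom.mem_ker.1 (C.E_le he), one_mul]⟩
  have hsq : ∀ σ : MulAut M22g, σ * σ ∈ I := fun σ => by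
    obtain ⟨n, hn, rfl⟩ := hall σ
    exact ⟨n * n, C.sq_CP hn, map_mul _ _ _⟩
  have hnor : I.Normal := ⟨fun s hs σ => by
    obtain ⟨n, hn, rfl⟩ := hall σ
    obtain ⟨c, hc, rfl⟩ := hs
    refine ⟨n * c * n⁻¹, C.mem_CP.2 fun w hw => ?_, by simp⟩
    have hw' : n⁻¹ * w * n ∈ C.P := by
      simpa using (Subgroup.mem_normalizer_iff.1 (inv_mem hn) w).1 hw
    calc w * (n * c * n⁻¹) = n * ((n⁻¹ * w * n) * c) * n⁻¹ := by group
      _ = n * (c * (n⁻¹ * w * n)) * n⁻¹ := by rw [C.mem_CP.1 hc _ hw']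
      _ = n * c * n⁻¹ * w := by group⟩
  haveI := hnor
  have hle : Inn M22g ≤ I := by
    have htop : I.comap (MulAut.conj : M22g →* MulAut M22g) = ⊤ := by
      refine ((inferInstance : (I.comap (MulAut.conj : M22g →* MulAut M22g)).Normal).eq_bot_or_eq_top
        ).resolve_left fun hbot => ?_
      obtain ⟨a, -, -, -, -, -, a3, -, -, a1, -⟩ := exists_hexad_norm
      refine a1 ((Subgroup.eq_bot_iff_forall _).1 hbot a ?_)
      have h4 : a * a * (a * a) = a := by
        rw [show a * a * (a * a) = a ^ 3 * a by simp [pow_succ, mul_assoc], a3, one_mul]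
      rw [Subgroup.mem_comap, ← h4, map_mul]
      exact hsq _
    rintro σ ⟨m, rfl⟩
    exact (htop ▸ Subgroup.mem_top m : m ∈ I.comap MulAut.conj)
  refine le_antisymm (fun σ hσ => ?_) hle
  by_contra hne
  have htop : ∀ τ, τ ∈ I := fun τ => by
    by_cases hτ : τ ∈ Inn M22g
    · exact hle hτ
    · have h2 : τ * σ⁻¹ ∈ Inn M22g := by
        rw [Subgroup.mul_mem_iff_of_index_two index_inn, inv_mem_iff]
        exact iff_of_false hτ hne
      simpa using mul_mem (hle h2) hσ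
  obtain ⟨n, hn, hnC⟩ := C.inverts
  obtain ⟨c, hc, e⟩ := htop (C.pr n)
  have hk : c⁻¹ * n ∈ C.pr.ker := by rw [MonoidHom.mem_ker, map_mul, map_inv, e, inv_mul_cancel]
  have := C.ker_normalizer hk (mul_mem (inv_mem (Subgroup.centralizer_le_normalizer _ hc)) hn)
  exact hnC (by simpa using mul_mem hc this)

theorem exists_lift (m : M22g) : ∃ c, C.Lift c m := by
  have h : MulAut.conj m ∈ C.CP.map C.pr := by rw [C.map_CP]; exact ⟨m, rfl⟩
  obtain ⟨c, hc, e⟩ := h
  exact ⟨c, hc, e⟩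

theorem lift_of_mem {c : H} (hc : c ∈ C.CP) : ∃ m, C.Lift c m := by
  obtain ⟨m, hm⟩ : C.pr c ∈ Inn M22g := C.map_CP ▸ ⟨c, hc, rfl⟩
  exact ⟨m, hc, hm.symm⟩

/-- An element over an inner automorphism is an element of the extraspecial group times a lift. -/
theorem decomp_inner {h : H} {m : M22g} (hh : C.pr h = MulAut.conj m) :
    ∃ e ∈ C.E, ∃ c, C.Lift c m ∧ h = e * c := by
  obtain ⟨c, hc, hcm⟩ := C.exists_lift m
  have hk : h * c⁻¹ ∈ C.pr.ker := by
    rw [MonoidHom.mem_ker, map_mul, map_inv, hh, hcm, mul_inv_cancel]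
  obtain ⟨e, he, y, hy, hey⟩ := C.ker_decomp hk
  refine ⟨e, he, y * c, ⟨mul_mem (C.mem_CP.2 fun w hw => ?_) hc, ?_⟩, ?_⟩
  · rcases C.mem_P hw with rfl | rfl | rfl <;> rcases C.mem_P hy with rfl | rfl | rfl <;>
      simp [mul_assoc]
  · rw [map_mul, MonoidHom.mem_ker.1 (C.P_le hy), one_mul, hcm]
  · rw [← mul_assoc, ← hey, inv_mul_cancel_right]

theorem outer_inverts {n : H} (hn : n ∈ Subgroup.normalizer (C.P : Set H))
    (ho : C.pr n ∉ Inn M22g) : n * C.x * n⁻¹ = C.x⁻¹ :=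
  (C.normalizer_conj_x hn).resolve_left fun hc => ho (C.map_CP ▸ ⟨n, hc, rfl⟩)

/-- The kernel of the map on the centraliser. -/
theorem mem_center_part {k : H} (hk : k ∈ C.pr.ker) (hc : k ∈ C.CP) :
    (∀ c ∈ C.CP, c * k = k * c) ∧ k ^ 6 = 1 := by
  obtain ⟨y, hy, h⟩ := C.ker_CP hk hc
  have hy6 : y ^ 6 = 1 := by rw [show 6 = 3 * 2 by norm_num, pow_mul, C.pow_three hy, one_pow]
  have hcy : ∀ c ∈ C.CP, c * y = y * c := fun c h => (C.mem_CP.1 h y hy).symm
  rcases h with rfl | rfl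
  · exact ⟨hcy, hy6⟩
  · refine ⟨fun c hcc => ?_, ?_⟩
    · rw [← mul_assoc, C.central, mul_assoc, hcy c hcc, mul_assoc]
    · have hzy : Commute C.z y := (C.central y).symm
      rw [hzy.mul_pow, hy6, mul_one, show 6 = 2 * 3 by norm_num, pow_mul, pow_two, C.z_sq,
        one_pow]

theorem card_CP : Nat.card C.CP = 6 * 443520 := by
  let f : C.CP →* MulAut M22g := C.pr.comp C.CP.subtype
  have hr : f.range = Inn M22g := by
    rw [← C.map_CP, MonoidHom.range_eq_map, ← Subgroup.map_map, ← MonoidHom.range_eq_map,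
      Subgroup.range_subtype]
  have hInn : Nat.card (Inn M22g) = 443520 := by
    rw [← CfsgLib.Mathieu.card_SporM22]
    exact (Nat.card_congr (MonoidHom.ofInjective conj_injective).toEquiv).symm
  let g : Fin 2 × C.P → f.ker := fun p =>
    ⟨⟨(if p.1 = 0 then 1 else C.z) * p.2.1, mul_mem (by
        split_ifs
        exacts [one_mem _, C.z_CP])
      (C.mem_CP.2 fun w hw => by
        rcases C.mem_P hw with rfl | rfl | rfl <;> rcases C.mem_P p.2.2 with h | h | h <;>
          simp [h, mul_assoc])⟩,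
      MonoidHom.mem_ker.2 (by
        show C.pr ((if p.1 = 0 then 1 else C.z) * p.2.1) = 1
        rw [map_mul, MonoidHom.mem_ker.1 (C.P_le p.2.2), mul_one]
        split_ifs
        exacts [map_one _, C.z_ker])⟩
  have hg : Function.Bijective g := by
    constructor
    · rintro ⟨i, p⟩ ⟨j, q⟩ h
      have h' : (if i = 0 then (1 : H) else C.z) * p.1 = (if j = 0 then 1 else C.z) * q.1 :=
        congrArg (fun k : f.ker => k.1.1) h
      have hzP : C.z ∉ C.P := fun hz => C.z_ne (C.eq_one_of_E_P C.z_mem hz)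
      fin_cases i <;> fin_cases j <;> simp at h'
      · exact Prod.ext rfl h'
      · exact absurd (by
          rw [← mul_inv_eq_iff_eq_mul.2 h']
          exact mul_mem p.2 (inv_mem q.2)) hzP
      · exact absurd (by
          rw [← mul_inv_eq_iff_eq_mul.2 h'.symm]
          exact mul_mem q.2 (inv_mem p.2)) hzP
      · exact Prod.ext rfl h'
    · rintro ⟨⟨c, hc⟩, hk⟩
      obtain ⟨y, hy, h | h⟩ := C.ker_CP hk hc
      · exact ⟨⟨0, y, hy⟩, Subtype.ext (Subtype.ext (by simpa [g] using h.symm))⟩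
      · exact ⟨⟨1, y, hy⟩, Subtype.ext (Subtype.ext (by simpa [g] using h.symm))⟩
  rw [Subgroup.card_eq_card_quotient_mul_card_subgroup f.ker,
    Nat.card_congr (QuotientGroup.quotientKerEquivRange f).toEquiv, hr, hInn,
    ← Nat.card_eq_of_bijective g hg, Nat.card_prod, Nat.card_fin, C.cardP]

end Cent

end CfsgLib.JFourEleven
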