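import Cfsg.Agent.JFourEleven.OuterData
import Cfsg.Agent.JFourEleven.Basic

/-!
# Outer automorphisms of `M22` stabilising two disjoint hexad subgroups

Four outer involutions and an inner one generate a Sylow 2-subgroup of the common stabiliser.
-/

set_option autoImplicit false
set_option maxRecDepth 10000

namespace CfsgLib.JFourEleven

open Cfsg CfsgLib.Mathieu CfsgLib.Schur.Pc CfsgLib.SporadicOut CfsgLib.TwoBlockMathieu
open CfsgLib.JFourType

/-- The two points fixed by `M22`. -/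
def pairPts : Finset GolayPt := {none, some 0}

/-- The members of `M24` preserving the pair. -/
def pairStab : Subgroup (Equiv.Perm GolayPt) where
  carrier := {s | s ∈ M24 ∧ pairPts.image s = pairPts}
  one_mem' := ⟨one_mem _, Finset.image_id⟩
  mul_mem' {s t} hs ht := ⟨mul_mem hs.1 ht.1, by
    rw [Equiv.Perm.coe_mul, ← Finset.image_image, ht.2, hs.2]⟩
  inv_mem' {s} hs := ⟨inv_mem hs.1, by
    conv_lhs => rw [← hs.2]
    rw [Finset.image_image, ← Equiv.Perm.coe_mul, inv_mul_cancel]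
    exact Finset.image_id⟩

theorem mem_pairStab_of_M22 (x : M22g) : x.1 ∈ pairStab := by
  obtain ⟨⟨hx24, hxn⟩, hx0⟩ := mem_SporM22.1 x.2
  exact ⟨hx24, by simp [pairPts, hxn, hx0]⟩

theorem conj_mem_M22 {s : Equiv.Perm GolayPt} (hs : s ∈ pairStab) (x : M22g) :
    s * x.1 * s⁻¹ ∈ Spor.M22 := by
  obtain ⟨⟨hx24, hxn⟩, hx0⟩ := mem_SporM22.1 x.2
  have hfix : ∀ p ∈ pairPts, (s * x.1 * s⁻¹) p = p := fun p hp => by
    have hq : s⁻¹ p ∈ pairPts := by
      have := Finset.mem_image_of_mem (⇑s⁻¹) hp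
      rwa [(inv_mem hs : s⁻¹ ∈ pairStab).2] at this
    have hx : x.1 (s⁻¹ p) = s⁻¹ p := by
      simp only [pairPts, Finset.mem_insert, Finset.mem_singleton] at hq
      rcases hq with e | e <;> rw [e]
      exacts [hxn, hx0]
    rw [Equiv.Perm.mul_apply, Equiv.Perm.mul_apply, hx, perm_apply_inv]
  exact mem_SporM22.2 ⟨⟨mul_mem (mul_mem hs.1 hx24) (inv_mem hs.1),
    hfix _ (by simp [pairPts])⟩, hfix _ (by simp [pairPts])⟩

/-- Conjugation by a member of `M24` preserving the pair. -/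
def pairAut : pairStab →* MulAut M22g where
  toFun s :=
    { toFun := fun x => ⟨s.1 * x.1 * s.1⁻¹, conj_mem_M22 s.2 x⟩
      invFun := fun x => ⟨s.1⁻¹ * x.1 * s.1, by simpa using conj_mem_M22 (inv_mem s.2) x⟩
      left_inv := fun x => Subtype.ext (by simp [mul_assoc])
      right_inv := fun x => Subtype.ext (by simp [mul_assoc])
      map_mul' := fun x y => Subtype.ext (by simp [mul_assoc]) }
  map_one' := MulEquiv.ext fun x => Subtype.ext (by simp)
  map_mul' s t := MulEquiv.ext fun x => Subtype.ext (by simp [mul_assoc])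

theorem pairAut_apply (s : pairStab) (x : M22g) : (pairAut s x).1 = s.1 * x.1 * s.1⁻¹ := rfl

theorem pairAut_M22 (x : M22g) : pairAut ⟨x.1, mem_pairStab_of_M22 x⟩ = MulAut.conj x :=
  MulEquiv.ext fun _ => Subtype.ext rfl

/-- The table of a member of `M24` preserving the pair. -/
def inPair (t : ℕ) : Bool :=
  CfsgLib.Schur.Pc.inM24 t && ((app t 23 == 23 && app t 0 == 0) || (app t 23 == 0 && app t 0 == 23))

theorem exists_pair {t : ℕ} (h : inPair t = true) : ∃ s : pairStab, Rep enc s.1 t := by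
  simp only [inPair, Bool.and_eq_true, Bool.or_eq_true, beq_iff_eq] at h
  obtain ⟨σ, hσ, r⟩ := CfsgLib.Schur.Pc.inGroup_of_inM24 h.1
  have e1 : idx none = 23 := rfl
  have e2 : idx (some 0 : GolayPt) = 0 := rfl
  have key : ∀ p q : GolayPt, app t (idx p) = idx q → σ p = q := fun p q e => r.apply_eq enc e
  refine ⟨⟨σ, hσ, ?_⟩, r⟩
  rcases h.2 with ⟨a, b⟩ | ⟨a, b⟩
  · simp [pairPts, key none none (by rw [e1]; exact a), key (some 0) (some 0) (by rw [e2]; exact b)]
  · simp [pairPts, key none (some 0) (by rw [e1, e2]; exact a),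
      key (some 0) none (by rw [e1, e2]; exact b), Finset.pair_comm]

theorem pairAut_eq_iff {s : pairStab} {x y : M22g} {a b c : ℕ} (hs : Rep enc s.1 a)
    (hx : Rep enc x.1 b) (hy : Rep enc y.1 c) : prodEq a b c a = true ↔ pairAut s x = y := by
  constructor
  · intro e
    refine Subtype.ext ?_
    rw [pairAut_apply, mul_inv_eq_iff_eq_mul]
    exact mul_eq_of_prodEq hs hx hy hs e
  · intro e
    simp only [prodEq, allBelow_iff, beq_iff_eq]
    intro i hi
    have h1 : s.1 * x.1 = y.1 * s.1 := by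
      rw [← e, pairAut_apply, inv_mul_cancel_right]
    have key : ∀ (u v : Equiv.Perm GolayPt) (p q : ℕ), Rep enc u p → Rep enc v q →
        app p (app q i) = idx ((u * v) (pt i)) := fun u v p q hu hv => by
      have e1 := hv (pt i)
      rw [show (enc (pt i)).val = i from idx_pt hi] at e1
      rw [e1, hu]
      rfl
    rw [key _ _ a b hs hx, key _ _ c a hy hs, h1]

theorem pairAut_mem_of_normOK {s : pairStab} {a : ℕ} (hs : Rep enc s.1 a)
    (h : normOK a JFourType.Data.hexad = true) {x : M22g} (hx : x ∈ hexadGroup) :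
    pairAut s x ∈ hexadGroup := by
  obtain ⟨t, ht, rx⟩ := hx
  simp only [normOK, List.all_eq_true, List.any_eq_true] at h
  obtain ⟨u, hu, e⟩ := h t ht
  obtain ⟨y, ry⟩ := exists_elt (List.all_eq_true.1 hexad_inM22 u hu)
  rw [(pairAut_eq_iff hs rx ry).1 e]
  exact ⟨u, hu, ry⟩

theorem mul_eq_of_tables {s t u v : pairStab} {a b c d : ℕ} (hs : Rep enc s.1 a)
    (ht : Rep enc t.1 b) (hu : Rep enc u.1 c) (hv : Rep enc v.1 d) (e : prodEq a b c d = true) :
    pairAut s * pairAut t = pairAut u * pairAut v := by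
  rw [← map_mul, ← map_mul]
  exact congrArg pairAut (Subtype.ext (mul_eq_of_prodEq hs ht hu hv e))

theorem not_inner_of_swap {s : pairStab} (h : s.1 none = some 0) : pairAut s ∉ Inn M22g := by
  rintro ⟨x, hx⟩
  have h0 : s.1 (some 0) = none := by
    have hm : s.1 (some 0) ∈ pairPts := by
      have hi := Finset.mem_image_of_mem (⇑s.1) (show some 0 ∈ pairPts by simp [pairPts])
      rwa [s.2.2] at hi
    simp only [pairPts, Finset.mem_insert, Finset.mem_singleton] at hm
    refine hm.resolve_right fun e => ?_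
    exact absurd (s.1.injective (e.trans h.symm)) (by simp)
  refine M24Classes.not_inner_SporM22 s.1 s.2.1 h h0 ⟨x.1, x.2, fun y hy => ?_⟩
  exact (congrArg Subtype.val (DFunLike.congr_fun hx ⟨y, hy⟩)).symm

/-! ### The tables -/

/-- The table of the identity. -/
def idT : ℕ := Data.chain.getD 0 0

/-- Entries of the tables of outer elements. -/
def outT (i : ℕ) : ℕ := OuterData.outs.getD i 0

/-- Entries of the tables of their conjugates. -/
def backT (i : ℕ) : ℕ := OuterData.outsBack.getD i 0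

/-- Entries of the tables of products. -/
def prodT (i : ℕ) : ℕ := OuterData.prods.getD i 0

/-- Memberships. -/
def outMemOK : Bool :=
  inM22 OuterData.c0 && (List.range 5).all (fun i => inPair (outT i) && inPair (backT i)) &&
    inM22 (outT 4) && OuterData.movers.all inM22 && (List.range 4).all (fun i => inM22 (prodT i)) &&
    app (outT 0) 23 == 0 && OuterData.hexadBack.all inM22 && OuterData.triBack.all inPair &&
    inM22 OuterData.sixLeft && inM22 OuterData.sixRight && inM22 OuterData.sixSq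

/-- The two hexad subgroups are preserved. -/
def outStabOK : Bool :=
  (List.range 5).all (fun i => normOK (outT i) JFourType.Data.hexad &&
    normOK (backT i) JFourType.Data.hexad && prodEq OuterData.c0 (backT i) (outT i) OuterData.c0) &&
  OuterData.triBack.all (fun t => normOK t JFourType.Data.hexad) &&
  prodEq OuterData.c0 (OuterData.triBack.getD 0 0) Data.hexA OuterData.c0 &&
  prodEq OuterData.c0 (OuterData.triBack.getD 1 0) Data.hexB OuterData.c0

/-- The relations. -/
def outRelOK : Bool :=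
  let a := outT 0; let b := outT 1; let c := outT 2; let d := outT 3; let s := outT 4
  powId a 2 && powId s 2 && prodEq b s s a && prodEq c s s c &&
  prodEq (OuterData.movers.getD 0 0) a c (OuterData.movers.getD 0 0) &&
  prodEq (OuterData.movers.getD 1 0) a d (OuterData.movers.getD 1 0) &&
  prodEq a b (prodT 0) idT &&
  prodEq a c (prodT 1) idT &&
  prodEq b c (prodT 2) idT && prodEq c d (prodT 3) idT &&
  powId (prodT 0) 2 && powId (prodT 1) 2 && powId (prodT 3) 2 &&
  prodEq d (prodT 0) s d &&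
  !powId (prodT 0) 1 && !powId (prodT 1) 1 && !powId (prodT 2) 1 && !powId s 1 &&
  !prodEq (prodT 0) idT s idT

/-- The fixed members of `hexad` are commutators; only the identity preserves the other one. -/
def outHexOK : Bool :=
  let H := JFourType.Data.hexad
  H.all (fun t => !prodEq (outT 0) t t (outT 0) ||
    H.any (fun u => H.any fun v => prodEq (outT 0) u v (outT 0) &&
      allBelow 24 fun i => app t i == app u (app v i))) &&
  (List.range 16).all (fun i => powId (H.getD i 0) 1 ||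
    (prodEq OuterData.c0 (OuterData.hexadBack.getD i 0) (H.getD i 0) OuterData.c0 &&
      !normOK (OuterData.hexadBack.getD i 0) H)) &&
  H.contains OuterData.sixLeft && H.contains OuterData.sixRight &&
  powId OuterData.sixSq 3 && !powId OuterData.sixSq 1 &&
  inM22 OuterData.sixConj && prodEq OuterData.c0 OuterData.sixRight OuterData.sixConj OuterData.c0 &&
  allBelow 24 (fun i =>
    let f := fun j => app OuterData.sixLeft (app OuterData.sixConj j)
    app OuterData.sixSq i == f (f i))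

/-- A conjugate of the hexad subgroup. -/
def hexadConj (c : M22g) : Subgroup M22g := hexadGroup.map (MulAut.conj c).toMonoidHom

/-- An automorphism preserves the hexad subgroup and its conjugate. -/
def Stab (c : M22g) (σ : MulAut M22g) : Prop :=
  (∀ x ∈ hexadGroup, σ x ∈ hexadGroup) ∧ ∀ x ∈ hexadConj c, σ x ∈ hexadConj c

theorem stab_of_back {c : M22g} {σ τ : MulAut M22g} (h : ∀ x ∈ hexadGroup, σ x ∈ hexadGroup)
    (h' : ∀ x ∈ hexadGroup, τ x ∈ hexadGroup) (e : MulAut.conj c * τ = σ * MulAut.conj c) :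
    Stab c σ := by
  refine ⟨h, ?_⟩
  rintro _ ⟨x, hx, rfl⟩
  refine ⟨τ x, h' x hx, ?_⟩
  exact DFunLike.congr_fun e x

/-- What is used of the automorphisms stabilising two disjoint hexad subgroups. -/
structure Outer where
  /-- the first outer involution -/
  a : MulAut M22g
  /-- the second one -/
  b : MulAut M22g
  /-- the third one -/
  c : MulAut M22g
  /-- the fourth one -/
  d : MulAut M22g
  /-- the inner involution -/
  s : M22g
  /-- the product of the first two -/
  p : M22g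
  /-- the product of the first and the third -/
  q : M22g
  /-- the product of the last two -/
  r : M22g
  /-- the element moving the hexad subgroup -/
  c0 : M22g
  c0_rep : Rep enc c0.1 OuterData.c0
  a_out : a ∉ Inn M22g
  stab : Stab c0 a ∧ Stab c0 b ∧ Stab c0 c ∧ Stab c0 d ∧ Stab c0 (MulAut.conj s)
  a_sq : a * a = 1
  s_sq : s * s = 1
  b_eq : b * MulAut.conj s = MulAut.conj s * a
  sc : c * MulAut.conj s = MulAut.conj s * c
  c_conj : ∃ g : M22g, MulAut.conj g * a = c * MulAut.conj g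
  d_conj : ∃ g : M22g, MulAut.conj g * a = d * MulAut.conj g
  ab : a * b = MulAut.conj p ∧ p * p = 1
  ac : a * c = MulAut.conj q ∧ q * q = 1
  cd : c * d = MulAut.conj r ∧ r * r = 1
  swap : d * MulAut.conj p = MulAut.conj s * d
  indep : p ≠ 1 ∧ q ≠ 1 ∧ b * c ≠ 1 ∧ s ≠ 1 ∧ s ≠ p
  cb : ∀ x ∈ hexadGroup, a x = x → ∃ u ∈ hexadGroup, x = u * a u
  meet : ∀ x ∈ hexadGroup, (∀ y ∈ hexadConj c0, x * y * x⁻¹ ∈ hexadConj c0) → x = 1
  six : ∃ x ∈ hexadGroup, ∃ y ∈ hexadConj c0, orderOf ((x * y) ^ 2) = 3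
  tri : ∀ g : M22g, Rep enc g.1 Data.hexA ∨ Rep enc g.1 Data.hexB →
    g ∈ Subgroup.normalizer (hexadConj c0 : Set M22g)

theorem nonempty_outer : Nonempty Outer := by
  have hM : outMemOK = true := by decide +kernel
  have hS : outStabOK = true := by decide +kernel
  have hR : outRelOK = true := by decide +kernel
  have hH : outHexOK = true := by decide +kernel
  simp only [outMemOK, Bool.and_eq_true, List.all_eq_true, List.mem_range, beq_iff_eq] at hM
  obtain ⟨⟨⟨⟨⟨⟨⟨⟨⟨⟨ic, i5⟩, is⟩, imv⟩, ip⟩, i23⟩, ihb⟩, itb⟩, iL⟩, iR⟩, iQ⟩ := hM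
  simp only [outStabOK, Bool.and_eq_true, List.all_eq_true, List.mem_range] at hS
  obtain ⟨⟨⟨hst, htb⟩, htA⟩, htB⟩ := hS
  simp only [outRelOK, Bool.and_eq_true, Bool.not_eq_true'] at hR
  obtain ⟨⟨⟨⟨⟨⟨⟨⟨⟨⟨⟨⟨⟨⟨⟨⟨⟨⟨a2, s2⟩, eb⟩, ec⟩, ecg⟩, edg⟩, eab⟩, eac⟩, ebc⟩, ecd⟩, p2⟩, q2⟩, r2⟩, esw⟩,
    np⟩, nq⟩, nbc⟩, ns⟩, nsp⟩ := hR
  obtain ⟨c0, rc0⟩ := exists_elt ic
  obtain ⟨sa, ra⟩ := exists_pair (i5 0 (by norm_num)).1
  obtain ⟨sb, rb⟩ := exists_pair (i5 1 (by norm_num)).1
  obtain ⟨sc, rc⟩ := exists_pair (i5 2 (by norm_num)).1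
  obtain ⟨sd, rd⟩ := exists_pair (i5 3 (by norm_num)).1
  obtain ⟨s, rs⟩ := exists_elt is
  have hmv : OuterData.movers.length = 2 := by decide +kernel
  obtain ⟨gc, rgc⟩ := exists_elt (imv _ (mem_of_getD (i := 0) (by omega)))
  obtain ⟨gd, rgd⟩ := exists_elt (imv _ (mem_of_getD (i := 1) (by omega)))
  obtain ⟨p, rp⟩ := exists_elt (ip 0 (by norm_num))
  obtain ⟨q, rq⟩ := exists_elt (ip 1 (by norm_num))
  obtain ⟨w, rw'⟩ := exists_elt (ip 2 (by norm_num))
  obtain ⟨r, rr⟩ := exists_elt (ip 3 (by norm_num))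
  obtain ⟨o, ro⟩ := exists_elt (t := idT) (by decide +kernel)
  have ho : o = 1 := (eq_one_iff_powId ro).1 (by decide +kernel)
  let em : M22g → pairStab := fun x => ⟨x.1, mem_pairStab_of_M22 x⟩
  have hem : ∀ x, pairAut (em x) = MulAut.conj x := pairAut_M22
  have hprod : ∀ {u v : pairStab} {x : M22g} {i j k : ℕ}, Rep enc u.1 i → Rep enc v.1 j →
      Rep enc x.1 k → prodEq i j k idT = true → pairAut u * pairAut v = MulAut.conj x :=
    fun {u v x} _ _ _ hu hv hx e => by
    rw [mul_eq_of_tables hu hv (u := em x) (v := em o) hx ro e, hem, hem, ho, map_one, mul_one]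
  have hsq : ∀ {x : M22g} {i : ℕ}, Rep enc x.1 i → powId i 2 = true → x * x = 1 := fun hx e => by
    rw [← pow_two, ← pow_eq_one_iff_powId hx]; exact e
  have hnot : ∀ {x : M22g} {i : ℕ}, Rep enc x.1 i → powId i 1 = false → x ≠ 1 := fun hx e h => by
    rw [(eq_one_iff_powId hx).2 h] at e; exact absurd e (by simp)
  have hstab : ∀ (i : ℕ), i < 5 → ∀ u : pairStab, Rep enc u.1 (outT i) →
      Stab c0 (pairAut u) := fun i hi u ru => by
    obtain ⟨k, rk⟩ := exists_pair (i5 i hi).2
    obtain ⟨⟨h1, h2⟩, h3⟩ := hst i hi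
    refine stab_of_back (fun x hx => pairAut_mem_of_normOK ru h1 hx)
      (τ := pairAut k) (fun x hx => pairAut_mem_of_normOK rk h2 hx) ?_
    rw [← hem]
    exact mul_eq_of_tables (s := em c0) (v := em c0) rc0 rk ru rc0 h3
  simp only [outHexOK, Bool.and_eq_true, List.all_eq_true, List.mem_range, Bool.or_eq_true,
    Bool.not_eq_true', List.any_eq_true, List.contains_iff_mem] at hH
  obtain ⟨⟨⟨⟨⟨⟨⟨⟨hcb, hmeet⟩, hL⟩, hR'⟩, q3⟩, q1⟩, iC⟩, eC⟩, eSq⟩ := hH
  refine ⟨⟨pairAut sa, pairAut sb, pairAut sc, pairAut sd, s, p, q, r, c0, rc0,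
    not_inner_of_swap (ra.apply_eq enc i23), ⟨hstab 0 (by norm_num) _ ra, hstab 1 (by norm_num) _ rb,
      hstab 2 (by norm_num) _ rc, hstab 3 (by norm_num) _ rd,
      hem s ▸ hstab 4 (by norm_num) _ rs⟩, ?_, hsq rs s2, ?_, ?_, ⟨gc, ?_⟩, ⟨gd, ?_⟩,
    ⟨hprod ra rb rp eab, hsq rp p2⟩, ⟨hprod ra rc rq eac, hsq rq q2⟩,
    ⟨hprod rc rd rr ecd, hsq rr r2⟩, ?_, ⟨hnot rp np, hnot rq nq, ?_, hnot rs ns, ?_⟩,
    ?_, ?_, ?_, ?_⟩⟩
  · rw [← map_mul, ← map_one pairAut]
    exact congrArg pairAut (Subtype.ext (by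
      rw [Subgroup.coe_mul, Subgroup.coe_one, ← pow_two]; exact (powId_iff ra 2).1 a2))
  · rw [← hem s]; exact mul_eq_of_tables rb (t := em s) rs (u := em s) rs ra eb
  · rw [← hem s]; exact mul_eq_of_tables rc (t := em s) rs (u := em s) rs rc ec
  · rw [← hem gc]; exact mul_eq_of_tables (s := em gc) rgc ra rc (v := em gc) rgc ecg
  · rw [← hem gd]; exact mul_eq_of_tables (s := em gd) rgd ra rd (v := em gd) rgd edg
  · rw [← hem p, ← hem s]; exact mul_eq_of_tables rd (t := em p) rp (u := em s) rs rd esw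
  · rw [hprod rb rc rw' ebc]
    exact fun e => hnot rw' nbc (conj_injective (e.trans (map_one (MulAut.conj : M22g →* MulAut M22g)).symm))
  · intro e
    rw [(mul_eq_mul_iff rp ro rs ro).2 (by rw [e])] at nsp
    exact absurd nsp (by simp)
  · rintro x ⟨t, ht, rx⟩ hfix
    rcases hcb t ht with e | ⟨u, hu, v, hv, e1, e2⟩
    · rw [(pairAut_eq_iff ra rx rx).2 hfix] at e
      exact absurd e (by simp)
    · obtain ⟨y, ry⟩ := exists_elt (List.all_eq_true.1 hexad_inM22 u hu)
      obtain ⟨y', ry'⟩ := exists_elt (List.all_eq_true.1 hexad_inM22 v hv)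
      refine ⟨y, ⟨u, hu, ry⟩, ?_⟩
      rw [(pairAut_eq_iff ra ry ry').1 e1]
      refine eq_of_rep rx (rep_of_isProd ry ry' ?_)
      simpa [isProd, allBelow_iff] using e2
  · rintro x ⟨t, ht, rx⟩ hx
    obtain ⟨i, hi, rfl⟩ := getD_of_mem ht
    have hlen : JFourType.Data.hexad.length = 16 := by decide +kernel
    rcases hmeet i (hlen ▸ hi) with e | ⟨e1, e2⟩
    · exact (eq_one_iff_powId rx).1 e
    exfalso
    have hbl : OuterData.hexadBack.length = 16 := by decide +kernel
    obtain ⟨k, rk⟩ := exists_elt (ihb _ (mem_of_getD (hbl.symm ▸ (hlen ▸ hi : i < 16))))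
    have hk : c0 * k = x * c0 := (mul_eq_mul_iff rc0 rk rx rc0).1 e1
    have hn : normOK (OuterData.hexadBack.getD i 0) JFourType.Data.hexad = true := by
      simp only [normOK, List.all_eq_true, List.any_eq_true]
      intro u hu
      obtain ⟨y, ry⟩ := exists_elt (List.all_eq_true.1 hexad_inM22 u hu)
      obtain ⟨y', ⟨v, hv, ry'⟩, e⟩ := hx _ ⟨y, ⟨u, hu, ry⟩, rfl⟩
      refine ⟨v, hv, (mul_eq_mul_iff rk ry ry' rk).2 ?_⟩
      have hk' : k = c0⁻¹ * x * c0 := by rw [mul_assoc, ← hk, inv_mul_cancel_left]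
      simp only [MulEquiv.coe_toMonoidHom, MulAut.conj_apply] at e
      calc k * y = c0⁻¹ * (x * (c0 * y * c0⁻¹) * x⁻¹) * x * c0 := by rw [hk']; group
        _ = c0⁻¹ * (c0 * y' * c0⁻¹) * x * c0 := by rw [e]
        _ = y' * k := by rw [hk']; group
    rw [hn] at e2
    exact absurd e2 (by simp)
  · obtain ⟨x, rx⟩ := exists_elt iL
    obtain ⟨y, ry⟩ := exists_elt iR
    obtain ⟨z, rz⟩ := exists_elt iQ
    obtain ⟨v, rv⟩ := exists_elt iC
    have hv : c0 * y = v * c0 := (mul_eq_mul_iff rc0 ry rv rc0).1 eC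
    refine ⟨x, ⟨_, hL, rx⟩, v, ⟨y, ⟨_, hR', ry⟩, by
      simp [hv]⟩, ?_⟩
    have ez : (x * v) ^ 2 = z := by
      refine Subtype.ext (Equiv.ext fun i => enc.injective (Fin.ext ?_))
      simp only [allBelow_iff, beq_iff_eq] at eSq
      have h := eSq _ (enc i).isLt
      rw [rz i, rv i, rx, rv, rx] at h
      rw [pow_two]
      exact h.symm
    have : Fact (Nat.Prime 3) := ⟨Nat.prime_three⟩
    rw [ez]
    exact orderOf_eq_prime ((pow_eq_one_iff_powId rz 3).1 q3) (hnot rz q1)
  · intro g hg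
    have key : ∀ (i : ℕ) (t : ℕ), i < 2 → Rep enc g.1 t →
        prodEq OuterData.c0 (OuterData.triBack.getD i 0) t OuterData.c0 = true →
        g ∈ Subgroup.normalizer (hexadConj c0 : Set M22g) := fun i t hi rg e => by
      have hl : OuterData.triBack.length = 2 := by decide +kernel
      have hm := mem_of_getD (hl.symm ▸ hi)
      obtain ⟨k, rk⟩ := exists_pair (itb _ hm)
      have heq : MulAut.conj c0 * pairAut k = MulAut.conj g * MulAut.conj c0 := by
        rw [← hem, ← hem]
        exact mul_eq_of_tables (s := em c0) (u := em g) (v := em c0) rc0 rk rg rc0 e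
      refine Subgroup.mem_normalizer_fintype ?_
      rintro _ ⟨y, hy, rfl⟩
      exact ⟨pairAut k y, pairAut_mem_of_normOK rk (htb _ hm) hy, DFunLike.congr_fun heq y⟩
    rcases hg with rg | rg
    exacts [key 0 _ (by norm_num) rg htA, key 1 _ (by norm_num) rg htB]

end CfsgLib.JFourEleven
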