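import Mathlib

/-!
# Linear maps of odd prime order on spaces over the field with two elements

`dvd_two_pow_sub_one`: no non-zero fixed vector forces a congruence on the dimension.
`triple`: three commuting eigenspaces permuted cyclically.
`five_trivial`: an element of order five conjugate to its square commuting with a fixed-point-free
element of order three is trivial on invariant subspaces of dimension less than eight.
-/

set_option autoImplicit false

namespace CfsgLib.JFourEleven

open Module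

variable {V : Type*} [AddCommGroup V] [Module (ZMod 2) V] [Finite V]

omit [Finite V] in
theorem add_self' (v : V) : v + v = 0 := by
  rw [← two_smul (ZMod 2) v, show (2 : ZMod 2) = 0 from rfl, zero_smul]

omit [Finite V] in
theorem add_add_cancel' (v w : V) : v + (v + w) = w := by rw [← add_assoc, add_self', zero_add]

omit [Finite V] in
theorem sub_eq_add' (v w : V) : v - w = v + w := by
  rw [sub_eq_add_neg, neg_eq_of_add_eq_zero_right (add_self' w)]

theorem card_submodule (U : Submodule (ZMod 2) V) : Nat.card U = 2 ^ finrank (ZMod 2) U := by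
  have h := Module.natCard_eq_pow_finrank (K := ZMod 2) (V := U)
  rwa [Nat.card_zmod] at h

/-- An element of prime power one without non-zero fixed vector in an invariant subspace. -/
theorem dvd_two_pow_sub_one {p : ℕ} (hp : p.Prime) {t : Module.End (ZMod 2) V} (ht : t ^ p = 1)
    (U : Submodule (ZMod 2) V) (hU : ∀ v ∈ U, t v ∈ U) (hfix : ∀ v ∈ U, t v = v → v = 0) :
    p ∣ 2 ^ finrank (ZMod 2) U - 1 := by
  classical
  haveI : Fact p.Prime := ⟨hp⟩
  have hpow : ∀ k : ℕ, ∀ v ∈ U, (t ^ k) v ∈ U := by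
    intro k
    induction k with
    | zero => simp
    | succ k ih => intro v hv; rw [pow_succ, End.mul_apply]; exact ih _ (hU v hv)
  have hpt : ∀ v, (t ^ (p - 1)) (t v) = v ∧ t ((t ^ (p - 1)) v) = v := fun v => by
    constructor
    · rw [← End.mul_apply, ← pow_succ, Nat.sub_add_cancel hp.one_lt.le, ht, End.one_apply]
    · rw [← End.mul_apply, ← pow_succ', Nat.sub_add_cancel hp.one_lt.le, ht, End.one_apply]
  let σ : Equiv.Perm U :=
    { toFun := fun v => ⟨t v.1, hU v.1 v.2⟩
      invFun := fun v => ⟨(t ^ (p - 1)) v.1, hpow _ v.1 v.2⟩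
      left_inv := fun v => Subtype.ext (hpt v.1).1
      right_inv := fun v => Subtype.ext (hpt v.1).2 }
  have hk : ∀ (k : ℕ) (v : U), ((σ ^ k) v).1 = (t ^ k) v.1 := by
    intro k
    induction k with
    | zero => simp
    | succ k ih =>
      intro v
      rw [pow_succ', Equiv.Perm.mul_apply, pow_succ', End.mul_apply, ← ih]
      rfl
  have hσ : σ ^ p ^ 1 = 1 := Equiv.ext fun v => Subtype.ext (by rw [pow_one, hk, ht]; simp)
  haveI : Fintype U := Fintype.ofFinite U
  have hmod := Equiv.Perm.card_compl_support_modEq hσ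
  have hone : σ.supportᶜ = {0} := by
    ext v
    simp only [Finset.mem_compl, Equiv.Perm.mem_support, not_not, Finset.mem_singleton]
    exact ⟨fun h => Subtype.ext (hfix v.1 v.2 (congrArg Subtype.val h)),
      fun h => Subtype.ext (by rw [h]; exact map_zero t)⟩
  rw [hone, Finset.card_singleton, ← Nat.card_eq_fintype_card, card_submodule] at hmod
  exact (Nat.modEq_iff_dvd' Nat.one_le_two_pow).1 hmod

theorem two_dvd_of_three {d : ℕ} (h : 3 ∣ 2 ^ d - 1) : 2 ∣ d := by
  rcases Nat.even_or_odd d with he | ⟨k, rfl⟩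
  · exact he.two_dvd
  · exfalso
    have h1 : 2 ^ (2 * k + 1) % 3 = 2 := by rw [pow_succ, pow_mul, Nat.mul_mod, Nat.pow_mod]; norm_num
    obtain ⟨c, hc⟩ := h
    have := Nat.one_le_two_pow (n := 2 * k + 1)
    generalize 2 ^ (2 * k + 1) = N at h1 hc this
    omega

theorem four_dvd_of_five {d : ℕ} (h : 5 ∣ 2 ^ d - 1) : 4 ∣ d := by
  rw [← Nat.div_add_mod d 4, pow_add, pow_mul] at h
  have h1 : (2 ^ 4) ^ (d / 4) % 5 = 1 := by rw [Nat.pow_mod]; norm_num
  have hlt : d % 4 < 4 := Nat.mod_lt _ (by norm_num)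
  have := Nat.one_le_two_pow (n := 4 * (d / 4))
  rw [pow_mul] at this
  rcases (by omega : d % 4 = 0 ∨ d % 4 = 1 ∨ d % 4 = 2 ∨ d % 4 = 3) with e | e | e | e
  · exact Nat.dvd_of_mod_eq_zero e
  all_goals rw [e] at h; omega

/-- The fixed space of an endomorphism. -/
def fixed (t : Module.End (ZMod 2) V) : Submodule (ZMod 2) V := LinearMap.ker (t - 1)

omit [Finite V] in
theorem mem_fixed {t : Module.End (ZMod 2) V} {v : V} : v ∈ fixed t ↔ t v = v := by
  simp [fixed, sub_eq_zero]

theorem finrank_le_of_intertwine {t t' b : Module.End (ZMod 2) V} (U : Submodule (ZMod 2) V)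
    (hb : ∀ v ∈ U, b v ∈ U) (hbi : ∀ v, b v = 0 → v = 0) (h : b * t = t' * b) :
    finrank (ZMod 2) ↥(U ⊓ fixed t) ≤ finrank (ZMod 2) ↥(U ⊓ fixed t') := by
  let f : ↥(U ⊓ fixed t) →ₗ[ZMod 2] ↥(U ⊓ fixed t') :=
    b.restrict fun v hv => ⟨hb v hv.1, mem_fixed.2 (by
      rw [← End.mul_apply, ← h, End.mul_apply, mem_fixed.1 hv.2])⟩
  refine LinearMap.finrank_le_finrank_of_injective (f := f) fun v w e => Subtype.ext ?_
  have e' : b v.1 = b w.1 := congrArg Subtype.val e
  exact sub_eq_zero.1 (hbi _ (by rw [map_sub, e', sub_self]))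

/-- An elementary group of order nine with a fixed-point-free member, and an element permuting the
other three subgroups. -/
theorem triple {a x b : Module.End (ZMod 2) V} (ha : a ^ 3 = 1) (hx : ∀ v, v + x v + x (x v) = 0)
    (hax : a * x = x * a) (hbx : b * x = x * b) (hba : b * a = a * x * b ∨ b * a = a * (x * x) * b)
    (hbi : ∀ v, b v = 0 → v = 0) (U : Submodule (ZMod 2) V) (hUa : ∀ v ∈ U, a v ∈ U)
    (hUx : ∀ v ∈ U, x v ∈ U) (hUb : ∀ v ∈ U, b v ∈ U) :
    finrank (ZMod 2) U = 3 * finrank (ZMod 2) ↥(U ⊓ fixed a) := by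
  have x3 : ∀ v, x (x (x v)) = v := fun v => by
    have e1 := hx v
    have e2 := congrArg x e1
    simp only [map_add, map_zero] at e2
    have e3 : x v + x (x v) = v := by
      rw [add_assoc] at e1
      exact (eq_neg_of_add_eq_zero_right e1).trans (neg_eq_of_add_eq_zero_right (add_self' v))
    have e4 : x (x (x v)) = x v + x (x v) := by
      exact (eq_neg_of_add_eq_zero_right e2).trans (neg_eq_of_add_eq_zero_right (add_self' _))
    rw [e4, e3]
  have hsum : ∀ v, x v + x (x v) = v := fun v => by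
    have e1 := hx v
    rw [add_assoc] at e1
    exact (eq_neg_of_add_eq_zero_right e1).trans (neg_eq_of_add_eq_zero_right (add_self' v))
  have cax : ∀ v, a (x v) = x (a v) := fun v => by rw [← End.mul_apply, hax, End.mul_apply]
  have a3 : ∀ v, a (a (a v)) = v := fun v => by
    have := congrArg (fun t : Module.End (ZMod 2) V => t v) ha
    simpa [pow_succ, End.mul_apply] using this
  -- the three projections
  let y : Fin 3 → Module.End (ZMod 2) V := ![a, a * x, a * (x * x)]
  let e : Fin 3 → Module.End (ZMod 2) V := fun i => 1 + y i + y i * y i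
  have y3 : ∀ i v, y i (y i (y i v)) = v := by
    intro i v
    fin_cases i <;> simp [y, cax, a3, x3]
  have ey : ∀ i v, y i (e i v) = e i v := fun i v => by
    simp only [e, LinearMap.add_apply, End.one_apply, End.mul_apply, map_add, y3]
    abel
  have esum : ∀ v, e 0 v + e 1 v + e 2 v = v := fun v => by
    have h1 : e 0 v + e 1 v + e 2 v = (v + v + v) + a (v + x v + x (x v)) +
        a (a (v + x (x v) + x (x (x (x v))))) := by
      simp only [e, y, Matrix.cons_val_zero, Matrix.cons_val_one, Matrix.cons_val_two,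
        Matrix.head_cons, Matrix.tail_cons, LinearMap.add_apply, End.one_apply, End.mul_apply,
        map_add, cax]
      abel
    rw [h1, x3, show v + x (x v) + x v = v + x v + x (x v) by abel, hx, map_zero, map_zero,
      add_self' v, zero_add, add_zero, add_zero]
  have eU : ∀ i, ∀ v ∈ U, e i v ∈ U := by
    intro i v hv
    have hy : ∀ w ∈ U, y i w ∈ U := by
      intro w hw
      fin_cases i
      · simpa [y] using hUa w hw
      · simpa [y] using hUa _ (hUx w hw)
      · simpa [y] using hUa _ (hUx _ (hUx w hw))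
    exact add_mem (add_mem hv (hy v hv)) (hy _ (hy v hv))
  have eself : ∀ i w, y i w = w → e i w = w := fun i w h => by
    simp only [e, LinearMap.add_apply, End.one_apply, End.mul_apply, h]
    rw [add_self', zero_add]
  have ecross : ∀ i j, i ≠ j → ∀ w, y j w = w → e i w = 0 := by
    intro i j hij w h
    have hw := hx w
    have hj : (j = 0 → a w = w) ∧ (j = 1 → a w = x (x w)) ∧ (j = 2 → a w = x w) := by
      refine ⟨?_, ?_, ?_⟩
      · rintro rfl; simpa [y] using h
      · rintro rfl
        have h' : a (x w) = w := by simpa [y] using h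
        conv_rhs => rw [← h']
        rw [cax, x3]
      · rintro rfl
        have h' : a (x (x w)) = w := by simpa [y] using h
        conv_rhs => rw [← h']
        rw [cax, cax, x3]
    fin_cases j <;> fin_cases i <;> first | exact absurd rfl hij | skip
    · have haw : a w = w := hj.1 rfl
      simpa [e, y, cax, haw, x3, add_assoc, add_comm, add_left_comm] using hw
    · have haw : a w = w := hj.1 rfl
      simpa [e, y, cax, haw, x3, add_assoc, add_comm, add_left_comm] using hw
    · have haw : a w = x (x w) := hj.2.1 rfl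
      simpa [e, y, cax, haw, x3, add_assoc, add_comm, add_left_comm] using hw
    · have haw : a w = x (x w) := hj.2.1 rfl
      simpa [e, y, cax, haw, x3, add_assoc, add_comm, add_left_comm] using hw
    · have haw : a w = x w := hj.2.2 rfl
      simpa [e, y, cax, haw, x3, add_assoc, add_comm, add_left_comm] using hw
    · have haw : a w = x w := hj.2.2 rfl
      simpa [e, y, cax, haw, x3, add_assoc, add_comm, add_left_comm] using hw
  let f : U →ₗ[ZMod 2] ↥(U ⊓ fixed (y 0)) × ↥(U ⊓ fixed (y 1)) × ↥(U ⊓ fixed (y 2)) :=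
    (LinearMap.codRestrict (U ⊓ fixed (y 0)) ((e 0).comp U.subtype) fun v =>
        ⟨eU 0 v.1 v.2, mem_fixed.2 (ey 0 v.1)⟩).prod
      ((LinearMap.codRestrict (U ⊓ fixed (y 1)) ((e 1).comp U.subtype) fun v =>
        ⟨eU 1 v.1 v.2, mem_fixed.2 (ey 1 v.1)⟩).prod
      (LinearMap.codRestrict (U ⊓ fixed (y 2)) ((e 2).comp U.subtype) fun v =>
        ⟨eU 2 v.1 v.2, mem_fixed.2 (ey 2 v.1)⟩))
  have hinj : Function.Injective f := fun v w h => Subtype.ext (by
    simp only [f, LinearMap.prod_apply, Function.prod, Prod.mk.injEq, Subtype.ext_iff] at h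
    obtain ⟨h0, h1, h2⟩ := h
    rw [← esum v.1, ← esum w.1]
    exact congrArg₂ (· + ·) (congrArg₂ (· + ·) h0 h1) h2)
  have hsurj : Function.Surjective f := by
    rintro ⟨u0, u1, u2⟩
    refine ⟨⟨u0.1 + u1.1 + u2.1, add_mem (add_mem u0.2.1 u1.2.1) u2.2.1⟩, ?_⟩
    have m0 := mem_fixed.1 u0.2.2
    have m1 := mem_fixed.1 u1.2.2
    have m2 := mem_fixed.1 u2.2.2
    refine Prod.ext (Subtype.ext ?_) (Prod.ext (Subtype.ext ?_) (Subtype.ext ?_))
    · show e 0 (u0.1 + u1.1 + u2.1) = u0.1
      rw [map_add, map_add, eself 0 _ m0, ecross 0 1 (by decide) _ m1, ecross 0 2 (by decide) _ m2,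
        add_zero, add_zero]
    · show e 1 (u0.1 + u1.1 + u2.1) = u1.1
      rw [map_add, map_add, eself 1 _ m1, ecross 1 0 (by decide) _ m0, ecross 1 2 (by decide) _ m2,
        zero_add, add_zero]
    · show e 2 (u0.1 + u1.1 + u2.1) = u2.1
      rw [map_add, map_add, eself 2 _ m2, ecross 2 0 (by decide) _ m0, ecross 2 1 (by decide) _ m1,
        zero_add, zero_add]
  have hdim := LinearEquiv.finrank_eq (LinearEquiv.ofBijective f ⟨hinj, hsurj⟩)
  rw [Module.finrank_prod, Module.finrank_prod] at hdim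
  have cbx : ∀ v, b (x v) = x (b v) := fun v => by rw [← End.mul_apply, hbx, End.mul_apply]
  have step : ∀ i j, b * y i = y j * b →
      finrank (ZMod 2) ↥(U ⊓ fixed (y i)) ≤ finrank (ZMod 2) ↥(U ⊓ fixed (y j)) :=
    fun i j h => finrank_le_of_intertwine U hUb hbi h
  have hy0 : y 0 = a := rfl
  rcases hba with hba | hba
  · have cba : ∀ v, b (a v) = a (x (b v)) := fun v => by
      rw [← End.mul_apply, hba, End.mul_apply, End.mul_apply]
    have s1 := step 0 1 (LinearMap.ext fun v => by simp [y, cba])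
    have s2 := step 1 2 (LinearMap.ext fun v => by simp [y, cba, cbx])
    have s3 := step 2 0 (LinearMap.ext fun v => by simp [y, cba, cbx, x3])
    rw [hy0] at s1 s3 hdim
    omega
  · have cba : ∀ v, b (a v) = a (x (x (b v))) := fun v => by
      rw [← End.mul_apply, hba, End.mul_apply, End.mul_apply, End.mul_apply]
    have s1 := step 0 2 (LinearMap.ext fun v => by simp [y, cba])
    have s2 := step 2 1 (LinearMap.ext fun v => by simp [y, cba, cbx, x3])
    have s3 := step 1 0 (LinearMap.ext fun v => by simp [y, cba, cbx, x3])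
    rw [hy0] at s1 s3 hdim
    omega

/-- An element of order five conjugate to its square in the centraliser of a fixed-point-free
element of order three. -/
theorem five_trivial {f g x : Module.End (ZMod 2) V} (hf : f ^ 5 = 1)
    (hx : ∀ v, v + x v + x (x v) = 0) (hfx : f * x = x * f) (hgx : g * x = x * g)
    (hgf : g * f = f * f * g) (hgi : ∀ v, g v = 0 → v = 0) (U : Submodule (ZMod 2) V)
    (hUf : ∀ v ∈ U, f v ∈ U) (hUg : ∀ v ∈ U, g v ∈ U) (hUx : ∀ v ∈ U, x v ∈ U) :
    (∀ v ∈ U, f v = v) ∨ ∃ K : Submodule (ZMod 2) V, K ≤ U ∧ 8 ≤ finrank (ZMod 2) K ∧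
      ∀ v ∈ K, f v = v → v = 0 := by
  by_contra hcon
  push Not at hcon
  obtain ⟨⟨v0, hv0, hne⟩, hK⟩ := hcon
  have f5 : ∀ v, f (f (f (f (f v)))) = v := fun v => by
    have := congrArg (fun t : Module.End (ZMod 2) V => t v) hf
    simpa [pow_succ, End.mul_apply] using this
  have cfx : ∀ v, f (x v) = x (f v) := fun v => by rw [← End.mul_apply, hfx, End.mul_apply]
  have cgx : ∀ v, g (x v) = x (g v) := fun v => by rw [← End.mul_apply, hgx, End.mul_apply]
  have cgf : ∀ v, g (f v) = f (f (g v)) := fun v => by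
    rw [← End.mul_apply, hgf, End.mul_apply, End.mul_apply]
  let s : Module.End (ZMod 2) V := 1 + f + f * f + f * f * f + f * f * f * f
  have hs : ∀ v, s v = v + f v + f (f v) + f (f (f v)) + f (f (f (f v))) := fun v => rfl
  let u : Module.End (ZMod 2) V := f + f * f * f * f
  have hu : ∀ v, u v = f v + f (f (f (f v))) := fun v => rfl
  let Y : Submodule (ZMod 2) V := U ⊓ LinearMap.ker s
  have hY : ∀ v, v ∈ Y ↔ v ∈ U ∧ s v = 0 := fun v => Iff.rfl
  let Kp : Submodule (ZMod 2) V := Y ⊓ LinearMap.ker (u + x)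
  let Km : Submodule (ZMod 2) V := Y ⊓ LinearMap.ker (u + x + 1)
  have hKp : ∀ v, v ∈ Kp ↔ v ∈ Y ∧ u v + x v = 0 := fun v => Iff.rfl
  have hKm : ∀ v, v ∈ Km ↔ v ∈ Y ∧ u v + x v + v = 0 := fun v => Iff.rfl
  have sfix : ∀ v, f v = v → s v = v := fun v h => by
    rw [hs, h, h, h, h, add_self', zero_add, add_self', zero_add]
  have Yfix : ∀ v ∈ Y, f v = v → v = 0 := fun v hv h => by
    rw [← sfix v h]; exact hv.2
  have Yf : ∀ v ∈ Y, f v ∈ Y := fun v hv => ⟨hUf v hv.1, by
    show s (f v) = 0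
    have h0 : f (s v) = 0 := by rw [(hY v).1 hv |>.2, map_zero]
    rw [← h0, hs, hs]
    simp [map_add]⟩
  have cus : ∀ v, f (u v) = u (f v) := fun v => by simp [hu, map_add]
  have hsq : ∀ v ∈ Y, u (u v) = u v + v := fun v hv => by
    have h0 := ((hY v).1 hv).2
    rw [hs] at h0
    have e : u (u v) = (f (f v) + f (f (f v))) + (v + v) := by
      simp only [hu, map_add, f5]
      abel
    rw [e, add_self', add_zero, hu]
    rw [← sub_eq_zero, sub_eq_add', ← h0]
    abel
  have hx2 : ∀ v, x (x v) = x v + v := fun v => by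
    have e1 := hx v
    rw [← sub_eq_zero, sub_eq_add', ← e1]
    abel
  have cxu : ∀ v, u (x v) = x (u v) := fun v => by simp [hu, map_add, cfx]
  have Kf : ∀ v ∈ Kp, f v ∈ Kp := fun v hv => ⟨Yf v hv.1, by
    show u (f v) + x (f v) = 0
    rw [← cus, ← cfx, ← map_add, ((hKp v).1 hv).2, map_zero]⟩
  have Kf' : ∀ v ∈ Km, f v ∈ Km := fun v hv => ⟨Yf v hv.1, by
    show u (f v) + x (f v) + f v = 0
    rw [← cus, ← cfx, ← map_add, ← map_add, ((hKm v).1 hv).2, map_zero]⟩
  have d1 : 4 ∣ finrank (ZMod 2) Kp :=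
    four_dvd_of_five (dvd_two_pow_sub_one (by norm_num) hf Kp Kf fun v hv => Yfix v hv.1)
  have d2 : 4 ∣ finrank (ZMod 2) Km :=
    four_dvd_of_five (dvd_two_pow_sub_one (by norm_num) hf Km Kf' fun v hv => Yfix v hv.1)
  have sg : ∀ v, s (g v) = g (s v) := fun v => by
    simp only [hs, map_add, cgf, f5]
    abel
  have Yg : ∀ v ∈ Y, g v ∈ Y := fun v hv => ⟨hUg v hv.1, by
    show s (g v) = 0
    rw [sg, ((hY v).1 hv).2, map_zero]⟩
  have ug : ∀ v ∈ Y, g (u v) = u (g v) + g v := fun v hv => by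
    have h0 := ((hY _).1 (Yg v hv)).2
    rw [hs] at h0
    simp only [hu, map_add, cgf, f5]
    rw [← sub_eq_zero, sub_eq_add', ← h0]
    abel
  let g1 : Kp →ₗ[ZMod 2] Km := g.restrict fun v hv => ⟨Yg v hv.1, by
    show u (g v) + x (g v) + g v = 0
    have := congrArg g ((hKp v).1 hv).2
    rw [map_add, ug v hv.1, cgx, map_zero] at this
    rw [← this]; abel⟩
  let g2 : Km →ₗ[ZMod 2] Kp := g.restrict fun v hv => ⟨Yg v hv.1, by
    show u (g v) + x (g v) = 0
    have := congrArg g ((hKm v).1 hv).2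
    rw [map_add, map_add, ug v hv.1, cgx, map_zero] at this
    rw [← this]
    calc u (g v) + x (g v) = u (g v) + x (g v) + (g v + g v) := by rw [add_self', add_zero]
      _ = u (g v) + g v + x (g v) + g v := by abel⟩
  have hg_inj : ∀ v w : V, g v = g w → v = w := fun v w e =>
    sub_eq_zero.1 (hgi _ (by rw [map_sub, e, sub_self]))
  have l1 : finrank (ZMod 2) Kp ≤ finrank (ZMod 2) Km :=
    LinearMap.finrank_le_finrank_of_injective (f := g1) fun v w e =>
      Subtype.ext (hg_inj _ _ (congrArg Subtype.val e))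
  have l2 : finrank (ZMod 2) Km ≤ finrank (ZMod 2) Kp :=
    LinearMap.finrank_le_finrank_of_injective (f := g2) fun v w e =>
      Subtype.ext (hg_inj _ _ (congrArg Subtype.val e))
  -- a vector of the complement of the fixed space
  have hw : v0 + f v0 ∈ Y := ⟨add_mem hv0 (hUf v0 hv0), by
    show s (v0 + f v0) = 0
    have e : s (f v0) = s v0 := by
      simp only [hs, f5]
      abel
    rw [map_add, e, add_self']⟩
  have hw0 : v0 + f v0 ≠ 0 := fun e => hne (by
    rw [← sub_eq_zero, sub_eq_add', add_comm]; exact e)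
  have hxY : ∀ v ∈ Y, x v ∈ Y := fun v hv => ⟨hUx v hv.1, by
    show s (x v) = 0
    have e : s (x v) = x (s v) := by simp [hs, map_add, cfx]
    rw [e, ((hY v).1 hv).2, map_zero]⟩
  have huY : ∀ v ∈ Y, u v ∈ Y := fun v hv => by
    rw [hu]; exact add_mem (Yf v hv) (Yf _ (Yf _ (Yf _ (Yf v hv))))
  have hpos : 0 < finrank (ZMod 2) Kp ∨ 0 < finrank (ZMod 2) Km := by
    obtain ⟨w, hwdef⟩ : ∃ w, w = v0 + f v0 := ⟨_, rfl⟩
    rw [← hwdef] at hw hw0
    by_cases h1 : u w + x w = 0
    · exact Or.inl (Submodule.one_le_finrank_iff.2 fun hb => hw0 <|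
        (Submodule.mem_bot (R := ZMod 2)).1 (hb ▸ (show w ∈ Kp from ⟨hw, h1⟩)))
    · refine Or.inr (Submodule.one_le_finrank_iff.2 fun hb => h1 <|
        (Submodule.mem_bot (R := ZMod 2)).1 (hb ▸ (show u w + x w ∈ Km from
          ⟨add_mem (huY w hw) (hxY w hw), ?_⟩)))
      show u (u w + x w) + x (u w + x w) + (u w + x w) = 0
      rw [map_add, map_add, hsq w hw, cxu, hx2]
      calc (u w + w + x (u w)) + (x (u w) + (x w + w)) + (u w + x w) =
          ((u w + u w) + (w + w)) + ((x (u w) + x (u w)) + (x w + x w)) := by abel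
        _ = 0 := by simp [add_self']
  have hdisj : Kp ⊓ Km = ⊥ := by
    rw [eq_bot_iff]
    rintro v ⟨h1, h2⟩
    have e1 := ((hKp v).1 h1).2
    have e2 := ((hKm v).1 h2).2
    rw [e1, zero_add] at e2
    exact (Submodule.mem_bot _).2 e2
  have hsup : 8 ≤ finrank (ZMod 2) ↥(Kp ⊔ Km) := by
    have := Submodule.finrank_sup_add_finrank_inf_eq Kp Km
    rw [hdisj, finrank_bot] at this
    rcases hpos with h | h <;> omega
  obtain ⟨v, hv, hfv, hv0'⟩ :=
    hK (Kp ⊔ Km) (sup_le (fun v hv => hv.1.1) fun v hv => hv.1.1) hsup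
  exact hv0' (Yfix v ((sup_le inf_le_left inf_le_left : Kp ⊔ Km ≤ Y) hv) hfv)

/-- A 2-group of linear maps fixes a non-zero vector of every invariant non-zero subspace. -/
theorem exists_fixed {K : Type*} [Group K] [Finite K] (hK : IsPGroup 2 K)
    (ρ : K →* Module.End (ZMod 2) V) (U : Submodule (ZMod 2) V) (hU : ∀ k, ∀ v ∈ U, ρ k v ∈ U)
    (hne : U ≠ ⊥) : ∃ v ∈ U, v ≠ 0 ∧ ∀ k, ρ k v = v := by
  let : MulAction K U :=
    { smul := fun k v => ⟨ρ k v.1, hU k v.1 v.2⟩
      one_smul := fun v => Subtype.ext (by show ρ 1 v.1 = v.1; rw [map_one]; rfl)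
      mul_smul := fun k l v => Subtype.ext (by
        show ρ (k * l) v.1 = ρ k (ρ l v.1); rw [map_mul]; rfl) }
  have hdvd : 2 ∣ Nat.card U := by
    rw [card_submodule]
    exact dvd_pow_self 2 (Nat.pos_iff_ne_zero.1 (Submodule.one_le_finrank_iff.2 hne))
  have h0 : (0 : U) ∈ MulAction.fixedPoints K U := fun k => Subtype.ext (map_zero (ρ k))
  obtain ⟨v, hv, hne'⟩ := hK.exists_fixed_point_of_prime_dvd_card_of_fixed_point U hdvd h0
  exact ⟨v.1, v.2, fun e => hne' (Subtype.ext e.symm), fun k => congrArg Subtype.val (hv k)⟩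

end CfsgLib.JFourEleven
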