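import Cfsg.Agent.JFourEleven.Basic
import Cfsg.Agent.JFourEleven.Linear

/-!
# The extraspecial group modulo its centre as a symplectic module
-/

set_option autoImplicit false

namespace CfsgLib.JFourEleven

open Module

/-- The space of dimension twelve over the field with two elements. -/
abbrev Vec : Type := Fin 12 → ZMod 2

namespace Cent

variable {H : Type*} [Group H] (C : Cent H)

/-- Coordinates on the extraspecial group modulo its centre, with the action and the form. -/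
structure Coord where
  /-- The coordinates, meaningful on the extraspecial group. -/
  ψ : H → Vec
  /-- The action. -/
  ρ : H →* Module.End (ZMod 2) Vec
  /-- The commutator form. -/
  B : LinearMap.BilinForm (ZMod 2) Vec
  mul : ∀ e ∈ C.E, ∀ f ∈ C.E, ψ (e * f) = ψ e + ψ f
  eq_zero : ∀ e ∈ C.E, (ψ e = 0 ↔ e = 1 ∨ e = C.z)
  surj : ∀ v, ∃ e ∈ C.E, ψ e = v
  ρ_ψ : ∀ h, ∀ e ∈ C.E, ρ h (ψ e) = ψ (h * e * h⁻¹)
  B_ψ : ∀ e ∈ C.E, ∀ f ∈ C.E, (B (ψ e) (ψ f) = 0 ↔ e * f = f * e)

theorem zmod_two_cases (a : ZMod 2) : a = 0 ∨ a = 1 := by revert a; decide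

variable [Finite H]

theorem nonempty_coord : Nonempty C.Coord := by
  classical
  let K : Subgroup C.E := (Subgroup.zpowers C.z).subgroupOf C.E
  have hK : ∀ e : C.E, e ∈ K ↔ (e : H) = 1 ∨ (e : H) = C.z := fun e => by
    rw [Subgroup.mem_subgroupOf]
    constructor
    · intro he
      obtain ⟨n, hn⟩ := Subgroup.mem_zpowers_iff.1 he
      rw [← hn, ← zpow_mod_orderOf, C.two]
      rcases Int.emod_two_eq_zero_or_one n with h | h <;> simp [h]
    · rintro (h | h) <;> rw [h]
      exacts [one_mem _, Subgroup.mem_zpowers _]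
  haveI : K.Normal := ⟨fun e he g => by
    rw [hK] at he ⊢
    rcases he with h | h
    · exact Or.inl (by simp [h])
    · refine Or.inr ?_
      show (g : H) * e * (g : H)⁻¹ = C.z
      rw [h, C.central, mul_inv_cancel_right]⟩
  letI : CommGroup (C.E ⧸ K) :=
    { (inferInstance : Group (C.E ⧸ K)) with
      mul_comm := fun a b => by
        induction a using QuotientGroup.induction_on with | _ a => ?_
        induction b using QuotientGroup.induction_on with | _ b => ?_
        rw [← QuotientGroup.mk_mul, ← QuotientGroup.mk_mul, QuotientGroup.eq, hK]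
        show ((a : H) * b)⁻¹ * (b * a) = 1 ∨ _
        rcases C.comm a a.2 b b.2 with h | h
        · exact Or.inl (by rw [h, inv_mul_cancel])
        · refine Or.inr ?_
          simp only [Subgroup.coe_mul, InvMemClass.coe_inv]
          rw [h, show (C.z * ((b : H) * a))⁻¹ * ((b : H) * a) =
            ((b : H) * a)⁻¹ * C.z⁻¹ * ((b : H) * a) by group, C.z_inv, mul_assoc, ← C.central,
            ← mul_assoc, inv_mul_cancel, one_mul] }
  letI : Module (ZMod 2) (Additive (C.E ⧸ K)) := AddCommGroup.zmodModule fun a => by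
    rw [two_nsmul]
    refine Additive.toMul.injective ?_
    show Additive.toMul a * Additive.toMul a = 1
    induction (Additive.toMul a) using QuotientGroup.induction_on with
    | _ e =>
      rw [← QuotientGroup.mk_mul, QuotientGroup.eq_one_iff, hK]
      exact C.sq e e.2
  haveI : Finite (Additive (C.E ⧸ K)) := Finite.of_equiv (C.E ⧸ K) Additive.ofMul
  have hrank : finrank (ZMod 2) (Additive (C.E ⧸ K)) = 12 := by
    have h := Module.natCard_eq_pow_finrank (K := ZMod 2) (V := Additive (C.E ⧸ K))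
    have hcK : Nat.card K = 2 := by
      rw [Nat.card_congr (Subgroup.subgroupOfEquivOfLe (Subgroup.zpowers_le.2 C.z_mem)).toEquiv,
        Nat.card_zpowers, C.two]
    have hcQ : Nat.card (C.E ⧸ K) = 2 ^ 12 := by
      have := Subgroup.card_eq_card_quotient_mul_card_subgroup K
      rw [C.cardE, hcK] at this
      omega
    rw [Nat.card_zmod, Nat.card_congr Additive.toMul, hcQ] at h
    exact (Nat.pow_right_injective le_rfl h).symm
  let φ := (Module.finBasisOfFinrankEq (ZMod 2) (Additive (C.E ⧸ K)) hrank).equivFun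
  let ψ : H → Vec := fun h =>
    if he : h ∈ C.E then φ (Additive.ofMul (QuotientGroup.mk (⟨h, he⟩ : C.E))) else 0
  have hψ : ∀ e (he : e ∈ C.E), ψ e = φ (Additive.ofMul (QuotientGroup.mk (⟨e, he⟩ : C.E))) :=
    fun e he => dif_pos he
  have mul : ∀ e ∈ C.E, ∀ f ∈ C.E, ψ (e * f) = ψ e + ψ f := fun e he f hf => by
    rw [hψ e he, hψ f hf, hψ _ (mul_mem he hf), ← map_add]
    rfl
  have eq_zero : ∀ e ∈ C.E, (ψ e = 0 ↔ e = 1 ∨ e = C.z) := fun e he => by
    rw [hψ e he, map_eq_zero_iff φ φ.injective, ← ofMul_one, Additive.ofMul.injective.eq_iff,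
      QuotientGroup.eq_one_iff, hK]
  have surj : ∀ v, ∃ e ∈ C.E, ψ e = v := fun v => by
    obtain ⟨⟨e, he⟩, h⟩ := QuotientGroup.mk_surjective (Additive.toMul (φ.symm v))
    refine ⟨e, he, ?_⟩
    rw [hψ e he, h, ofMul_toMul, LinearEquiv.apply_symm_apply]
  choose sec hsec hsec' using surj
  have eqv : ∀ e ∈ C.E, ∀ f ∈ C.E, ψ e = ψ f → f = e ∨ f = C.z * e := by
    intro e he f hf h
    have h0 : ψ (f * e) = 0 := by rw [mul f hf e he, h, add_self']
    rcases (eq_zero _ (mul_mem hf he)).1 h0 with e1 | e1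
    all_goals rcases C.sq e he with e2 | e2
    · exact Or.inl (mul_right_cancel (e1.trans e2.symm))
    · refine Or.inr (mul_right_cancel (b := e) ?_)
      rw [e1, mul_assoc, e2, C.z_sq]
    · refine Or.inr (mul_right_cancel (b := e) ?_)
      rw [e1, mul_assoc, e2, mul_one]
    · exact Or.inl (mul_right_cancel (e1.trans e2.symm))
  have wd : ∀ h : H, ∀ e ∈ C.E, ∀ f ∈ C.E, ψ e = ψ f →
      ψ (h * e * h⁻¹) = ψ (h * f * h⁻¹) := by
    intro h e he f hf hef
    rcases eqv e he f hf hef with rfl | rfl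
    · rfl
    · rw [← mul_assoc, C.central, mul_assoc C.z, mul_assoc C.z,
        mul _ C.z_mem _ (C.normal h e he), (eq_zero _ C.z_mem).2 (Or.inr rfl), zero_add]
  let act : H → Module.End (ZMod 2) Vec := fun h =>
    (AddMonoidHom.mk' (fun v => ψ (h * sec v * h⁻¹)) fun v w => by
      rw [← mul _ (C.normal h _ (hsec v)) _ (C.normal h _ (hsec w)),
        show h * sec v * h⁻¹ * (h * sec w * h⁻¹) = h * (sec v * sec w) * h⁻¹ by group]
      exact wd h _ (hsec _) _ (mul_mem (hsec v) (hsec w))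
        (by rw [hsec', mul _ (hsec v) _ (hsec w), hsec', hsec'])).toZModLinearMap 2
  have act_ψ : ∀ h, ∀ e ∈ C.E, act h (ψ e) = ψ (h * e * h⁻¹) := fun h e he =>
    wd h _ (hsec _) e he (hsec' _)
  let ρ : H →* Module.End (ZMod 2) Vec :=
    { toFun := act
      map_one' := LinearMap.ext fun v => by
        rw [← hsec' v, act_ψ _ _ (hsec v)]; simp
      map_mul' := fun g h => LinearMap.ext fun v => by
        rw [← hsec' v, Module.End.mul_apply, act_ψ _ _ (hsec v), act_ψ _ _ (hsec v),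
          act_ψ _ _ (C.normal h _ (hsec v))]
        congr 1
        group }
  let bf : H → H → ZMod 2 := fun e f => if e * f = f * e then 0 else 1
  have bf_add : ∀ e ∈ C.E, ∀ f ∈ C.E, ∀ g ∈ C.E, bf (e * f) g = bf e g + bf f g := by
    intro e he f hf g hg
    have hz : ∀ a b : H, a * b = C.z * (b * a) → a * b ≠ b * a := fun a b h h' => C.z_ne (by
      rwa [h', right_eq_mul] at h)
    have hzc : ∀ a : H, a * C.z = C.z * a := C.central
    rcases C.comm e he g hg with h1 | h1 <;> rcases C.comm f hf g hg with h2 | h2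
    · have h3 : e * f * g = g * (e * f) := by rw [mul_assoc, h2, ← mul_assoc, h1, mul_assoc]
      simp [bf, h1, h2, h3]
    · have h3 : e * f * g = C.z * (g * (e * f)) := by
        rw [mul_assoc, h2, ← mul_assoc e, hzc, mul_assoc C.z, ← mul_assoc e, h1, mul_assoc]
      simp [bf, h1, if_neg (hz _ _ h2), if_neg (hz _ _ h3)]
    · have h3 : e * f * g = C.z * (g * (e * f)) := by
        rw [mul_assoc, h2, ← mul_assoc, h1, mul_assoc, mul_assoc]
      simp [bf, h2, if_neg (hz _ _ h1), if_neg (hz _ _ h3)]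
    · have h3 : e * f * g = g * (e * f) := by
        rw [mul_assoc, h2, ← mul_assoc e, hzc, mul_assoc C.z, ← mul_assoc e, h1, mul_assoc,
          ← mul_assoc C.z, C.z_sq, one_mul, mul_assoc]
      simp [bf, h3, if_neg (hz _ _ h1), if_neg (hz _ _ h2)]
      rfl
  have bf_comm : ∀ e f, bf e f = bf f e := fun e f => if_congr eq_comm rfl rfl
  have bf_wd : ∀ e ∈ C.E, ∀ f ∈ C.E, ∀ g ∈ C.E, ψ e = ψ f → bf e g = bf f g := by
    intro e he f hf g hg h
    rcases eqv e he f hf h with rfl | rfl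
    · rfl
    · rw [bf_add _ C.z_mem e he g hg]
      simp [bf, C.central g]
  have cadd : ∀ u v, ∀ g ∈ C.E, bf (sec (u + v)) g = bf (sec u) g + bf (sec v) g :=
    fun u v g hg => by
      rw [← bf_add _ (hsec u) _ (hsec v) g hg]
      exact bf_wd _ (hsec _) _ (mul_mem (hsec u) (hsec v)) g hg
        (by rw [hsec', mul _ (hsec u) _ (hsec v), hsec', hsec'])
  let B : LinearMap.BilinForm (ZMod 2) Vec :=
    (AddMonoidHom.mk' (fun v =>
      (AddMonoidHom.mk' (fun w => bf (sec v) (sec w)) fun u w => by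
        simp only [bf_comm (sec v)]
        exact cadd u w _ (hsec v)).toZModLinearMap 2)
      fun u v => LinearMap.ext fun w => cadd u v _ (hsec w)).toZModLinearMap 2
  refine ⟨⟨ψ, ρ, B, mul, eq_zero, fun v => ⟨sec v, hsec v, hsec' v⟩, act_ψ, fun e he f hf => ?_⟩⟩
  show bf (sec (ψ e)) (sec (ψ f)) = 0 ↔ _
  rw [bf_wd _ (hsec _) e he _ (hsec _) (hsec' _), bf_comm,
    bf_wd _ (hsec _) f hf _ he (hsec' _), bf_comm]
  show (if _ then (0 : ZMod 2) else 1) = 0 ↔ _
  split_ifs with h <;> simp [h]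

namespace Coord

variable {C} (D : C.Coord)

omit [Finite H] in
theorem zero_z : D.ψ C.z = 0 := (D.eq_zero _ C.z_mem).2 (Or.inr rfl)

omit [Finite H] in
theorem ψ_one : D.ψ 1 = 0 := (D.eq_zero _ (one_mem _)).2 (Or.inl rfl)

omit [Finite H] in
theorem eq_of_ψ {e f : H} (he : e ∈ C.E) (hf : f ∈ C.E) (h : D.ψ e = D.ψ f) :
    f = e ∨ f = C.z * e := by
  have h0 : D.ψ (f * e⁻¹) = 0 := by
    have h1 := D.mul _ (mul_mem hf (inv_mem he)) e he
    rw [inv_mul_cancel_right, h] at h1
    exact left_eq_add.1 (h1.trans (add_comm _ _))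
  rcases (D.eq_zero _ (mul_mem hf (inv_mem he))).1 h0 with e1 | e1
  · exact Or.inl (mul_inv_eq_one.1 e1)
  · exact Or.inr (mul_inv_eq_iff_eq_mul.1 e1)

omit [Finite H] in
theorem ρ_E {e : H} (he : e ∈ C.E) : D.ρ e = 1 := LinearMap.ext fun v => by
  obtain ⟨f, hf, rfl⟩ := D.surj v
  rw [D.ρ_ψ e f hf, Module.End.one_apply]
  rcases C.comm e he f hf with h | h
  · rw [h, mul_inv_cancel_right]
  · rw [h, mul_assoc C.z, mul_inv_cancel_right, D.mul _ C.z_mem f hf, D.zero_z, zero_add]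

omit [Finite H] in
theorem ρ_apply_apply (g h : H) (v : Vec) : D.ρ g (D.ρ h v) = D.ρ (g * h) v := by
  rw [map_mul, Module.End.mul_apply]

omit [Finite H] in
theorem ρ_inv (h : H) (v : Vec) : D.ρ h⁻¹ (D.ρ h v) = v := by
  rw [D.ρ_apply_apply, inv_mul_cancel, map_one, Module.End.one_apply]

omit [Finite H] in
theorem ρ_injective (h : H) {v : Vec} (e : D.ρ h v = 0) : v = 0 := by
  rw [← D.ρ_inv h v, e, map_zero]

omit [Finite H] in
theorem B_symm (u v : Vec) : D.B u v = D.B v u := by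
  obtain ⟨e, he, rfl⟩ := D.surj u
  obtain ⟨f, hf, rfl⟩ := D.surj v
  rcases zmod_two_cases (D.B (D.ψ e) (D.ψ f)) with h | h <;>
    rcases zmod_two_cases (D.B (D.ψ f) (D.ψ e)) with h' | h' <;> rw [h, h']
  · exact absurd ((D.B_ψ f hf e he).2 ((D.B_ψ e he f hf).1 h).symm) (by rw [h']; decide)
  · exact absurd ((D.B_ψ e he f hf).2 ((D.B_ψ f hf e he).1 h').symm) (by rw [h]; decide)

omit [Finite H] in
theorem B_refl : D.B.IsRefl := fun u v h => (D.B_symm v u).trans h

omit [Finite H] in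
theorem B_ρ (h : H) (u v : Vec) : D.B (D.ρ h u) (D.ρ h v) = D.B u v := by
  obtain ⟨e, he, rfl⟩ := D.surj u
  obtain ⟨f, hf, rfl⟩ := D.surj v
  rw [D.ρ_ψ h e he, D.ρ_ψ h f hf]
  have key : D.B (D.ψ (h * e * h⁻¹)) (D.ψ (h * f * h⁻¹)) = 0 ↔ D.B (D.ψ e) (D.ψ f) = 0 := by
    rw [D.B_ψ _ (C.normal h e he) _ (C.normal h f hf), D.B_ψ e he f hf,
      show h * e * h⁻¹ * (h * f * h⁻¹) = h * (e * f) * h⁻¹ by group,
      show h * f * h⁻¹ * (h * e * h⁻¹) = h * (f * e) * h⁻¹ by group, mul_left_inj, mul_right_inj]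
  rcases zmod_two_cases (D.B (D.ψ e) (D.ψ f)) with h0 | h0
  · rw [h0, key.2 h0]
  · rw [h0]
    exact (zmod_two_cases _).resolve_left fun h1 => by rw [key.1 h1] at h0; exact zero_ne_one h0

theorem B_nondeg : D.B.Nondegenerate := by
  refine D.B_refl.nondegenerate_iff_separatingLeft.2 fun v hv => ?_
  obtain ⟨e, he, rfl⟩ := D.surj v
  rw [D.eq_zero e he]
  exact C.centE e fun f hf => (D.B_ψ e he f hf).1 (hv _)

theorem x_fixed {v : Vec} (h : D.ρ C.x v = v) : v = 0 := by
  obtain ⟨e, he, rfl⟩ := D.surj v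
  rw [D.ρ_ψ _ e he] at h
  rw [D.eq_zero e he]
  refine C.fixP e he fun y hy => ?_
  have hcx : C.x * e = e * C.x := by
    rcases D.eq_of_ψ he (C.normal _ e he) h.symm with e1 | e1
    · exact mul_inv_eq_iff_eq_mul.1 e1
    · exfalso
      have hz : C.x * C.z * C.x⁻¹ = C.z := by rw [C.central, mul_inv_cancel_right]
      have e2 : C.x * C.x * e * (C.x * C.x)⁻¹ = e := by
        rw [show C.x * C.x * e * (C.x * C.x)⁻¹ = C.x * (C.x * e * C.x⁻¹) * C.x⁻¹ by group, e1,
          show C.x * (C.z * e) * C.x⁻¹ = (C.x * C.z * C.x⁻¹) * (C.x * e * C.x⁻¹) by group, hz, e1,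
          ← mul_assoc, C.z_sq, one_mul]
      have e3 : C.x * C.x * C.x = 1 := by rw [← C.pow_three C.x_mem]; simp [pow_succ, mul_assoc]
      have e4 : C.x * (C.x * C.x * e * (C.x * C.x)⁻¹) * C.x⁻¹ = e := by
        rw [show C.x * (C.x * C.x * e * (C.x * C.x)⁻¹) * C.x⁻¹ =
          (C.x * C.x * C.x) * e * (C.x * C.x * C.x)⁻¹ by group, e3]
        group
      rw [e2, e1] at e4
      exact C.z_ne (mul_eq_right.1 e4)
  rcases C.mem_P hy with rfl | rfl | rfl
  · simp
  · exact hcx
  · exact (Commute.mul_left hcx hcx : Commute (C.x * C.x) e).eq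

theorem x_sum (v : Vec) : v + D.ρ C.x v + D.ρ C.x (D.ρ C.x v) = 0 := by
  refine D.x_fixed ?_
  have h3 : D.ρ C.x (D.ρ C.x (D.ρ C.x v)) = v := by
    rw [D.ρ_apply_apply, D.ρ_apply_apply,
      show C.x * C.x * C.x = C.x ^ 3 by simp [pow_succ, mul_assoc], C.pow_three C.x_mem, map_one,
      Module.End.one_apply]
  rw [map_add, map_add, h3]
  abel

/-- The kernel of the action is the extraspecial group. -/
theorem mem_E_of_ρ {h : H} (hh : D.ρ h = 1) : h ∈ C.E := by
  classical
  let fn : H → ZMod 2 := fun e => if h * e * h⁻¹ = e then 0 else 1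
  have hval : ∀ e ∈ C.E, h * e * h⁻¹ = e ∨ h * e * h⁻¹ = C.z * e := fun e he =>
    D.eq_of_ψ he (C.normal h e he) (by rw [← D.ρ_ψ h e he, hh, Module.End.one_apply])
  have hne : ∀ e : H, C.z * e ≠ e := fun e h1 => C.z_ne (mul_eq_right.1 h1)
  have fadd : ∀ e ∈ C.E, ∀ f ∈ C.E, fn (e * f) = fn e + fn f := by
    intro e he f hf
    have h2 : h * (e * f) * h⁻¹ = h * e * h⁻¹ * (h * f * h⁻¹) := by group
    rcases hval e he with h1 | h1 <;> rcases hval f hf with h3 | h3
    · simp [fn, h2, h1, h3]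
    · have : e * (C.z * f) = C.z * (e * f) := by rw [← mul_assoc, C.central, mul_assoc]
      simp [fn, h2, h1, h3, this, hne]
    · have : C.z * e * f = C.z * (e * f) := mul_assoc _ _ _
      simp [fn, h2, h1, h3, this, hne]
    · have : C.z * e * (C.z * f) = e * f := by
        rw [mul_assoc, ← mul_assoc e, C.central e, mul_assoc C.z e, ← mul_assoc, C.z_sq, one_mul]
      simp [fn, h2, h1, h3, this, hne]
      rfl
  choose sec hsec hsec' using D.surj
  have wd : ∀ e ∈ C.E, ∀ f ∈ C.E, D.ψ e = D.ψ f → fn e = fn f := fun e he f hf hef => by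
    rcases D.eq_of_ψ he hf hef with rfl | rfl
    · rfl
    · rw [fadd _ C.z_mem e he]
      simp [fn, C.central h]
  let fl : Vec →ₗ[ZMod 2] ZMod 2 := (AddMonoidHom.mk' (fun v => fn (sec v)) fun u v => by
    rw [← fadd _ (hsec u) _ (hsec v)]
    exact wd _ (hsec _) _ (mul_mem (hsec u) (hsec v))
      (by rw [hsec', D.mul _ (hsec u) _ (hsec v), hsec', hsec'])).toZModLinearMap 2
  have hflψ : ∀ e ∈ C.E, fl (D.ψ e) = fn e := fun e he => wd _ (hsec _) e he (hsec' _)
  let u := (D.B.toDual D.B_nondeg).symm fl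
  have hu : ∀ v, D.B u v = fl v := fun v =>
    LinearMap.BilinForm.apply_toDual_symm_apply _ _
  obtain ⟨e0, he0, he0'⟩ := D.surj u
  have hc : ∀ e ∈ C.E, e0⁻¹ * h * e = e * (e0⁻¹ * h) := by
    intro e he
    have h1 := hu (D.ψ e)
    rw [← he0', hflψ e he] at h1
    have e1 : h * e * h⁻¹ = e0 * e * e0⁻¹ := by
      rcases hval e he with h2 | h2
      · have h0 : D.B (D.ψ e0) (D.ψ e) = 0 := by rw [h1]; simp [fn, h2]
        rw [h2, (D.B_ψ e0 he0 e he).1 h0, mul_inv_cancel_right]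
      · rcases C.comm e0 he0 e he with h3 | h3
        · have h0 : D.B (D.ψ e0) (D.ψ e) = 0 := (D.B_ψ e0 he0 e he).2 h3
          rw [h1] at h0
          simp [fn, h2, hne] at h0
        · rw [h2, h3, mul_assoc C.z, mul_inv_cancel_right]
    calc e0⁻¹ * h * e = e0⁻¹ * (h * e * h⁻¹) * h := by group
      _ = e0⁻¹ * (e0 * e * e0⁻¹) * h := by rw [e1]
      _ = e * (e0⁻¹ * h) := by group
  rcases C.centE _ hc with e1 | e1
  · rw [← inv_mul_eq_one.1 e1]; exact he0
  · rw [← mul_inv_cancel_left e0 h, e1]; exact mul_mem he0 C.z_mem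

omit [Finite H] in
theorem orth_mem {U : Submodule (ZMod 2) Vec} {v : Vec} :
    v ∈ D.B.orthogonal U ↔ ∀ u ∈ U, D.B u v = 0 := Iff.rfl

omit [Finite H] in
theorem orth_invariant {U : Submodule (ZMod 2) Vec} {h : H}
    (hU : ∀ v ∈ U, D.ρ h⁻¹ v ∈ U) : ∀ v ∈ D.B.orthogonal U, D.ρ h v ∈ D.B.orthogonal U := by
  intro v hv
  rw [D.orth_mem] at hv ⊢
  intro u hu
  have := hv _ (hU u hu)
  rwa [← D.B_ρ h, D.ρ_apply_apply, mul_inv_cancel, map_one, Module.End.one_apply] at this

theorem finrank_orth (U : Submodule (ZMod 2) Vec) :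
    finrank (ZMod 2) (D.B.orthogonal U) = 12 - finrank (ZMod 2) U := by
  rw [LinearMap.BilinForm.finrank_orthogonal D.B_nondeg U, finrank_fin_fun]

end Coord

end Cent

end CfsgLib.JFourEleven
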