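import Cfsg.Agent.JFourEleven.Eleven

/-!
# The normaliser of the elementary abelian subgroup of order `2 ^ 11` in the centraliser
-/

set_option autoImplicit false
set_option linter.unusedSectionVars false

namespace CfsgLib.JFourEleven

open Cfsg CfsgLib.JFourType Module

namespace Cent

namespace Coord

variable {H : Type*} [Group H] {C : Cent H} [Finite H] (D : C.Coord)
include D

theorem range_le_W {c : H} (hc : C.Two hexadGroup c) (v : Vec) : D.ρ c v + v ∈ D.W := by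
  rw [← D.orth_W, D.orth_mem]
  intro u hu
  have hu' : D.ρ c u = u := D.mem_fixB.1 hu c hc
  have h1 : D.B u (D.ρ c v) = D.B u v := by
    conv_lhs => rw [← hu']
    exact D.B_ρ c u v
  rw [map_add, h1]
  exact add_self' (V := ZMod 2) _

/-- The elements of the extraspecial group over a set of vectors. -/
theorem card_over_set (U : Set Vec) :
    Nat.card {e : H // e ∈ C.E ∧ D.ψ e ∈ U} = 2 * Nat.card U := by
  classical
  choose sec hsec hsec' using D.surj
  let f : Fin 2 × U → {e : H // e ∈ C.E ∧ D.ψ e ∈ U} := fun p =>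
    ⟨(if p.1 = 0 then 1 else C.z) * sec p.2.1, mul_mem (by
      split_ifs
      exacts [one_mem _, C.z_mem]) (hsec _), by
      split_ifs
      · rw [one_mul, hsec']; exact p.2.2
      · rw [D.mul _ C.z_mem _ (hsec _), D.zero_z, zero_add, hsec']; exact p.2.2⟩
  have hψ : ∀ i v, D.ψ ((if i = (0 : Fin 2) then 1 else C.z) * sec v) = v := fun i v => by
    split_ifs
    · rw [one_mul, hsec']
    · rw [D.mul _ C.z_mem _ (hsec v), D.zero_z, zero_add, hsec']
  have hf : Function.Bijective f := by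
    constructor
    · rintro ⟨i, v⟩ ⟨j, w⟩ h
      have h' := congrArg Subtype.val h
      have e : v = w := by
        have h2 := congrArg D.ψ h'
        simp only [f, hψ] at h2
        exact Subtype.ext h2
      subst e
      have h3 : (if i = (0 : Fin 2) then (1 : H) else C.z) = if j = 0 then 1 else C.z :=
        mul_right_cancel h'
      fin_cases i <;> fin_cases j <;> simp [C.z_ne, C.z_ne.symm] at h3 <;> rfl
    · rintro ⟨e, he, hW⟩
      rcases D.eq_of_ψ (hsec (D.ψ e)) he (hsec' _) with h | h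
      · exact ⟨⟨0, _, hW⟩, Subtype.ext (by simp [f, ← h])⟩
      · exact ⟨⟨1, _, hW⟩, Subtype.ext (by simp [f, ← h])⟩
  rw [← Nat.card_eq_of_bijective f hf, Nat.card_prod, Nat.card_fin]

theorem card_over (U : Submodule (ZMod 2) Vec) :
    Nat.card {e : H // e ∈ C.E ∧ D.ψ e ∈ U} = 2 * 2 ^ finrank (ZMod 2) U := by
  rw [← card_submodule]
  exact D.card_over_set U

theorem conj_R_E {e : H} (he : e ∈ C.E) {r : H} (hr : r ∈ D.R) : e * r * e⁻¹ ∈ D.R := by
  obtain ⟨w, hw, c, hc, rfl⟩ := hr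
  have h1 : e * w * e⁻¹ ∈ D.Wt := by
    rcases C.comm e he w hw.1 with h | h
    · rw [h, mul_inv_cancel_right]; exact hw
    · rw [h, mul_assoc C.z, mul_inv_cancel_right]; exact mul_mem D.z_mem_Wt hw
  set k := e * (c * e⁻¹ * c⁻¹) with hk
  have hkW : k ∈ D.Wt := by
    refine ⟨mul_mem he (C.normal c _ (inv_mem he)), ?_⟩
    have hi : D.ψ e⁻¹ = D.ψ e := by
      have h := D.mul e⁻¹ (inv_mem he) e he
      rw [inv_mul_cancel, D.ψ_one] at h
      rw [eq_neg_of_add_eq_zero_left h.symm]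
      exact neg_eq_of_add_eq_zero_right (add_self' _)
    rw [hk, D.mul e he _ (C.normal c _ (inv_mem he)), ← D.ρ_ψ c _ (inv_mem he), hi, add_comm]
    exact D.range_le_W hc _
  refine ⟨e * w * e⁻¹ * k, mul_mem h1 hkW, c, hc, ?_⟩
  rw [hk]
  group

theorem conj_Wt {n : H} (hn : n ∈ Subgroup.normalizer (C.P : Set H))
    (hσ : ∀ m ∈ hexadGroup, C.pr n⁻¹ m ∈ hexadGroup) {w : H} (hw : w ∈ D.Wt) :
    n * w * n⁻¹ ∈ D.Wt :=
  ⟨C.normal n w hw.1, by rw [← D.ρ_ψ n w hw.1]; exact D.fixB_map hn hσ hw.2⟩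

theorem inner_R : C.inner D.R = hexadGroup := by
  ext m
  constructor
  · intro hm
    obtain ⟨_, ⟨w, hw, c, ⟨m', hm', hl, -⟩, rfl⟩, e⟩ := D.mem_inner.1 hm
    rw [map_mul, MonoidHom.mem_ker.1 (C.E_le hw.1), one_mul, hl.2] at e
    exact conj_injective e ▸ hm'
  · intro hm
    obtain ⟨c, hc, hl⟩ := C.exists_two hm (hexad_sq hm)
    exact D.mem_inner.2 ⟨c, ⟨1, one_mem _, c, hc, (one_mul c).symm⟩, hl.2⟩

theorem pr_mem_of_normalizer {h : H} (hh : h ∈ Subgroup.normalizer (D.R : Set H)) {m : M22g}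
    (hm : m ∈ hexadGroup) : C.pr h m ∈ hexadGroup := by
  rw [← D.inner_R] at hm ⊢
  obtain ⟨r, hr, e⟩ := D.mem_inner.1 hm
  refine D.mem_inner.2 ⟨_, (Subgroup.mem_normalizer_iff.1 hh r).1 hr, ?_⟩
  rw [map_mul, map_mul, map_inv, e]
  refine MulEquiv.ext fun y => ?_
  simp

theorem mem_normalizer_R {h : H} :
    h ∈ Subgroup.normalizer (D.R : Set H) ↔ ∀ m ∈ hexadGroup, C.pr h m ∈ hexadGroup := by
  refine ⟨fun hh m hm => D.pr_mem_of_normalizer hh hm, fun hh => ?_⟩
  obtain ⟨e, he, n, hn, rfl⟩ := C.decomp h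
  have hpr : C.pr (e * n) = C.pr n := by rw [map_mul, MonoidHom.mem_ker.1 (C.E_le he), one_mul]
  rw [hpr] at hh
  have hinv : ∀ m ∈ hexadGroup, C.pr n⁻¹ m ∈ hexadGroup := by
    have heq : hexadGroup.map (C.pr n).toMonoidHom = hexadGroup := by
      refine Subgroup.eq_of_le_of_card_ge ?_
        (Subgroup.card_map_of_injective (C.pr n).injective).ge
      rintro _ ⟨m, hm, rfl⟩
      exact hh m hm
    intro m hm
    rw [← heq] at hm
    obtain ⟨a, ha, rfl⟩ := hm
    simpa using ha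
  refine Subgroup.mem_normalizer_fintype ?_
  rintro r ⟨w, hw, c, hc, rfl⟩
  have h1 : n * (w * c) * n⁻¹ ∈ D.R := ⟨n * w * n⁻¹, D.conj_Wt hn hinv hw, n * c * n⁻¹,
    C.conj_two hn hh hc, by group⟩
  have h2 := D.conj_R_E he h1
  rw [SetLike.mem_coe, show e * n * (w * c) * (e * n)⁻¹ = e * (n * (w * c) * n⁻¹) * e⁻¹ by group]
  exact h2

theorem lift_normalizer_R {c : H} {d : M22g} (hc : C.Lift c d)
    (hd : d ∈ Subgroup.normalizer (hexadGroup : Set M22g)) :
    c ∈ Subgroup.normalizer (D.R : Set H) := D.mem_normalizer_R.2 fun m hm => by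
  rw [hc.2, MulAut.conj_apply]
  exact (Subgroup.mem_normalizer_iff.1 hd m).1 hm

/-- The automorphisms preserving the hexad subgroup. -/
def hexStab : Subgroup (MulAut M22g) := (Subgroup.normalizer (D.R : Set H)).map C.pr

theorem mem_hexStab {σ : MulAut M22g} : σ ∈ D.hexStab ↔ ∀ m ∈ hexadGroup, σ m ∈ hexadGroup := by
  constructor
  · rintro ⟨h, hh, rfl⟩
    exact D.mem_normalizer_R.1 hh
  · intro hσ
    obtain ⟨h, rfl⟩ := C.surj σ
    exact ⟨h, D.mem_normalizer_R.2 hσ, rfl⟩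

theorem exists_outer_stab : ∃ σ ∈ D.hexStab, σ ∉ Inn M22g := by
  obtain ⟨τ, hτ⟩ : ∃ τ : MulAut M22g, τ ∉ Inn M22g := by
    by_contra! hcon
    have h := index_inn
    rw [show Inn M22g = ⊤ from eq_top_iff.2 fun τ _ => hcon τ, Subgroup.index_top] at h
    norm_num at h
  obtain ⟨c, hc⟩ := isHexad_map τ
  refine ⟨MulAut.conj c⁻¹ * τ, D.mem_hexStab.2 fun m hm => ?_, fun h => hτ ?_⟩
  · have : τ m ∈ hexadGroup.map (MulAut.conj c).toMonoidHom := hc.symm ▸ ⟨m, hm, rfl⟩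
    obtain ⟨a, ha, e⟩ := this
    rw [MulAut.mul_apply, ← e]
    simpa [mul_assoc] using ha
  · have e : τ = MulAut.conj c * (MulAut.conj c⁻¹ * τ) := by
      rw [map_inv, mul_inv_cancel_left]
    rw [e]
    exact mul_mem ⟨c, rfl⟩ h

theorem card_hexStab : Nat.card D.hexStab = 2 * 5760 := by
  have h1 : D.hexStab ⊓ Inn M22g =
      (Subgroup.normalizer (hexadGroup : Set M22g)).map MulAut.conj := by
    ext σ
    constructor
    · rintro ⟨hσ, d, rfl⟩
      refine ⟨d, Subgroup.mem_normalizer_fintype fun m hm => ?_, rfl⟩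
      exact D.mem_hexStab.1 hσ m hm
    · rintro ⟨d, hd, rfl⟩
      exact ⟨D.mem_hexStab.2 fun m hm => (Subgroup.mem_normalizer_iff.1 hd m).1 hm, d, rfl⟩
  obtain ⟨σ, hσ, ho⟩ := D.exists_outer_stab
  have hidx : ((Inn M22g).subgroupOf D.hexStab).index = 2 := by
    rw [Subgroup.index_eq_two_iff]
    refine ⟨⟨σ, hσ⟩, fun τ => ?_⟩
    simp only [Subgroup.mem_subgroupOf, Subgroup.coe_mul,
      Subgroup.mul_mem_iff_of_index_two index_inn, iff_false_right ho]
    tauto
  have h2 := Subgroup.index_mul_card ((Inn M22g).subgroupOf D.hexStab)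
  rw [hidx, ← Subgroup.inf_subgroupOf_right, inf_comm, h1,
    Nat.card_congr (Subgroup.subgroupOfEquivOfLe (h1 ▸ inf_le_left)).toEquiv,
    Subgroup.card_map_of_injective conj_injective, card_normalizer_hexad] at h2
  exact h2.symm

theorem card_normalizer_R : Nat.card (Subgroup.normalizer (D.R : Set H)) = 2 ^ 13 * 34560 := by
  set N := Subgroup.normalizer (D.R : Set H) with hN
  let f : N →* MulAut M22g := C.pr.comp N.subtype
  have hr : f.range = D.hexStab := by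
    rw [MonoidHom.range_eq_map, ← Subgroup.map_map, ← MonoidHom.range_eq_map,
      Subgroup.range_subtype]
    rfl
  have hle : C.pr.ker ≤ N := fun h hh => D.mem_normalizer_R.2 fun m hm => by
    rw [MonoidHom.mem_ker.1 hh]; exact hm
  rw [Subgroup.card_eq_card_quotient_mul_card_subgroup f.ker,
    Nat.card_congr (QuotientGroup.quotientKerEquivRange f).toEquiv, hr, D.card_hexStab,
    show f.ker = C.pr.ker.subgroupOf N from rfl,
    Nat.card_congr (Subgroup.subgroupOfEquivOfLe hle).toEquiv, C.cardKer]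
  norm_num

theorem swap {a : H} (ha : a ∈ C.E) (h1 : a ≠ 1) (hz : a ≠ C.z) :
    ∃ e ∈ C.E, e * a * e⁻¹ = a * C.z := by
  by_contra! hcon
  have hc : ∀ e ∈ C.E, a * e = e * a := fun e he => by
    rcases C.comm e he a ha with h | h
    · exact h.symm
    · exact absurd (by rw [h, mul_assoc C.z, mul_inv_cancel_right, C.central]) (hcon e he)
  rcases C.centE a hc with h | h
  exacts [h1 h, hz h]

theorem sixteen {a : H} (ha : a ∈ D.R) (hE : a ∉ C.E) :
    16 ∣ ((Subgroup.centralizer ({a} : Set H)).subgroupOf C.E).index := by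
  obtain ⟨w, hw, c, hc, rfl⟩ := ha
  obtain ⟨m, hm, hl, hz⟩ := hc
  have hm1 : m ≠ 1 := fun e => hE (mul_mem hw.1 (by
    subst e
    obtain ⟨y, hy, e⟩ := C.ker_CP (Lift.mem_ker C hl) hl.1
    rcases C.two_unique (c₁ := 1) ⟨one_mem _, by rw [map_one, map_one]⟩ hl
      (Or.inl (one_mul 1)) hz with e' | e'
    · rw [e']; exact one_mem _
    · rw [e', one_mul]; exact C.z_mem))
  have : Fact (Nat.Prime 2) := ⟨Nat.prime_two⟩
  have h8 := D.fixed_two_le (orderOf_eq_prime (by rw [pow_two, hexad_sq hm]) hm1) hl hz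
  set K := (Subgroup.centralizer ({w * c} : Set H)).subgroupOf C.E with hK
  let f : K → {e : H // e ∈ C.E ∧ D.ψ e ∈ fixed (D.ρ c)} := fun e => ⟨e.1.1, e.1.2, mem_fixed.2 (by
    have hcomm : (e.1.1 : H) * (w * c) = w * c * e.1.1 :=
      Subgroup.mem_centralizer_singleton_iff.1 e.2
    have h : D.ρ (w * c) (D.ψ e.1.1) = D.ψ e.1.1 := by
      rw [D.ρ_ψ _ _ e.1.2, ← hcomm, mul_inv_cancel_right]
    rwa [map_mul, D.ρ_E hw.1, one_mul] at h)⟩
  have hle : Nat.card K ≤ 2 * 2 ^ 8 := by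
    refine (Nat.card_le_card_of_injective f fun x y h => Subtype.ext (Subtype.ext
      (congrArg (fun z : {e : H // e ∈ C.E ∧ D.ψ e ∈ fixed (D.ρ c)} => z.1) h))).trans ?_
    rw [D.card_over]
    exact Nat.mul_le_mul_left 2 (Nat.pow_le_pow_right two_pos h8)
  have hmul := K.index_mul_card
  rw [C.cardE] at hmul
  obtain ⟨k, -, hk⟩ := (Nat.dvd_prime_pow Nat.prime_two).1 (Dvd.intro _ hmul : K.index ∣ 2 ^ 13)
  have hk4 : 4 ≤ k := by
    by_contra hlt
    have : K.index * Nat.card K ≤ 8 * (2 * 2 ^ 8) := Nat.mul_le_mul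
      (hk ▸ (Nat.pow_le_pow_right two_pos (by omega : k ≤ 3)).trans (by norm_num)) hle
    omega
  rw [hk]
  exact (show 16 = 2 ^ 4 by norm_num) ▸ pow_dvd_pow 2 hk4

theorem free_mod_E {g : M22g} (hfree : ∀ x ∈ hexadGroup, g * x = x * g → x = 1) {cg : H}
    (hl : C.Lift cg g) {a : H} (ha : a ∈ D.R) (he : cg * a * cg⁻¹ * a⁻¹ ∈ C.E) : a ∈ C.E := by
  obtain ⟨w, hw, c, ⟨m, hm, hc, hz⟩, rfl⟩ := ha
  have h := MonoidHom.mem_ker.1 (C.E_le he)
  rw [map_mul, map_mul, map_mul, map_inv, map_inv, map_mul,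
    MonoidHom.mem_ker.1 (C.E_le hw.1), one_mul, hl.2, hc.2, ← map_inv, ← map_inv, ← map_mul,
    ← map_mul, ← map_mul, ← map_one MulAut.conj] at h
  have hm1 := hfree m hm (mul_inv_eq_iff_eq_mul.1 (mul_inv_eq_one.1 (conj_injective h)))
  subst hm1
  refine mul_mem hw.1 ?_
  rcases C.two_unique (c₁ := 1) ⟨one_mem _, by rw [map_one, map_one]⟩ hc
    (Or.inl (one_mul 1)) hz with e' | e'
  · rw [e']; exact one_mem _
  · rw [e', one_mul]; exact C.z_mem

theorem exists_five : ∃ g ∈ Subgroup.normalizer (D.R : Set H),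
    g ^ 5 = 1 ∧ ∀ a ∈ D.R, g * a * g⁻¹ * a⁻¹ ∈ C.E → a ∈ C.E := by
  obtain ⟨-, -, f, -, -, hf, -, -, -, -, -, -, -, hf5, -, hfree, -, -, -⟩ := exists_hexad_norm
  obtain ⟨c, hc⟩ := C.exists_lift f
  have h5 : f ^ 5 = 1 := by rw [← hf5, pow_orderOf_eq_one]
  have hl : C.Lift (c ^ 6) f := by
    have := Lift.pow C hc 6
    rwa [show f ^ 6 = f by rw [pow_succ, h5, one_mul]] at this
  refine ⟨c ^ 6, D.lift_normalizer_R hl hf, ?_, fun a ha => D.free_mod_E hfree hl ha⟩
  have h := Lift.pow C hc 5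
  rw [h5] at h
  rw [← pow_mul, show 6 * 5 = 5 * 6 by norm_num, pow_mul]
  exact (C.mem_center_part (Lift.mem_ker C h) h.1).2

theorem exists_three' : ∃ g ∈ Subgroup.normalizer (D.R : Set H),
    g ^ 3 = 1 ∧ ∀ a ∈ D.R, g * a * g⁻¹ * a⁻¹ ∈ C.E → a ∈ C.E := by
  obtain ⟨a, -, -, ha, -, -, a3, -, -, a1, -, -, -, -, hfree, -, -, -, -⟩ := exists_hexad_norm
  have : Fact (Nat.Prime 3) := ⟨Nat.prime_three⟩
  obtain ⟨c, hl, c3⟩ := C.exists_three (orderOf_eq_prime a3 a1)
  exact ⟨c, D.lift_normalizer_R hl ha, c3, fun a ha => D.free_mod_E hfree hl ha⟩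

end Coord

end Cent

end CfsgLib.JFourEleven
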