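import Cfsg.Agent.JFourEleven.OuterFacts
import Cfsg.Agent.JFourEleven.Normal

/-!
# A complement of the elementary abelian subgroup inside the extraspecial group

For a hexad subgroup disjoint from the standard one the commutators of its fixed group with `P`
form an elementary abelian subgroup of order 64 meeting `R` trivially.
-/

set_option autoImplicit false
set_option linter.unusedSectionVars false

namespace CfsgLib.JFourEleven

open Cfsg CfsgLib.JFourType Module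

/-- A map into itself of a finite subgroup by an automorphism is onto. -/
theorem inv_mem_of_mem {M : Type*} [Group M] [Finite M] {B : Subgroup M} {σ : MulAut M}
    (h : ∀ x ∈ B, σ x ∈ B) {x : M} (hx : x ∈ B) : σ⁻¹ x ∈ B := by
  have heq : B.map σ.toMonoidHom = B :=
    Subgroup.eq_of_le_of_card_ge (by rintro _ ⟨y, hy, rfl⟩; exact h y hy)
      (Subgroup.card_map_of_injective σ.injective).ge
  rw [← heq] at hx
  obtain ⟨y, hy, rfl⟩ := hx
  simpa using hy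

namespace Cent

namespace Coord

variable {H : Type*} [Group H] [Finite H] {C : Cent H} (D : C.Coord) (O : Outer)
include D

theorem fixB_stab {n : H} (hn : n ∈ Subgroup.normalizer (C.P : Set H)) {B : Subgroup M22g}
    (h : ∀ m ∈ B, C.pr n m ∈ B) {v : Vec} (hv : v ∈ D.fixB B) : D.ρ n v ∈ D.fixB B :=
  D.fixB_map hn (fun m hm => by rw [map_inv]; exact inv_mem_of_mem h hm) hv

/-- The two fixed spaces meet trivially. -/
theorem inf_fixB_conj : D.W ⊓ D.fixB (hexadConj O.c0) = ⊥ := by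
  set U := D.W ⊓ D.fixB (hexadConj O.c0) with hU
  obtain ⟨a, b, cb, ⟨ra, rb⟩, -, ha, hb, oa, lb, hrel⟩ := C.exists_triple_rep
  obtain ⟨ca, la, ca3⟩ := C.exists_three oa
  have h3 : (D.ρ ca) ^ 3 = 1 := by rw [← map_pow, ca3, map_one]
  have hinv : ∀ (c : H) (d : M22g), C.Lift c d →
      d ∈ Subgroup.normalizer (hexadGroup : Set M22g) →
      d ∈ Subgroup.normalizer (hexadConj O.c0 : Set M22g) → ∀ v ∈ U, D.ρ c v ∈ U :=
    fun c d hc h1 h2 v hv => ⟨D.W_lift hc h1 hv.1, D.fixB_lift hc h2 hv.2⟩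
  have hxU : ∀ v ∈ U, D.ρ C.x v ∈ U := fun v hv => ⟨D.fixB_x hv.1, D.fixB_x hv.2⟩
  have h := D.triple_dim la lb (hrel ca la) h3 U (hinv ca a la ha (O.tri a (Or.inl ra))) hxU
    (hinv cb b lb hb (O.tri b (Or.inr rb)))
  have hev : 2 ∣ finrank (ZMod 2) ↥(U ⊓ fixed (D.ρ ca)) := by
    refine two_dvd_of_three (dvd_two_pow_sub_one Nat.prime_three (t := D.ρ C.x) ?_ _ ?_
      fun v _ hv => D.x_fixed hv)
    · rw [← map_pow, C.pow_three C.x_mem, map_one]
    · intro v hv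
      refine ⟨hxU v hv.1, mem_fixed.2 ?_⟩
      rw [D.ρ_apply_apply, ← C.P_comm_CP C.x_mem la.1 |>.symm, ← D.ρ_apply_apply,
        mem_fixed.1 hv.2]
  have hle : finrank (ZMod 2) U ≤ 6 := D.finrank_W ▸ Submodule.finrank_mono inf_le_left
  by_contra hne
  have hpos : finrank (ZMod 2) U ≠ 0 := fun e => hne (Submodule.finrank_eq_zero.1 e)
  have h6 : finrank (ZMod 2) U = 6 := by omega
  have hWU : D.W ≤ U :=
    (Submodule.eq_of_le_of_finrank_le inf_le_left (by rw [h6, D.finrank_W])).ge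
  obtain ⟨x, hx, y, hy, o3⟩ := O.six
  obtain ⟨y0, hy0, rfl⟩ := hy
  obtain ⟨cx, hcx, lx⟩ := C.exists_two hx (hexad_sq hx)
  have hy2 : MulAut.conj O.c0 y0 * MulAut.conj O.c0 y0 = 1 := by
    rw [← map_mul, hexad_sq hy0, map_one]
  obtain ⟨cy, hcy, ly⟩ := C.exists_two (B := hexadConj O.c0) ⟨y0, hy0, rfl⟩ hy2
  set g := (cx * cy) ^ 2 with hg
  have lg : C.Lift g ((x * MulAut.conj O.c0 y0) ^ 2) := Lift.pow C (Lift.mul C lx ly) 2
  have hfix : D.W ≤ fixed (D.ρ g) := fun v hv => mem_fixed.2 (by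
    have hv' : v ∈ D.W ⊓ D.fixB (hexadConj O.c0) := hWU hv
    have h2 : D.ρ (cx * cy) v = v := by
      rw [map_mul, Module.End.mul_apply, D.mem_fixB.1 hv'.2 cy hcy, D.mem_fixB.1 hv cx hcx]
    rw [hg, pow_two, map_mul, Module.End.mul_apply, h2, h2])
  obtain ⟨v, hv, hv0⟩ := Submodule.exists_mem_ne_zero_of_ne_bot D.W_ne_bot
  have hz3 := D.isZ_of_fix lg hv0 (mem_fixed.1 (hfix hv)) (n := 3) (by
    rw [← o3]; exact pow_orderOf_eq_one _)
  have g3 : (D.ρ g) ^ 3 = 1 := by rw [← map_pow, D.ρ_isZ hz3]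
  have := Submodule.finrank_mono hfix
  rw [D.finrank_W, D.fixed_three o3 lg g3] at this
  omega

/-- The commutators of `P` with the fixed group of a disjoint hexad subgroup. -/
theorem exists_core : ∃ U : Subgroup H, U ≤ C.E ∧ (∀ u ∈ U, u * u = 1) ∧ Nat.card U = 64 ∧
    U ⊓ D.R = ⊥ ∧ ∀ n ∈ Subgroup.normalizer (C.P : Set H),
      (∀ m ∈ hexadConj O.c0, C.pr n m ∈ hexadConj O.c0) → ∀ u ∈ U, n * u * n⁻¹ ∈ U := by
  obtain ⟨c, hc⟩ := C.exists_lift O.c0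
  let Wt' : Subgroup H := D.Wt.map (MulAut.conj c).toMonoidHom
  set W' := D.fixB (hexadConj O.c0) with hW'
  have hto : ∀ v ∈ D.W, D.ρ c v ∈ W' := fun v hv =>
    D.fixB_map (C.lift_normalizer hc) (fun m hm => by
      obtain ⟨y, hy, rfl⟩ := hm
      rw [map_inv, hc.2]
      simpa [mul_assoc] using hy) hv
  have hback : ∀ v ∈ W', D.ρ c⁻¹ v ∈ D.W := fun v hv =>
    D.fixB_map (inv_mem (C.lift_normalizer hc)) (fun m hm => by
      rw [inv_inv, hc.2]
      exact ⟨m, hm, rfl⟩) hv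
  have memW : ∀ e : H, e ∈ Wt' ↔ e ∈ C.E ∧ D.ψ e ∈ W' := by
    intro e
    constructor
    · rintro ⟨w, hw, rfl⟩
      refine ⟨C.normal c w hw.1, ?_⟩
      show D.ψ (c * w * c⁻¹) ∈ W'
      rw [← D.ρ_ψ c w hw.1]
      exact hto _ hw.2
    · rintro ⟨he, hv⟩
      refine ⟨c⁻¹ * e * c, ⟨by simpa using C.normal c⁻¹ e he, ?_⟩, by simp [mul_assoc]⟩
      have := hback _ hv
      rwa [D.ρ_ψ c⁻¹ e he, inv_inv] at this
  have hcard : Nat.card Wt' = 128 := by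
    rw [Subgroup.card_map_of_injective (MulAut.conj c).injective, D.card_Wt]
  have hcomm : ∀ u ∈ Wt', ∀ w ∈ Wt', u * w = w * u := by
    rintro _ ⟨u, hu, rfl⟩ _ ⟨w, hw, rfl⟩
    show MulAut.conj c u * MulAut.conj c w = MulAut.conj c w * MulAut.conj c u
    rw [← map_mul, ← map_mul, D.Wt_comm hu hw]
  have hsq : ∀ u ∈ Wt', u * u = 1 := by
    rintro _ ⟨u, hu, rfl⟩
    show MulAut.conj c u * MulAut.conj c u = 1
    rw [← map_mul, D.Wt_sq hu, map_one]
  have hnorm : ∀ n ∈ Subgroup.normalizer (C.P : Set H),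
      (∀ m ∈ hexadConj O.c0, C.pr n m ∈ hexadConj O.c0) → ∀ w ∈ Wt', n * w * n⁻¹ ∈ Wt' := by
    intro n hn hst w hw
    obtain ⟨he, hv⟩ := (memW w).1 hw
    exact (memW _).2 ⟨C.normal n w he, by rw [← D.ρ_ψ n w he]; exact D.fixB_stab hn hst hv⟩
  have hx : ∀ w ∈ Wt', C.x * w * C.x⁻¹ ∈ Wt' :=
    hnorm C.x (Subgroup.le_normalizer C.x_mem) fun m hm => by
      rw [MonoidHom.mem_ker.1 (C.P_le C.x_mem)]; exact hm
  let f : Wt' →* H :=
    { toFun := fun w => C.x * w.1 * C.x⁻¹ * w.1⁻¹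
      map_one' := by simp
      map_mul' := fun u w => by
        have e2 := hcomm _ (hx w.1 w.2) _ (inv_mem u.2)
        show C.x * (u.1 * w.1) * C.x⁻¹ * (u.1 * w.1)⁻¹ = _
        rw [hcomm u u.2 w w.2, show C.x * (w.1 * u.1) * C.x⁻¹ * (w.1 * u.1)⁻¹ =
          (C.x * w.1 * C.x⁻¹) * (C.x * u.1 * C.x⁻¹ * u.1⁻¹) * w.1⁻¹ by group,
          hcomm _ (hx w.1 w.2) _ (mul_mem (hx u.1 u.2) (inv_mem u.2))]
        group }
  have hfW : ∀ w : Wt', f w ∈ Wt' := fun w => mul_mem (hx _ w.2) (inv_mem w.2)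
  have hker : ∀ w : Wt', w ∈ f.ker ↔ C.IsZ w.1 := fun w => by
    rw [MonoidHom.mem_ker]
    show C.x * w.1 * C.x⁻¹ * w.1⁻¹ = 1 ↔ _
    rw [mul_inv_eq_one, mul_inv_eq_iff_eq_mul]
    refine ⟨fun h => ?_, fun h => IsZ.comm C h C.x⟩
    refine (C.fixP _ ((memW _).1 w.2).1 fun y hy => ?_)
    rcases C.mem_P hy with rfl | rfl | rfl
    · simp
    · exact h
    · exact (Commute.mul_left h h : Commute (C.x * C.x) w.1).eq
  have hzW : C.z ∈ Wt' := (memW _).2 ⟨C.z_mem, by rw [D.zero_z]; exact zero_mem _⟩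
  have hkc : Nat.card f.ker = 2 := by
    let g : Fin 2 → f.ker := fun i => if i = 0 then 1 else ⟨⟨C.z, hzW⟩, (hker _).2 (Or.inr rfl)⟩
    rw [← Nat.card_eq_of_bijective g, Nat.card_fin]
    constructor
    · intro i j h
      have h' := congrArg (fun k : f.ker => k.1.1) h
      fin_cases i <;> fin_cases j <;> simp [g, C.z_ne, C.z_ne.symm] at h' <;> rfl
    · rintro ⟨w, hw⟩
      rcases (hker w).1 hw with e | e
      · exact ⟨0, Subtype.ext (Subtype.ext (by simp [g, e]))⟩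
      · exact ⟨1, Subtype.ext (Subtype.ext (by simp [g, e]))⟩
  have hUc : Nat.card f.range = 64 := by
    have h := Subgroup.card_eq_card_quotient_mul_card_subgroup f.ker
    rw [hcard, hkc, Nat.card_congr (QuotientGroup.quotientKerEquivRange f).toEquiv] at h
    omega
  refine ⟨f.range, ?_, ?_, hUc, ?_, ?_⟩
  · rintro _ ⟨w, rfl⟩
    exact ((memW _).1 (hfW w)).1
  · rintro _ ⟨w, rfl⟩
    exact hsq _ (hfW w)
  · rw [Subgroup.eq_bot_iff_forall]
    rintro u ⟨⟨w, rfl⟩, hR⟩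
    obtain ⟨he, hv'⟩ := (memW _).1 (hfW w)
    have hv : D.ψ (f w) ∈ D.W := (D.mem_Wt_of_ker hR (C.E_le he)).2
    have h0 : D.ψ (f w) = 0 :=
      (Submodule.mem_bot (R := ZMod 2)).1 (D.inf_fixB_conj O ▸ ⟨hv, hv'⟩)
    rcases (D.eq_zero _ he).1 h0 with e | e
    · exact e
    · exfalso
      obtain ⟨hwE, -⟩ := (memW _).1 w.2
      have hr : D.ρ C.x (D.ψ w.1) = D.ψ w.1 := by
        have hfd : C.x * w.1 * C.x⁻¹ * w.1⁻¹ = C.z := e
        rw [D.ρ_ψ _ _ hwE, mul_inv_eq_iff_eq_mul.1 hfd, D.mul _ C.z_mem _ hwE, D.zero_z, zero_add]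
      have hwz : C.IsZ w.1 := (D.eq_zero _ hwE).1 (D.x_fixed hr)
      have h1 : f w = 1 := (hker w).2 hwz
      exact C.z_ne (e.symm.trans h1)
  · rintro n hn hst _ ⟨w, rfl⟩
    show n * (C.x * w.1 * C.x⁻¹ * w.1⁻¹) * n⁻¹ ∈ f.range
    rcases C.normalizer_conj_x hn with h | h
    · refine ⟨⟨_, hnorm n hn hst _ w.2⟩, ?_⟩
      show C.x * (n * w.1 * n⁻¹) * C.x⁻¹ * (n * w.1 * n⁻¹)⁻¹ = _
      have hxn : C.x * n = n * C.x := C.mem_CP_x.1 h
      rw [show C.x * (n * w.1 * n⁻¹) * C.x⁻¹ = (C.x * n) * w.1 * (C.x * n)⁻¹ by group, hxn]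
      group
    · set v := n * w.1 * n⁻¹ with hv
      have hvW : C.x⁻¹ * v * C.x ∈ Wt' := by
        have h2 := hx _ (hx _ (hnorm n hn hst _ w.2))
        have h3 : C.x * C.x = C.x⁻¹ := (inv_eq_of_mul_eq_one_right (by
          rw [← C.pow_three C.x_mem]; simp [pow_succ, mul_assoc])).symm
        rwa [show C.x * (C.x * v * C.x⁻¹) * C.x⁻¹ = (C.x * C.x) * v * (C.x * C.x)⁻¹ by group, h3,
          inv_inv] at h2
      have e : n * (C.x * w.1 * C.x⁻¹ * w.1⁻¹) * n⁻¹ = (f ⟨_, hvW⟩)⁻¹ := by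
        rw [show n * (C.x * w.1 * C.x⁻¹ * w.1⁻¹) * n⁻¹ =
          (n * C.x * n⁻¹) * v * (n * C.x * n⁻¹)⁻¹ * v⁻¹ by rw [hv]; group, h]
        show _ = (C.x * (C.x⁻¹ * v * C.x) * C.x⁻¹ * (C.x⁻¹ * v * C.x)⁻¹)⁻¹
        group
      rw [e]
      exact inv_mem ⟨_, rfl⟩

end Coord

end Cent

end CfsgLib.JFourEleven
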