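import Cfsg.Agent.JFourEleven.Normal

/-!
# Invariant sets of vectors in the fixed space of the hexad subgroup
-/

set_option autoImplicit false
set_option linter.unusedSectionVars false

namespace CfsgLib.JFourEleven

open Cfsg CfsgLib.JFourType Module

/-- An invariant set and the points fixed by a map of prime power one. -/
theorem card_modEq_fixed {α : Type*} [Finite α] {p : ℕ} (hp : p.Prime) (g : α → α) (S : Set α)
    (hS : ∀ v ∈ S, g v ∈ S) (hg : ∀ v ∈ S, g^[p] v = v) :
    Nat.card S % p = Nat.card {v | v ∈ S ∧ g v = v} % p := by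
  classical
  have : Fact p.Prime := ⟨hp⟩
  have : Fintype α := Fintype.ofFinite α
  have hpow : ∀ k, ∀ v ∈ S, g^[k] v ∈ S := by
    intro k
    induction k with
    | zero => exact fun v hv => hv
    | succ k ih => intro v hv; rw [Function.iterate_succ_apply]; exact ih _ (hS v hv)
  let σ : Equiv.Perm S :=
    { toFun := fun v => ⟨g v.1, hS v.1 v.2⟩
      invFun := fun v => ⟨g^[p - 1] v.1, hpow _ v.1 v.2⟩
      left_inv := fun v => Subtype.ext (by
        show g^[p - 1] (g v.1) = v.1
        rw [← Function.iterate_succ_apply, Nat.succ_eq_add_one, Nat.sub_add_cancel hp.one_lt.le,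
          hg v.1 v.2])
      right_inv := fun v => Subtype.ext (by
        show g (g^[p - 1] v.1) = v.1
        rw [← Function.iterate_succ_apply' g, Nat.succ_eq_add_one,
          Nat.sub_add_cancel hp.one_lt.le, hg v.1 v.2]) }
  have hk : ∀ (k : ℕ) (v : S), ((σ ^ k) v).1 = g^[k] v.1 := by
    intro k
    induction k with
    | zero => simp
    | succ k ih =>
      intro v
      rw [pow_succ', Equiv.Perm.mul_apply, Function.iterate_succ_apply', ← ih]
      rfl
  have hσ : σ ^ p ^ 1 = 1 := Equiv.ext fun v => Subtype.ext (by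
    rw [pow_one, hk, hg v.1 v.2]; rfl)
  have hmod := Equiv.Perm.card_compl_support_modEq hσ
  rw [← Nat.card_eq_fintype_card] at hmod
  have e : σ.supportᶜ.card = Nat.card {v | v ∈ S ∧ g v = v} := by
    rw [← Nat.card_eq_finsetCard]
    refine Nat.card_congr
      { toFun := fun v => ⟨v.1.1, v.1.2, ?_⟩
        invFun := fun v => ⟨⟨v.1, v.2.1⟩, ?_⟩
        left_inv := fun v => rfl
        right_inv := fun v => rfl }
    · have h := v.2
      simp only [Finset.mem_compl, Equiv.Perm.mem_support, not_not] at h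
      exact congrArg Subtype.val h
    · simp only [Finset.mem_compl, Equiv.Perm.mem_support, not_not]
      exact Subtype.ext v.2.2
  rw [e] at hmod
  exact hmod.symm

namespace Cent

namespace Coord

variable {H : Type*} [Group H] {C : Cent H} [Finite H] (D : C.Coord)
include D

theorem x_cube (v : Vec) : D.ρ C.x (D.ρ C.x (D.ρ C.x v)) = v := by
  rw [D.ρ_apply_apply, D.ρ_apply_apply,
    show C.x * C.x * C.x = C.x ^ 3 by simp [pow_succ, mul_assoc], C.pow_three C.x_mem, map_one,
    Module.End.one_apply]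

/-- The three scalar multiples of a vector. -/
noncomputable def line (v : Vec) : Finset Vec := {v, D.ρ C.x v, D.ρ C.x (D.ρ C.x v)}

theorem mem_line_self (v : Vec) : v ∈ D.line v := Finset.mem_insert_self _ _

theorem line_x (v : Vec) : D.line (D.ρ C.x v) = D.line v := by
  ext w
  simp only [line, D.x_cube, Finset.mem_insert, Finset.mem_singleton]
  tauto

theorem line_eq_of_mem {v w : Vec} (h : w ∈ D.line v) : D.line w = D.line v := by
  simp only [line, Finset.mem_insert, Finset.mem_singleton] at h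
  rcases h with rfl | rfl | rfl
  · rfl
  · exact D.line_x v
  · rw [D.line_x, D.line_x]

theorem card_line {v : Vec} (hv : v ≠ 0) : (D.line v).card = 3 := by
  have h1 : D.ρ C.x v ≠ v := fun h => hv (D.x_fixed h)
  have h3 : D.ρ C.x (D.ρ C.x v) ≠ D.ρ C.x v := fun h =>
    hv (D.ρ_injective C.x (D.x_fixed h))
  have h2 : D.ρ C.x (D.ρ C.x v) ≠ v := fun h => h1 (by
    have := D.x_cube v
    rwa [h] at this)
  rw [line, Finset.card_insert_of_notMem, Finset.card_insert_of_notMem, Finset.card_singleton]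
  · simpa using h3.symm
  · simp [h1.symm, h2.symm]

theorem line_map {c : H} (hc : c ∈ C.CP) (v : Vec) :
    (D.line v).image (D.ρ c) = D.line (D.ρ c v) := by
  have h : ∀ w, D.ρ c (D.ρ C.x w) = D.ρ C.x (D.ρ c w) := fun w => by
    rw [D.ρ_apply_apply, D.ρ_apply_apply, C.P_comm_CP C.x_mem hc]
  simp [line, Finset.image_insert, h]

/-- A set of non-zero vectors invariant under the normaliser of the hexad subgroup has order
divisible by nine. -/
theorem nine_dvd (S : Set Vec) (h0 : (0 : Vec) ∉ S)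
    (hS : ∀ (c : H) (d : M22g), C.Lift c d → d ∈ Subgroup.normalizer (hexadGroup : Set M22g) →
      ∀ v ∈ S, D.ρ c v ∈ S) : 9 ∣ Nat.card S := by
  classical
  obtain ⟨a, b, cb, cb3, ha, hb, oa, lb, hrel⟩ := C.exists_triple_three
  obtain ⟨ca, la, ca3⟩ := C.exists_three oa
  have hx : ∀ v ∈ S, D.ρ C.x v ∈ S := hS C.x 1
    ⟨C.x_CP, by rw [MonoidHom.mem_ker.1 (C.P_le C.x_mem), map_one]⟩ (one_mem _)
  let T : Set (Finset Vec) := D.line '' S
  have hcard : Nat.card S = 3 * Nat.card T := by
    haveI : Fintype S := Fintype.ofFinite S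
    have hTf : T = ↑(S.toFinset.image D.line) := by simp [T]
    rw [Nat.card_eq_card_toFinset S, hTf, Nat.card_coe_set_eq, Set.ncard_coe_finset,
      Finset.card_eq_sum_card_image D.line S.toFinset, Finset.sum_const_nat, mul_comm]
    intro L hL
    obtain ⟨v, hv, rfl⟩ := Finset.mem_image.1 hL
    rw [Set.mem_toFinset] at hv
    rw [← D.card_line (fun e : v = 0 => h0 (e ▸ hv))]
    congr 1
    ext w
    simp only [Finset.mem_filter, Set.mem_toFinset]
    refine ⟨fun h => h.2 ▸ D.mem_line_self w, fun h => ⟨?_, D.line_eq_of_mem h⟩⟩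
    simp only [line, Finset.mem_insert, Finset.mem_singleton] at h
    rcases h with rfl | rfl | rfl
    exacts [hv, hx _ hv, hx _ (hx _ hv)]
  have hT : ∀ {c : H} {d : M22g}, C.Lift c d →
      d ∈ Subgroup.normalizer (hexadGroup : Set M22g) → ∀ L ∈ T, L.image (D.ρ c) ∈ T := by
    rintro c d hc hd _ ⟨v, hv, rfl⟩
    exact ⟨D.ρ c v, hS c d hc hd v hv, (D.line_map hc.1 v).symm⟩
  have hthree : ∀ {c : H}, c ^ 3 = 1 → ∀ L : Finset Vec,
      (fun L : Finset Vec => L.image (D.ρ c))^[3] L = L := fun {c} c3 L => by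
    show ((L.image (D.ρ c)).image (D.ρ c)).image (D.ρ c) = L
    have : (⇑(D.ρ c) ∘ ⇑(D.ρ c) ∘ ⇑(D.ρ c)) = id := funext fun v => by
      show D.ρ c (D.ρ c (D.ρ c v)) = v
      rw [D.ρ_apply_apply, D.ρ_apply_apply,
        show c * c * c = c ^ 3 by simp [pow_succ, mul_assoc], c3, map_one, Module.End.one_apply]
    rw [Finset.image_image, Finset.image_image]
    exact (congrArg (fun f => L.image f) this).trans Finset.image_id
  let F : Set (Finset Vec) := {L | L ∈ T ∧ L.image (D.ρ ca) = L}
  have e1 := card_modEq_fixed Nat.prime_three (fun L : Finset Vec => L.image (D.ρ ca)) T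
    (hT la ha) fun L _ => hthree ca3 L
  have hcomm : ∀ v, D.ρ ca (D.ρ cb v) ∈ D.line (D.ρ cb (D.ρ ca v)) := by
    intro v
    have key : cb * ca = ca * C.x * cb ∨ cb * ca = ca * (C.x * C.x) * cb :=
      (hrel ca la).imp mul_inv_eq_iff_eq_mul.1 mul_inv_eq_iff_eq_mul.1
    have hxx : C.x * (C.x * C.x) = 1 := by
      rw [← C.pow_three C.x_mem]; simp [pow_succ, mul_assoc]
    simp only [line, Finset.mem_insert, Finset.mem_singleton, D.ρ_apply_apply]
    have hcx : ca * C.x = C.x * ca := C.P_comm_CP C.x_mem la.1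
    rcases key with e | e
    · refine Or.inr (Or.inr ?_)
      congr 2
      rw [e, hcx, show C.x * (C.x * (C.x * ca * cb)) = (C.x * (C.x * C.x)) * (ca * cb) by group,
        hxx, one_mul]
    · refine Or.inr (Or.inl ?_)
      congr 2
      rw [e, show ca * (C.x * C.x) = ca * C.x * C.x by group, hcx, mul_assoc C.x ca C.x, hcx,
        show C.x * (C.x * (C.x * ca) * cb) = (C.x * (C.x * C.x)) * (ca * cb) by group, hxx,
        one_mul]
  have hFb : ∀ L ∈ F, L.image (D.ρ cb) ∈ F := by
    rintro L ⟨hL, hfix⟩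
    refine ⟨hT lb hb L hL, ?_⟩
    obtain ⟨v, -, rfl⟩ := hL
    rw [D.line_map la.1] at hfix
    rw [D.line_map lb.1, D.line_map la.1, D.line_eq_of_mem (hcomm v), ← D.line_map lb.1, hfix,
      D.line_map lb.1]
  have e2 := card_modEq_fixed Nat.prime_three (fun L : Finset Vec => L.image (D.ρ cb)) F hFb
    fun L _ => hthree cb3 L
  have hnone : Nat.card {L | L ∈ F ∧ L.image (D.ρ cb) = L} = 0 := by
    rw [Nat.card_coe_set_eq, Set.ncard_eq_zero, Set.eq_empty_iff_forall_notMem]
    rintro L ⟨⟨⟨v, hv, rfl⟩, h1⟩, h2⟩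
    rw [D.line_map la.1] at h1
    rw [D.line_map lb.1] at h2
    let U : Submodule (ZMod 2) Vec := Submodule.span (ZMod 2) {v, D.ρ C.x v}
    have hxx : D.ρ C.x (D.ρ C.x v) ∈ U := by
      have h := D.x_sum v
      rw [← sub_eq_zero.1 ((sub_eq_add' (v + D.ρ C.x v) (D.ρ C.x (D.ρ C.x v))).trans h)]
      exact add_mem (Submodule.subset_span (Set.mem_insert _ _))
        (Submodule.subset_span (Set.mem_insert_of_mem _ rfl))
    have hline : ∀ w ∈ D.line v, w ∈ U := fun w hw => by
      simp only [line, Finset.mem_insert, Finset.mem_singleton] at hw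
      rcases hw with rfl | rfl | rfl
      exacts [Submodule.subset_span (Set.mem_insert _ _),
        Submodule.subset_span (Set.mem_insert_of_mem _ rfl), hxx]
    have hinv : ∀ c : H, c ∈ C.CP → D.line (D.ρ c v) = D.line v → ∀ w ∈ U, D.ρ c w ∈ U := by
      intro c hc hl w hw
      refine Submodule.span_induction ?_ (by simp) (fun _ _ _ _ h h' => by
        rw [map_add]; exact add_mem h h') (fun r _ _ h => by
        rw [map_smul]; exact Submodule.smul_mem _ r h) hw
      intro u hu
      refine hline _ (hl ▸ ?_)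
      rcases hu with rfl | rfl
      · exact D.mem_line_self _
      · rw [D.ρ_apply_apply, C.P_comm_CP C.x_mem hc, ← D.ρ_apply_apply]
        exact Finset.mem_insert_of_mem (Finset.mem_insert_self _ _)
    have hd := D.triple_dim la lb (hrel ca la) (by rw [← map_pow, ca3, map_one]) U (hinv ca la.1 h1)
      (hinv C.x C.x_CP (D.line_x v)) (hinv cb lb.1 h2)
    have hle : finrank (ZMod 2) U ≤ 2 :=
      (finrank_span_le_card _).trans (by
        rw [Set.toFinset_insert, Set.toFinset_singleton]; exact Finset.card_le_two)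
    have hbot : U = ⊥ := Submodule.finrank_eq_zero.1 (by omega)
    exact h0 ((Submodule.mem_bot (R := ZMod 2)).1 (hbot ▸ hline v (D.mem_line_self v)) ▸ hv)
  rw [hnone] at e2
  have e3 : Nat.card T % 3 = Nat.card F % 3 := e1
  omega

/-- The fixed space of an element of order five on the fixed space of the hexad subgroup. -/
theorem exists_five_fixed : ∃ (c : H) (d : M22g), C.Lift c d ∧
    d ∈ Subgroup.normalizer (hexadGroup : Set M22g) ∧ c ^ 5 = 1 ∧
    finrank (ZMod 2) ↥(D.W ⊓ fixed (D.ρ c)) = 2 := by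
  classical
  obtain ⟨-, -, f, -, -, hf, -, -, -, -, -, -, -, hf5, -, -, -, -, -⟩ := exists_hexad_norm
  obtain ⟨c', hc'⟩ := C.exists_lift f
  have h5 : f ^ 5 = 1 := by rw [← hf5, pow_orderOf_eq_one]
  have hl : C.Lift (c' ^ 6) f := by
    have := Lift.pow C hc' 6
    rwa [show f ^ 6 = f by rw [pow_succ, h5, one_mul]] at this
  have c5 : (c' ^ 6) ^ 5 = 1 := by
    have h := Lift.pow C hc' 5
    rw [h5] at h
    rw [← pow_mul, show 6 * 5 = 5 * 6 by norm_num, pow_mul]
    exact (C.mem_center_part (Lift.mem_ker C h) h.1).2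
  set c := c' ^ 6 with hc
  refine ⟨c, f, hl, hf, c5, ?_⟩
  have hit : ∀ (k : ℕ) (v : Vec), (⇑(D.ρ c))^[k] v = D.ρ (c ^ k) v := by
    intro k
    induction k with
    | zero => simp
    | succ k ih => intro v; rw [Function.iterate_succ_apply', ih, D.ρ_apply_apply, ← pow_succ']
  have hm := card_modEq_fixed (by norm_num : Nat.Prime 5) (D.ρ c) (D.W : Set Vec)
    (fun v hv => D.W_lift hl hf hv) fun v _ => by rw [hit, c5, map_one, Module.End.one_apply]
  have hset : {v | v ∈ (D.W : Set Vec) ∧ D.ρ c v = v} = ((D.W ⊓ fixed (D.ρ c) : Submodule _ _) :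
      Set Vec) := by
    ext v
    simp [mem_fixed]
  rw [hset, SetLike.coe_sort_coe, SetLike.coe_sort_coe, card_submodule, card_submodule,
    D.finrank_W] at hm
  have hle : finrank (ZMod 2) ↥(D.W ⊓ fixed (D.ρ c)) ≤ 6 :=
    D.finrank_W ▸ Submodule.finrank_mono inf_le_left
  by_contra hne
  have h6 : finrank (ZMod 2) ↥(D.W ⊓ fixed (D.ρ c)) = 6 := by
    generalize finrank (ZMod 2) ↥(D.W ⊓ fixed (D.ρ c)) = d at hm hle hne
    interval_cases d <;> omega
  have heq : D.W ⊓ fixed (D.ρ c) = D.W :=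
    Submodule.eq_of_le_of_finrank_le inf_le_left (by rw [h6, D.finrank_W])
  have hW : ∀ v ∈ D.W, D.ρ c v = v := fun v hv => mem_fixed.1 (heq.symm ▸ hv : _).2
  have hmove : ∀ v, D.ρ c v + v ∈ D.W := fun v => by
    rw [← D.orth_W, D.orth_mem]
    intro u hu
    have h1 : D.B u (D.ρ c v) = D.B u v := by
      conv_lhs => rw [← hW u hu]
      exact D.B_ρ c u v
    rw [map_add, h1]
    exact add_self' (V := ZMod 2) _
  have h2 : ∀ v, D.ρ (c * c) v = v := fun v => by
    have h := hW _ (hmove v)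
    rw [map_add, D.ρ_apply_apply, add_comm (D.ρ c v) v] at h
    exact add_right_cancel h
  have h1 : D.ρ c = 1 := LinearMap.ext fun v => by
    have h := h2 (D.ρ c v)
    have h' := h2 (D.ρ c (D.ρ (c * c) v))
    rw [h2 v] at h'
    have e : D.ρ (c ^ 5) v = v := by rw [c5, map_one, Module.End.one_apply]
    rw [show c ^ 5 = (c * c) * ((c * c) * c) by simp [pow_succ, mul_assoc], map_mul,
      Module.End.mul_apply, h2, map_mul, Module.End.mul_apply, h2] at e
    exact e
  have hpr := MonoidHom.mem_ker.1 (C.E_le (D.mem_E_of_ρ h1))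
  rw [hl.2, ← map_one MulAut.conj] at hpr
  have hf1 := conj_injective hpr
  rw [hf1, orderOf_one] at hf5
  norm_num at hf5

/-- The possible orders of an invariant set of non-zero vectors in the fixed space. -/
theorem card_cases (S : Set Vec) (hSW : ∀ v ∈ S, v ∈ D.W) (h0 : (0 : Vec) ∉ S)
    (hS : ∀ (c : H) (d : M22g), C.Lift c d → d ∈ Subgroup.normalizer (hexadGroup : Set M22g) →
      ∀ v ∈ S, D.ρ c v ∈ S) :
    Nat.card S = 0 ∨ Nat.card S = 18 ∨ Nat.card S = 45 ∨ Nat.card S = 63 := by
  classical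
  have h9 := D.nine_dvd S h0 hS
  have hx : ∀ v ∈ S, D.ρ C.x v ∈ S := hS C.x 1
    ⟨C.x_CP, by rw [MonoidHom.mem_ker.1 (C.P_le C.x_mem), map_one]⟩ (one_mem _)
  have h63 : Nat.card S ≤ 63 := by
    have hsub : insert (0 : Vec) S ⊆ (D.W : Set Vec) :=
      Set.insert_subset_iff.2 ⟨zero_mem _, hSW⟩
    have := Set.ncard_le_ncard hsub
    rw [Set.ncard_insert_of_notMem h0, ← Nat.card_coe_set_eq, ← Nat.card_coe_set_eq,
      SetLike.coe_sort_coe, card_submodule, D.finrank_W] at this
    omega
  obtain ⟨c, d, hl, hd, c5, h2⟩ := D.exists_five_fixed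
  have hit : ∀ (k : ℕ) (v : Vec), (⇑(D.ρ c))^[k] v = D.ρ (c ^ k) v := by
    intro k
    induction k with
    | zero => simp
    | succ k ih => intro v; rw [Function.iterate_succ_apply', ih, D.ρ_apply_apply, ← pow_succ']
  have hm := card_modEq_fixed (by norm_num : Nat.Prime 5) (D.ρ c) S (hS c d hl hd)
    fun v _ => by rw [hit, c5, map_one, Module.End.one_apply]
  have hfix : Nat.card {v | v ∈ S ∧ D.ρ c v = v} = 0 ∨
      Nat.card {v | v ∈ S ∧ D.ρ c v = v} = 3 := by
    rcases Set.eq_empty_or_nonempty {v | v ∈ S ∧ D.ρ c v = v} with he | ⟨v, hv, hcv⟩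
    · left; rw [he]; simp
    · right
      have hv0 : v ≠ 0 := fun e => h0 (e ▸ hv)
      have hsub : (↑(D.line v) : Set Vec) ⊆ {v | v ∈ S ∧ D.ρ c v = v} := by
        have hxfix : ∀ u, D.ρ c u = u → D.ρ c (D.ρ C.x u) = D.ρ C.x u := fun u hu => by
          rw [D.ρ_apply_apply, C.P_comm_CP C.x_mem hl.1, ← D.ρ_apply_apply, hu]
        intro w hw
        simp only [line, Finset.coe_insert, Finset.coe_singleton, Set.mem_insert_iff,
          Set.mem_singleton_iff] at hw
        rcases hw with rfl | rfl | rfl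
        exacts [⟨hv, hcv⟩, ⟨hx _ hv, hxfix _ hcv⟩,
          ⟨hx _ (hx _ hv), hxfix _ (hxfix _ hcv)⟩]
      have hge := Set.ncard_le_ncard hsub
      rw [Set.ncard_coe_finset, D.card_line hv0] at hge
      have hle : insert (0 : Vec) {v | v ∈ S ∧ D.ρ c v = v} ⊆
          ((D.W ⊓ fixed (D.ρ c) : Submodule _ _) : Set Vec) :=
        Set.insert_subset_iff.2 ⟨zero_mem _, fun w hw => ⟨hSW w hw.1, mem_fixed.2 hw.2⟩⟩
      have h4 := Set.ncard_le_ncard hle
      rw [Set.ncard_insert_of_notMem fun h => h0 h.1, ← Nat.card_coe_set_eq,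
        ← Nat.card_coe_set_eq, SetLike.coe_sort_coe, card_submodule, h2] at h4
      rw [← Nat.card_coe_set_eq] at hge
      omega
  omega

end Coord

end Cent

end CfsgLib.JFourEleven
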