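import Cfsg.Agent.LargeFischerJ.Count
import Cfsg.Agent.JFourEleven.ZCount

/-!
# The number of conjugates of the central involution in the elementary abelian group

`Pre` has the hypotheses of `LargeFischerJ.Layer` except the count of the conjugates in the
intersection, which is shown to be 91 from three possibilities.
-/

set_option autoImplicit false
set_option linter.style.haveILetI false
set_option linter.unusedSectionVars false

namespace CfsgLib.JFourEleven

open Cfsg CfsgLib.LargeFischerJ Matrix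
open scoped Pointwise

variable {G : Type*} [Group G] [Finite G]

/-- The hypotheses before counting. -/
structure Pre (z : G) (A R : Subgroup G) : Prop where
  elem : Cfsg.IsElementaryAbelian 2 A
  cardA : Nat.card A = 2048
  z_mem : z ∈ A
  z_ne : z ≠ 1
  cent : Subgroup.centralizer (A : Set G) ≤ A
  fusion : ∀ a ∈ A, ∀ g : G, g * a * g⁻¹ ∈ A →
    ∃ m ∈ Subgroup.normalizer (A : Set G), m * a * m⁻¹ = g * a * g⁻¹
  R_le : R ≤ Subgroup.normalizer (A : Set G) ⊓ Subgroup.centralizer ({z} : Set G)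
  R_normal : ∀ h ∈ Subgroup.normalizer (A : Set G) ⊓ Subgroup.centralizer ({z} : Set G),
    ∀ r ∈ R, h * r * h⁻¹ ∈ R
  z_R : z ∈ R
  cardR : Nat.card R = 8192
  cardN : Nat.card (Subgroup.normalizer (A : Set G) ⊓ Subgroup.centralizer ({z} : Set G) : Subgroup G) =
    2 ^ 13 * 34560
  cardAR : Nat.card (A ⊓ R : Subgroup G) = 128
  centR : R ⊓ Subgroup.centralizer ((A ⊓ R : Subgroup G) : Set G) ≤ A ⊓ R
  count : Nat.card {a : G // a ∈ A ⊓ R ∧ IsConj z a} = 37 ∨
    Nat.card {a : G // a ∈ A ⊓ R ∧ IsConj z a} = 91 ∨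
    Nat.card {a : G // a ∈ A ⊓ R ∧ IsConj z a} = 127
  swap : ∀ a ∈ A ⊓ R, a ≠ 1 → a ≠ z → ∃ r ∈ R, r * a * r⁻¹ = a * z
  sixteen : ∀ a ∈ A, a ∉ R → 16 ∣ ((Subgroup.centralizer ({a} : Set G)).subgroupOf R).index
  five : ∃ g ∈ Subgroup.normalizer (A : Set G) ⊓ Subgroup.centralizer ({z} : Set G),
    g ^ 5 = 1 ∧ ∀ a ∈ A, g * a * g⁻¹ * a⁻¹ ∈ R → a ∈ R
  five_inner : ∃ g ∈ Subgroup.normalizer (A : Set G) ⊓ Subgroup.centralizer ({z} : Set G),
    g ^ 5 = 1 ∧ ∃ a ∈ A ⊓ R, g * a * g⁻¹ ≠ a
  three : ∃ g ∈ Subgroup.normalizer (A : Set G) ⊓ Subgroup.centralizer ({z} : Set G),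
    g ^ 3 = 1 ∧ ∀ a ∈ A, g * a * g⁻¹ * a⁻¹ ∈ R → a ∈ R

/-- A group acting semiregularly has order dividing the number of points. -/
theorem card_dvd_of_free {K X : Type*} [Group K] [MulAction K X] [Finite X]
    (h : ∀ x : X, MulAction.stabilizer K x = ⊥) : Nat.card K ∣ Nat.card X := by
  classical
  haveI : Fintype (MulAction.orbitRel.Quotient K X) := Fintype.ofFinite _
  rw [Nat.card_congr (MulAction.selfEquivSigmaOrbits K X), Nat.card_sigma]
  refine Finset.dvd_sum fun o _ => ?_
  rw [Nat.card_congr (MulAction.orbitEquivQuotientStabilizer K o.out), h]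
  exact (Nat.card_congr (QuotientGroup.quotientBot (G := K)).toEquiv).symm.dvd

theorem count_admissible : ∀ n₀ ∈ [37, 91, 127], ∀ j < 9, n₀ + 240 * j < 2048 →
    (n₀ + 240 * j) * 138240 ∣ ∏ i : Fin 11, (2 ^ 11 - 2 ^ i.val) →
    n₀ = 91 ∨ n₀ + 240 * j = 127 ∨ n₀ + 240 * j = 2047 := by
  decide +kernel

theorem sylow_seven_numbers : ∀ k ∈ Nat.divisors 126, ∀ q < 433,
    138240 % (320 * q) = 0 → (320 * q) % k = 0 → (320 * q / k) % 127 ≠ 1 := by
  decide +kernel

theorem sylow_eighty_numbers : ∀ c ∈ [89, 2047], ∀ k ∈ Nat.divisors 88,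
    (2047 * 138240) % (c * k) = 0 → (2047 * 138240 / (c * k)) % 89 ≠ 1 := by
  decide +kernel

namespace Pre

variable {z : G} {A R : Subgroup G} (D : Pre z A R)
include D

theorem comm {a b : G} (ha : a ∈ A) (hb : b ∈ A) : a * b = b * a := by
  haveI := D.elem.1
  exact congrArg Subtype.val (mul_comm' (⟨a, ha⟩ : A) ⟨b, hb⟩)

theorem conj_mem {m a : G} (hm : m ∈ Subgroup.normalizer (A : Set G)) (ha : a ∈ A) : m * a * m⁻¹ ∈ A :=
  (Subgroup.mem_normalizer_iff.1 hm a).1 ha

theorem conjs_inv : ∀ m ∈ Subgroup.normalizer (A : Set G), ∀ a ∈ Layer.conjs z A,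
    m * a * m⁻¹ ∈ Layer.conjs z A :=
  fun _ hm _ ha => ⟨D.conj_mem hm ha.1, Layer.isConj_conj ha.2⟩

theorem mem_R_iff {h a : G}
    (hh : h ∈ Subgroup.normalizer (A : Set G) ⊓ Subgroup.centralizer ({z} : Set G)) :
    h * a * h⁻¹ ∈ R ↔ a ∈ R := by
  refine ⟨fun hr => ?_, fun ha => D.R_normal h hh a ha⟩
  have := D.R_normal h⁻¹ (inv_mem hh) _ hr
  simpa [mul_assoc] using this

theorem dvd_outer : 240 ∣ Nat.card {a | a ∈ Layer.conjs z A ∧ a ∉ R} := by
  classical
  set S := {a | a ∈ Layer.conjs z A ∧ a ∉ R}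
  have hS : ∀ h ∈ Subgroup.normalizer (A : Set G) ⊓ Subgroup.centralizer ({z} : Set G),
      ∀ a ∈ S, h * a * h⁻¹ ∈ S :=
    fun h hh a ha => ⟨D.conjs_inv h hh.1 a ha.1, fun hr => ha.2 ((D.mem_R_iff hh).1 hr)⟩
  have h16 : 16 ∣ Nat.card S := by
    letI := conjSet R S fun r hr => hS r (D.R_le hr)
    haveI : Fintype S := Fintype.ofFinite S
    rw [Nat.card_congr (MulAction.selfEquivSigmaOrbits R S), Nat.card_sigma]
    refine Finset.dvd_sum fun o _ => ?_
    rw [Nat.card_congr (MulAction.orbitEquivQuotientStabilizer R o.out), ← Subgroup.index_eq_card,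
      show MulAction.stabilizer R o.out = (Subgroup.centralizer ({o.out.1} : Set G)).subgroupOf R from
        Subgroup.ext fun x => conjSet_fix _ o.out x]
    exact D.sixteen _ o.out.2.1.1 o.out.2.2
  have hp : ∀ (p : ℕ), p.Prime → (∃ g ∈ Subgroup.normalizer (A : Set G) ⊓ Subgroup.centralizer ({z} : Set G),
      g ^ p = 1 ∧ ∀ a ∈ A, g * a * g⁻¹ * a⁻¹ ∈ R → a ∈ R) → p ∣ Nat.card S := by
    rintro p hp ⟨g, hgN, hg, hfree⟩
    refine dvd_of_free hp hg (hS g hgN) fun a ha h => ha.2 (hfree a ha.1.1 ?_)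
    rw [h, mul_inv_cancel]
    exact one_mem R
  have h5 := hp 5 (by norm_num) D.five
  have h3 := hp 3 (by norm_num) D.three
  omega

theorem count_eq : ∃ j : ℕ,
    Nat.card (Layer.conjs z A) = Nat.card {a : G // a ∈ A ⊓ R ∧ IsConj z a} + 240 * j ∧
      Nat.card (Layer.conjs z A) < 2048 ∧
      Nat.card {a | a ∈ Layer.conjs z A ∧ a ∉ R} = 240 * j := by
  classical
  let Z : Set G := {a | a ∈ Layer.conjs z A ∧ a ∈ R}
  let O : Set G := {a | a ∈ Layer.conjs z A ∧ a ∉ R}
  have hu : Layer.conjs z A = Z ∪ O := by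
    ext a
    by_cases h : a ∈ R <;> simp [Z, O, h]
  have hd : Disjoint Z O := Set.disjoint_left.2 fun a ha hb => hb.2 ha.2
  have hZ : Nat.card Z = Nat.card {a : G // a ∈ A ⊓ R ∧ IsConj z a} :=
    Nat.card_congr (Equiv.subtypeEquivRight fun a => by
      simp only [Z, Layer.conjs, Set.mem_setOf_eq, Subgroup.mem_inf]
      tauto)
  obtain ⟨j, hj⟩ := D.dvd_outer
  refine ⟨j, ?_, ?_, hj⟩
  · conv_lhs => rw [hu, Nat.card_coe_set_eq, Set.ncard_union_eq hd, ← Nat.card_coe_set_eq, ← Nat.card_coe_set_eq,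
      hZ]
    rw [show Nat.card O = 240 * j from hj]
  · rw [← D.cardA, ← SetLike.coe_sort_coe, Nat.card_coe_set_eq, Nat.card_coe_set_eq]
    exact Set.ncard_lt_ncard ⟨fun a ha => ha.1, fun h => by
      obtain ⟨c, hc⟩ := isConj_iff.1 (h (one_mem A)).2
      exact D.z_ne (conj_eq_one_iff.1 hc)⟩ (Set.toFinite _)

theorem transitive {a : G} (ha : a ∈ Layer.conjs z A) :
    ∃ m ∈ Subgroup.normalizer (A : Set G), m * z * m⁻¹ = a := by
  obtain ⟨g, hg⟩ := isConj_iff.1 ha.2
  obtain ⟨m, hm, h⟩ := D.fusion z D.z_mem g (by rw [hg]; exact ha.1)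
  exact ⟨m, hm, h.trans hg⟩

theorem card_normalizer :
    Nat.card (Subgroup.normalizer (A : Set G)) = Nat.card (Layer.conjs z A) * (2 ^ 13 * 34560) := by
  classical
  letI := conjSet (Subgroup.normalizer (A : Set G)) (Layer.conjs z A) D.conjs_inv
  let w : Layer.conjs z A := ⟨z, D.z_mem, IsConj.refl z⟩
  have horb : MulAction.orbit (Subgroup.normalizer (A : Set G)) w = Set.univ := by
    refine Set.eq_univ_of_forall fun a => ?_
    obtain ⟨m, hm, h⟩ := D.transitive a.2
    exact ⟨⟨m, hm⟩, Subtype.ext h⟩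
  have hst : MulAction.stabilizer (Subgroup.normalizer (A : Set G)) w =
      (Subgroup.normalizer (A : Set G) ⊓ Subgroup.centralizer ({z} : Set G)).subgroupOf
        (Subgroup.normalizer (A : Set G)) := Subgroup.ext fun x => by
    refine (conjSet_fix _ w x).trans ?_
    rw [Subgroup.mem_subgroupOf, Subgroup.mem_inf]
    exact ⟨fun h => ⟨x.2, h⟩, fun h => h.2⟩
  rw [← Subgroup.index_mul_card (MulAction.stabilizer (Subgroup.normalizer (A : Set G)) w),
    MulAction.index_stabilizer, horb, Set.ncard_univ, hst,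
    Nat.card_congr (Subgroup.subgroupOfEquivOfLe inf_le_left).toEquiv, D.cardN]

/-- The order of the normaliser divides that of the linear group times the group. -/
theorem dvd_linear : Nat.card (Layer.conjs z A) * 138240 ∣ ∏ i : Fin 11, (2 ^ 11 - 2 ^ i.val) := by
  classical
  letI : CommGroup A :=
    { (inferInstance : Group A) with mul_comm := fun a b => Subtype.ext (D.comm a.2 b.2) }
  letI : Module (ZMod 2) (Additive A) := AddCommGroup.zmodModule fun a => by
    rw [two_nsmul]
    have h := D.elem.2 (Additive.toMul a : A) (Additive.toMul a : A).2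
    rw [pow_two] at h
    exact Subtype.ext h
  haveI : Fact (Nat.Prime 2) := ⟨Nat.prime_two⟩
  have hr : Module.finrank (ZMod 2) (Additive A) = 11 := by
    have h := Module.natCard_eq_pow_finrank (K := ZMod 2) (V := Additive A)
    rw [Nat.card_zmod, Nat.card_congr Additive.toMul, D.cardA] at h
    exact (Nat.pow_right_injective le_rfl (show 2 ^ 11 = 2 ^ Module.finrank (ZMod 2) (Additive A) by
      norm_num; exact h)).symm
  set N := Subgroup.normalizer (A : Set G) with hN
  let b := Module.finBasisOfFinrankEq (ZMod 2) (Additive A) hr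
  let f : N → Module.End (ZMod 2) (Additive A) := fun m =>
    (AddMonoidHom.mk' (fun a : Additive A =>
        Additive.ofMul (⟨(m : G) * (Additive.toMul a : A).1 * (m : G)⁻¹,
          D.conj_mem m.2 (Additive.toMul a : A).2⟩ : A)) fun x y => by
      refine Additive.toMul.injective (Subtype.ext ?_)
      show (m : G) * ((Additive.toMul x : A).1 * (Additive.toMul y : A).1) * (m : G)⁻¹ =
        (m : G) * (Additive.toMul x : A).1 * (m : G)⁻¹ * ((m : G) * (Additive.toMul y : A).1 * (m : G)⁻¹)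
      group).toZModLinearMap 2
  let φ : N →* Module.End (ZMod 2) (Additive A) :=
    { toFun := f
      map_one' := LinearMap.ext fun a => Additive.toMul.injective (Subtype.ext (by
        show (1 : G) * (Additive.toMul a : A).1 * (1 : G)⁻¹ = _
        simp))
      map_mul' := fun m n => LinearMap.ext fun a => Additive.toMul.injective (Subtype.ext (by
        show ((m : G) * n) * (Additive.toMul a : A).1 * ((m : G) * n)⁻¹ =
          (m : G) * ((n : G) * (Additive.toMul a : A).1 * (n : G)⁻¹) * (m : G)⁻¹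
        group)) }
  let ψ : N →* GL (Fin 11) (ZMod 2) :=
    ((LinearMap.toMatrixAlgEquiv b).toMulEquiv.toMonoidHom.comp φ).toHomUnits
  have hker : ψ.ker = A.subgroupOf N := by
    ext m
    rw [MonoidHom.mem_ker, Subgroup.mem_subgroupOf, Units.ext_iff]
    show LinearMap.toMatrixAlgEquiv b (f m) = 1 ↔ _
    rw [map_eq_one_iff _ (LinearMap.toMatrixAlgEquiv b).injective]
    constructor
    · intro hm
      refine D.cent (Subgroup.mem_centralizer_iff.2 fun a ha => ?_)
      have h := congrArg (fun t : Module.End (ZMod 2) (Additive A) =>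
        ((Additive.toMul (t (Additive.ofMul (⟨a, ha⟩ : A))) : A).1)) hm
      exact (mul_inv_eq_iff_eq_mul.1 (h : (m : G) * a * (m : G)⁻¹ = a)).symm
    · intro hm
      refine LinearMap.ext fun a => Additive.toMul.injective (Subtype.ext ?_)
      show (m : G) * (Additive.toMul a : A).1 * (m : G)⁻¹ = (Additive.toMul a : A).1
      exact mul_inv_eq_iff_eq_mul.2 (D.comm hm (Additive.toMul a : A).2)
  have hcard : Nat.card ψ.range = Nat.card (Layer.conjs z A) * 138240 := by
    have h := Subgroup.card_eq_card_quotient_mul_card_subgroup ψ.ker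
    rw [Nat.card_congr (QuotientGroup.quotientKerEquivRange ψ).toEquiv, hker,
      Nat.card_congr (Subgroup.subgroupOfEquivOfLe Subgroup.le_normalizer).toEquiv, D.cardA,
      D.card_normalizer] at h
    omega
  rw [← hcard]
  have h := Subgroup.card_subgroup_dvd_card ψ.range
  rw [Matrix.card_GL_field] at h
  simpa using h

/-- Not all non-identity elements of the intersection form the class. -/
theorem ne_one_two_seven (h : Nat.card (Layer.conjs z A) = 127)
    (h' : Nat.card {a : G // a ∈ A ⊓ R ∧ IsConj z a} = 127) : False := by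
  classical
  set N := Subgroup.normalizer (A : Set G) with hN
  set S := Layer.conjs z A with hS
  obtain ⟨j, hj, -, hO⟩ := D.count_eq
  have hSR : ∀ a ∈ S, a ∈ R := fun a ha => by
    by_contra hr
    haveI : Nonempty {a | a ∈ Layer.conjs z A ∧ a ∉ R} := ⟨⟨a, ha, hr⟩⟩
    have hpos := Nat.card_pos (α := {a | a ∈ Layer.conjs z A ∧ a ∉ R})
    have hc : Nat.card (Layer.conjs z A) = 127 := h
    rw [hc, h'] at hj
    rw [hO] at hpos
    omega
  have hfull : ∀ a ∈ A ⊓ R, a ≠ 1 → a ∈ S := by
    intro a ha h1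
    have he : {a : G | a ∈ A ⊓ R ∧ IsConj z a} = ((A ⊓ R : Subgroup G) : Set G) \ {1} := by
      refine Set.eq_of_subset_of_ncard_le (fun x hx => ⟨hx.1, fun e => ?_⟩) ?_ (Set.toFinite _)
      · obtain ⟨c, hc⟩ := isConj_iff.1 hx.2
        exact D.z_ne (conj_eq_one_iff.1 (hc.trans e))
      · rw [Set.ncard_sdiff_singleton_of_mem (one_mem _), ← Nat.card_coe_set_eq,
          ← Nat.card_coe_set_eq, SetLike.coe_sort_coe, D.cardAR]
        exact (le_of_eq h'.symm : 127 ≤ _)
    have hmem : a ∈ {a : G | a ∈ A ⊓ R ∧ IsConj z a} := he.symm ▸ ⟨ha, h1⟩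
    exact ⟨ha.1, hmem.2⟩
  letI := conjSet N S D.conjs_inv
  let f : N →* Equiv.Perm S := MulAction.toPermHom N S
  have hf : ∀ (m : N) (a : S), ((f m) a).1 = (m : G) * a.1 * (m : G)⁻¹ := fun _ _ => rfl
  set K := f.range
  have hKtrans : MulAction.IsPretransitive K S := ⟨fun a b => by
    obtain ⟨m, hm, hma⟩ := D.transitive a.2
    obtain ⟨n, hn, hnb⟩ := D.transitive b.2
    refine ⟨⟨f ⟨n * m⁻¹, mul_mem hn (inv_mem hm)⟩, _, rfl⟩, Subtype.ext ?_⟩
    show n * m⁻¹ * a.1 * (n * m⁻¹)⁻¹ = b.1
    rw [← hma, ← hnb]; group⟩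
  let w : S := ⟨z, D.z_mem, IsConj.refl z⟩
  have h127 : 127 ∣ Nat.card K := by
    rw [← h, ← MulAction.index_stabilizer_of_transitive K w]
    exact Subgroup.index_dvd_card _
  have hle : Nat.card K ∣ 127 * 138240 := by
    have hAker : A.subgroupOf N ≤ f.ker := fun m hm => Equiv.ext fun a => Subtype.ext (by
      rw [hf]
      exact mul_inv_eq_iff_eq_mul.2 (D.comm hm a.2.1))
    have h1 := Nat.card_congr (QuotientGroup.quotientKerEquivRange f).toEquiv
    have h2 := Subgroup.index_dvd_of_le hAker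
    rw [Subgroup.index_eq_card, h1] at h2
    refine h2.trans (dvd_of_eq ?_)
    have h3 := (A.subgroupOf N).index_mul_card
    rw [Nat.card_congr (Subgroup.subgroupOfEquivOfLe Subgroup.le_normalizer).toEquiv, D.cardA,
      D.card_normalizer, h] at h3
    omega
  obtain ⟨m, hm⟩ := h127
  have hm' : m ∣ 138240 := by
    rw [hm] at hle
    exact Nat.dvd_of_mul_dvd_mul_left (by norm_num) hle
  have h64 : 64 ∣ Nat.card K := by
    let g : R →* K := f.rangeRestrict.comp (Subgroup.inclusion fun r hr => (D.R_le hr).1)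
    have hg : g.ker ≤ (A ⊓ R).subgroupOf R := fun r hr => by
      refine D.centR ⟨r.2, Subgroup.mem_centralizer_iff.2 fun a ha => ?_⟩
      by_cases ha1 : a = 1
      · simp [ha1]
      · have e := congrArg Subtype.val (DFunLike.congr_fun
          (congrArg Subtype.val (MonoidHom.mem_ker.1 hr)) ⟨a, hfull a ha ha1⟩)
        exact (mul_inv_eq_iff_eq_mul.1 (e : (r : G) * a * (r : G)⁻¹ = a)).symm
    have h1 := (g.ker).index_mul_card
    rw [Subgroup.index_ker, D.cardR] at h1
    have h2 := Subgroup.card_le_of_le hg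
    rw [Nat.card_congr (Subgroup.subgroupOfEquivOfLe inf_le_right).toEquiv, D.cardAR] at h2
    obtain ⟨i, -, hi⟩ := (Nat.dvd_prime_pow Nat.prime_two).1
      (Dvd.intro _ h1 : Nat.card g.range ∣ 2 ^ 13)
    have hi6 : 6 ≤ i := by
      by_contra hlt
      have : Nat.card g.range * Nat.card g.ker ≤ 32 * 128 := Nat.mul_le_mul
        (hi ▸ (Nat.pow_le_pow_right two_pos (by omega : i ≤ 5)).trans (by norm_num)) h2
      omega
    refine dvd_trans ?_ g.range.card_subgroup_dvd_card
    rw [hi]
    exact (show 64 = 2 ^ 6 by norm_num) ▸ pow_dvd_pow 2 hi6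
  have h5 : 5 ∣ Nat.card K := by
    obtain ⟨g, hg, g5, a, ha, hne⟩ := D.five_inner
    have ha1 : a ≠ 1 := fun e => hne (by simp [e])
    let k : K := f.rangeRestrict ⟨g, hg.1⟩
    have hk5 : k ^ 5 = 1 := by
      rw [← map_pow, show (⟨g, hg.1⟩ : N) ^ 5 = 1 from Subtype.ext g5, map_one]
    have hk1 : k ≠ 1 := fun e => by
      have e' : f ⟨g, hg.1⟩ ⟨a, hfull a ha ha1⟩ = ⟨a, hfull a ha ha1⟩ :=
        DFunLike.congr_fun (congrArg Subtype.val e) _
      exact hne (congrArg Subtype.val e')
    haveI : Fact (Nat.Prime 5) := ⟨by norm_num⟩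
    exact orderOf_eq_prime hk5 hk1 ▸ orderOf_dvd_natCard k
  haveI : Fact (Nat.Prime 127) := ⟨by norm_num⟩
  obtain ⟨s, hs⟩ := exists_prime_orderOf_dvd_card' (G := K) 127 (hm ▸ dvd_mul_right _ _)
  have hcyc : Nat.card (Subgroup.centralizer ({s} : Set K)) = 127 := by
    set C := Subgroup.centralizer ({s} : Set K)
    have hsC : Subgroup.zpowers s ≤ C :=
      Subgroup.zpowers_le.2 (Subgroup.mem_centralizer_singleton_iff.2 rfl)
    -- the cyclic subgroup is transitive
    obtain ⟨w₀, hw₀⟩ : ∃ w₀ : S, s • w₀ ≠ w₀ := by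
      by_contra! hcon
      have : s = 1 := Subtype.ext (Equiv.ext fun a => hcon a)
      rw [this, orderOf_one] at hs
      norm_num at hs
    have hst : MulAction.stabilizer (Subgroup.zpowers s) w₀ = ⊥ := by
      haveI : Fact (Nat.Prime (Nat.card (Subgroup.zpowers s))) :=
        ⟨by rw [Nat.card_zpowers, hs]; norm_num⟩
      refine (MulAction.stabilizer (Subgroup.zpowers s) w₀).eq_bot_or_eq_top_of_prime_card.resolve_right
        fun e => hw₀ ?_
      have hmem : (⟨s, Subgroup.mem_zpowers s⟩ : Subgroup.zpowers s) ∈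
          MulAction.stabilizer (Subgroup.zpowers s) w₀ := by rw [e]; exact Subgroup.mem_top _
      exact MulAction.mem_stabilizer_iff.1 hmem
    have horb : MulAction.orbit (Subgroup.zpowers s) w₀ = Set.univ := by
      refine Set.eq_of_subset_of_ncard_le (Set.subset_univ _) ?_ (Set.toFinite _)
      rw [Set.ncard_univ, h, ← MulAction.index_stabilizer, hst, Subgroup.index_bot,
        Nat.card_zpowers, hs]
    have hfree : ∀ c : C, c • w₀ = w₀ → c = 1 := fun c hc => Subtype.ext (Subtype.ext (Equiv.ext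
      fun a => by
        obtain ⟨⟨t, ht⟩, rfl⟩ : a ∈ MulAction.orbit (Subgroup.zpowers s) w₀ := horb ▸ Set.mem_univ a
        obtain ⟨i, rfl⟩ := Subgroup.mem_zpowers_iff.1 ht
        have hcs : Commute (c : K) s := Subgroup.mem_centralizer_singleton_iff.1 c.2
        show (c : K) • (s ^ i • w₀) = s ^ i • w₀
        rw [← mul_smul, (hcs.zpow_right i).eq, mul_smul, show (c : K) • w₀ = w₀ from hc]))
    refine le_antisymm ?_ ((Nat.card_zpowers s).trans hs ▸ Subgroup.card_le_of_le hsC)
    rw [← h]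
    refine Nat.card_le_card_of_injective (fun c : C => c • w₀) fun c d hcd => ?_
    have := hfree (d⁻¹ * c) (by rw [mul_smul]; exact inv_smul_eq_iff.2 hcd)
    exact (inv_mul_eq_one.1 this).symm
  have hp2 : ¬ 127 ^ 2 ∣ Nat.card K := by
    rw [hm, pow_two]
    intro hd
    exact absurd ((Nat.dvd_of_mul_dvd_mul_left (by norm_num) hd).trans hm') (by norm_num)
  obtain ⟨n, k, hk, hn, -, hcard, -⟩ := normalizer_data (by norm_num : Nat.Prime 127) hs hp2
  rw [hcyc, hm] at hcard
  have hmn : m = n * k := by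
    refine Nat.eq_of_mul_eq_mul_left (by norm_num : 0 < 127) (hcard.trans ?_)
    ring
  have h320 : 320 ∣ m := by
    have h1 : 64 ∣ m := (Nat.Coprime.dvd_mul_left (by norm_num)).1 (hm ▸ h64)
    have h2 : 5 ∣ m := (Nat.Coprime.dvd_mul_left (by norm_num)).1 (hm ▸ h5)
    exact (Nat.Coprime.mul_dvd_of_dvd_of_dvd (by norm_num : Nat.Coprime 64 5) h1 h2)
  obtain ⟨q, rfl⟩ := h320
  have hq : q < 433 := by
    have := Nat.le_of_dvd (by norm_num) hm'
    omega
  have hk0 : 0 < k := Nat.pos_of_dvd_of_pos hk (by norm_num)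
  refine sylow_seven_numbers k (Nat.mem_divisors.2 ⟨hk, by norm_num⟩) q hq
    (Nat.mod_eq_zero_of_dvd hm') (by rw [hmn]; exact Nat.mul_mod_left n k) ?_
  rw [hmn, Nat.mul_div_cancel n hk0]
  exact hn

/-- Not all non-identity elements form the class. -/
theorem ne_two_thousand (h : Nat.card (Layer.conjs z A) = 2047) : False := by
  classical
  set N := Subgroup.normalizer (A : Set G) with hN
  set S := Layer.conjs z A with hS
  have hfull : ∀ a ∈ A, a ≠ 1 → a ∈ S := by
    intro a ha h1
    have he : S = (A : Set G) \ {1} := by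
      refine Set.eq_of_subset_of_ncard_le (fun x hx => ⟨hx.1, fun e => ?_⟩) ?_ (Set.toFinite _)
      · obtain ⟨c, hc⟩ := isConj_iff.1 hx.2
        exact D.z_ne (conj_eq_one_iff.1 (hc.trans e))
      · rw [Set.ncard_sdiff_singleton_of_mem (one_mem _), ← Nat.card_coe_set_eq,
          ← Nat.card_coe_set_eq, SetLike.coe_sort_coe, D.cardA, h]
    exact he.symm ▸ ⟨ha, h1⟩
  letI := conjSet N S D.conjs_inv
  let f : N →* Equiv.Perm S := MulAction.toPermHom N S
  have hf : ∀ (m : N) (a : S), ((f m) a).1 = (m : G) * a.1 * (m : G)⁻¹ := fun _ _ => rfl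
  have hker : f.ker = A.subgroupOf N := by
    ext m
    rw [MonoidHom.mem_ker, Subgroup.mem_subgroupOf]
    constructor
    · intro hm
      refine D.cent (Subgroup.mem_centralizer_iff.2 fun a ha => ?_)
      by_cases ha1 : a = 1
      · simp [ha1]
      · have e := congrArg Subtype.val (DFunLike.congr_fun hm ⟨a, hfull a ha ha1⟩)
        exact (mul_inv_eq_iff_eq_mul.1 (e : (m : G) * a * (m : G)⁻¹ = a)).symm
    · exact fun hm => Equiv.ext fun a => Subtype.ext (by
        rw [hf]; exact mul_inv_eq_iff_eq_mul.2 (D.comm hm a.2.1))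
  set K := f.range
  have hcardK : Nat.card K = 2047 * 138240 := by
    have h3 := f.ker.index_mul_card
    rw [Subgroup.index_ker, hker,
      Nat.card_congr (Subgroup.subgroupOfEquivOfLe Subgroup.le_normalizer).toEquiv, D.cardA,
      D.card_normalizer, h] at h3
    show Nat.card f.range = _
    omega
  have hKtrans : MulAction.IsPretransitive K S := ⟨fun a b => by
    obtain ⟨m, hm, hma⟩ := D.transitive a.2
    obtain ⟨n, hn, hnb⟩ := D.transitive b.2
    refine ⟨⟨f ⟨n * m⁻¹, mul_mem hn (inv_mem hm)⟩, _, rfl⟩, Subtype.ext ?_⟩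
    show n * m⁻¹ * a.1 * (n * m⁻¹)⁻¹ = b.1
    rw [← hma, ← hnb]; group⟩
  haveI : Fact (Nat.Prime 89) := ⟨by norm_num⟩
  obtain ⟨s, hs⟩ := exists_prime_orderOf_dvd_card' (G := K) 89 (hcardK ▸ by norm_num)
  have hfix : ∀ a : S, s • a ≠ a := by
    intro a ha
    have h1 := (MulAction.stabilizer K a).index_mul_card
    rw [MulAction.index_stabilizer_of_transitive K a, h, hcardK] at h1
    have h2 : 89 ∣ Nat.card (MulAction.stabilizer K a) := by
      rw [← hs, ← Subgroup.orderOf_mk s (show s ∈ MulAction.stabilizer K a from ha)]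
      exact orderOf_dvd_natCard _
    rw [Nat.eq_of_mul_eq_mul_left (by norm_num) h1] at h2
    norm_num at h2
  set C := Subgroup.centralizer ({s} : Set K)
  have hfree : ∀ a : S, MulAction.stabilizer C a = ⊥ := by
    intro a
    refine (Subgroup.eq_bot_iff_forall _).2 fun c hc => ?_
    obtain ⟨m, hmc⟩ := (c : K).2
    obtain ⟨t, hts⟩ := s.2
    let U : Subgroup G :=
      { carrier := {x | x ∈ A ∧ (m : G) * x * (m : G)⁻¹ = x}
        mul_mem' := fun {x y} hx hy => ⟨mul_mem hx.1 hy.1, by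
          conv_rhs => rw [← hx.2, ← hy.2]
          group⟩
        one_mem' := ⟨one_mem _, by group⟩
        inv_mem' := fun {x} hx => ⟨inv_mem hx.1, by
          conv_rhs => rw [← hx.2]
          group⟩ }
    have hU : ∀ (x : S), x.1 ∈ U ↔ (c : K) • x = x := fun x => by
      rw [show ((c : K) • x = x) ↔ ((c : K).1 x = x) from Iff.rfl, ← hmc, Subtype.ext_iff, hf]
      exact ⟨fun h => h.2, fun h => ⟨x.2.1, h⟩⟩
    have hcs : Commute (c : K) s := Subgroup.mem_centralizer_singleton_iff.1 c.2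
    let T : Set S := {x | (c : K) • x = x}
    have hT := card_modEq_fixed (by norm_num : Nat.Prime 89) (fun x : S => s • x) T
      (fun x (hx : (c : K) • x = x) => by
        show (c : K) • (s • x) = s • x
        rw [← mul_smul, hcs.eq, mul_smul, hx])
      (fun x _ => by
        rw [smul_iterate, ← hs, pow_orderOf_eq_one]
        exact one_smul _ _)
    have h0 : Nat.card {x | x ∈ T ∧ (fun x : S => s • x) x = x} = 0 := by
      rw [Nat.card_coe_set_eq, Set.ncard_eq_zero, Set.eq_empty_iff_forall_notMem]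
      exact fun x hx => hfix x hx.2
    rw [h0] at hT
    have hcardU : Nat.card U = Nat.card T + 1 := by
      have e : (U : Set G) \ {1} = Subtype.val '' T := by
        ext x
        constructor
        · rintro ⟨hx, h1⟩
          exact ⟨⟨x, hfull x hx.1 h1⟩, (hU _).1 hx, rfl⟩
        · rintro ⟨x, hx, rfl⟩
          refine ⟨(hU x).2 hx, fun e => ?_⟩
          obtain ⟨d, hd⟩ := isConj_iff.1 x.2.2
          exact D.z_ne (conj_eq_one_iff.1 (hd.trans e))
      rw [← SetLike.coe_sort_coe, Nat.card_coe_set_eq, ← Set.ncard_sdiff_singleton_add_one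
        (one_mem U : (1 : G) ∈ (U : Set G)) (Set.toFinite _), e,
        Set.ncard_image_of_injective _ Subtype.val_injective, ← Nat.card_coe_set_eq]
    have hUle : U ≤ A := fun x hx => hx.1
    have hdvd : Nat.card U ∣ 2 ^ 11 := by
      have := Subgroup.card_dvd_of_le hUle
      rwa [D.cardA] at this
    obtain ⟨i, hi, hUi⟩ := (Nat.dvd_prime_pow Nat.prime_two).1 hdvd
    have hpos : 0 < Nat.card T := by
      haveI : Nonempty T := ⟨⟨a, hc⟩⟩
      exact Nat.card_pos
    have hi11 : i = 11 := by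
      interval_cases i <;> omega
    have hUA : U = A := Subgroup.eq_of_le_of_card_ge hUle (by rw [hUi, hi11, D.cardA]; norm_num)
    refine Subtype.ext (Subtype.ext ?_)
    show (c : K).1 = 1
    refine Equiv.ext fun x => ?_
    exact (hU x).1 (hUA.symm ▸ x.2.1)
  have hC := card_dvd_of_free (K := C) (X := S) hfree
  rw [h] at hC
  have hC89 : 89 ∣ Nat.card C := by
    rw [← hs, ← Subgroup.orderOf_mk s (Subgroup.mem_centralizer_singleton_iff.2 rfl)]
    exact orderOf_dvd_natCard _
  have hc : Nat.card C ∈ [89, 2047] := by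
    have h1 := Nat.mem_divisors.2 ⟨hC, by norm_num⟩
    rw [show Nat.divisors 2047 = {1, 23, 89, 2047} by decide +kernel] at h1
    simp only [Finset.mem_insert, Finset.mem_singleton] at h1
    generalize Nat.card C = c at hC89 h1
    rcases h1 with rfl | rfl | rfl | rfl <;>
      first | omega | simp
  obtain ⟨n, k, hk, hn, -, hcard, -⟩ := normalizer_data (by norm_num : Nat.Prime 89) hs
    (by rw [hcardK]; norm_num)
  rw [hcardK] at hcard
  have hpos : 0 < Nat.card C * k := Nat.mul_pos Nat.card_pos (Nat.pos_of_dvd_of_pos hk (by norm_num))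
  refine sylow_eighty_numbers (Nat.card C) hc k (Nat.mem_divisors.2 ⟨hk, by norm_num⟩) ?_ ?_
  · rw [hcard]; exact Nat.mul_mod_left n _
  · rw [hcard, Nat.mul_div_cancel n hpos]; exact hn

theorem count_91 : Nat.card {a : G // a ∈ A ⊓ R ∧ IsConj z a} = 91 := by
  obtain ⟨j, hj, hlt, hO⟩ := D.count_eq
  have hd := D.dvd_linear
  rw [hj] at hd hlt
  have hn : Nat.card {a : G // a ∈ A ⊓ R ∧ IsConj z a} ∈ [37, 91, 127] := by
    rcases D.count with e | e | e <;> rw [e] <;> decide
  rcases count_admissible _ hn j (by omega) hlt hd with e | e | e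
  · exact e
  · rcases D.count with e' | e' | e'
    · omega
    · exact e'
    · exact (D.ne_one_two_seven (hj.trans e) e').elim
  · exact (D.ne_two_thousand (hj.trans e)).elim

/-- The counting layer. -/
theorem layer : Layer z A R where
  elem := D.elem
  cardA := D.cardA
  z_mem := D.z_mem
  z_ne := D.z_ne
  cent := D.cent
  fusion := D.fusion
  R_le := D.R_le
  R_normal := D.R_normal
  z_R := D.z_R
  cardN := D.cardN
  cardAR := D.cardAR
  count := D.count_91
  swap := D.swap
  sixteen := D.sixteen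
  five := D.five
  three := D.three

end Pre

end CfsgLib.JFourEleven
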