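import Cfsg.Agent.JFourEleven.DoubleData
import Cfsg.Agent.JFourEleven.OuterFacts

/-!
# The conjugates of the hexad subgroup relative to a fixed one

Every conjugate is the standard one or is moved by the normaliser to one of two others; a conjugate
meets it trivially, and in the second case generates with it a subgroup containing a pentad subgroup.
-/

set_option autoImplicit false
set_option maxRecDepth 10000

namespace CfsgLib.JFourEleven

open Cfsg CfsgLib.Mathieu CfsgLib.Schur.Pc CfsgLib.SporadicOut CfsgLib.TwoBlockMathieu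
open CfsgLib.JFourType

/-- The tables of generators of the normaliser of the hexad subgroup. -/
def normGens : List ℕ := [Data.hexA, Data.hexB, Data.hexF] ++ JFourType.Data.hexad

/-- The generators of the join. -/
def joinGens : List ℕ := JFourType.Data.hexad ++ DoubleData.hexTwo

/-- The representatives have different images of the fixed points, and come from the roots. -/
def cosetOK : Bool :=
  DoubleData.reps.all inM22 && normGens.all inM22 &&
  normGens.all (fun t => normOK t JFourType.Data.hexad) &&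
  DoubleData.fixPts.all (fun p => Nat.blt p 24 && JFourType.Data.hexad.all fun t => app t p == p) &&
  (List.range 24).all (fun p =>
    DoubleData.fixPts.contains p || JFourType.Data.hexad.any fun t => !(app t p == p)) &&
  (List.range 74).all (fun k => Nat.blt (DoubleData.repEdges.getD k (0, 0)).1 (k + 3) &&
    Nat.blt (DoubleData.repEdges.getD k (0, 0)).2 19 &&
    isProd (normGens.getD (DoubleData.repEdges.getD k (0, 0)).2 0)
      (DoubleData.reps.getD (DoubleData.repEdges.getD k (0, 0)).1 0)
      (DoubleData.reps.getD (k + 3) 0)) &&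
  powId (DoubleData.reps.getD 0 0) 1 && DoubleData.reps.getD 1 0 == OuterData.c0 &&
  DoubleData.reps.getD 2 0 == DoubleData.g2

/-- Different images of the fixed points. -/
def distinctOK : Bool :=
  (List.range 77).all fun i => (List.range 77).all fun j => i == j ||
    DoubleData.fixPts.any fun p => DoubleData.fixPts.all fun q =>
      !(app (DoubleData.reps.getD i 0) p == app (DoubleData.reps.getD j 0) q)

/-- The two roots give trivial intersections, and the second join contains a pentad subgroup. -/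
def joinOK : Bool :=
  let H := JFourType.Data.hexad
  [OuterData.c0, DoubleData.g2].all (fun r => H.all fun t => powId t 1 ||
    H.all fun u => !prodEq r u t r) &&
  inM22 DoubleData.g2 && inM22 DoubleData.mover &&
  DoubleData.hexTwo.all inM22 &&
  (List.range 16).all (fun i => prodEq DoubleData.g2 (H.getD i 0)
    (DoubleData.hexTwo.getD i 0) DoubleData.g2) &&
  DoubleData.chain.all inM22 && powId (DoubleData.chain.getD 0 0) 1 &&
  (List.range 6).all (fun k => Nat.blt (DoubleData.chainEdges.getD k (0, 0)).1 (k + 1) &&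
    Nat.blt (DoubleData.chainEdges.getD k (0, 0)).2 32 &&
    isProd (joinGens.getD (DoubleData.chainEdges.getD k (0, 0)).2 0)
      (DoubleData.chain.getD (DoubleData.chainEdges.getD k (0, 0)).1 0)
      (DoubleData.chain.getD (k + 1) 0)) &&
  DoubleData.pentadGens.all inM22 &&
  (List.range 4).all (fun j => Nat.blt (DoubleData.targets.getD j 0) 7 &&
    prodEq DoubleData.mover (DoubleData.pentadGens.getD j 0)
      (DoubleData.chain.getD (DoubleData.targets.getD j 0) 0) DoubleData.mover) &&
  JFourType.Data.pentad.all (fun t => (List.range 16).any fun m => allBelow 24 fun i =>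
    let g := fun j i => if m.testBit j then app (DoubleData.pentadGens.getD j 0) i else i
    app t i == g 0 (g 1 (g 2 (g 3 i))))

theorem cosetOK_holds : cosetOK = true := by decide +kernel

theorem distinctOK_holds : distinctOK = true := by decide +kernel

theorem joinOK_holds : joinOK = true := by decide +kernel

theorem reps_length : DoubleData.reps.length = 77 := by decide +kernel

theorem normGens_length : normGens.length = 19 := by decide +kernel

/-- An element normalising the hexad subgroup preserves its fixed points. -/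
theorem fix_image {n : M22g} (hn : n ∈ Subgroup.normalizer (hexadGroup : Set M22g)) {p : ℕ}
    (hp : p ∈ DoubleData.fixPts) : idx (n.1 (pt p)) ∈ DoubleData.fixPts := by
  have hk := cosetOK_holds
  simp only [cosetOK, Bool.and_eq_true, List.all_eq_true, List.mem_range, Nat.blt_eq,
    Bool.or_eq_true, List.contains_iff_mem, List.any_eq_true, Bool.not_eq_true', beq_iff_eq,
    beq_eq_false_iff_ne] at hk
  obtain ⟨⟨⟨⟨⟨⟨-, hfix⟩, hconv⟩, -⟩, -⟩, -⟩, -⟩ := hk
  refine (hconv _ (idx_lt _)).resolve_right ?_
  rintro ⟨t, ht, hne⟩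
  obtain ⟨hp24, hall⟩ := hfix p hp
  obtain ⟨x, rx⟩ := exists_elt (List.all_eq_true.1 hexad_inM22 t ht)
  obtain ⟨u, ⟨s, hs, ru⟩, eu⟩ : ∃ u ∈ hexadGroup, n⁻¹ * x * n = u :=
    ⟨_, by simpa using (Subgroup.mem_normalizer_iff.1 (inv_mem hn) x).1 ⟨t, ht, rx⟩, rfl⟩
  have hu : u.1 (pt p) = pt p := ru.apply_eq enc (by
    change app s (idx (pt p)) = idx (pt p)
    rw [idx_pt hp24]
    exact hall s hs)
  have hx : x.1 (n.1 (pt p)) = n.1 (pt p) := by
    have e : x * n = n * u := by rw [← eu]; group
    have := congrArg (fun w : M22g => w.1 (pt p)) e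
    simpa [hu] using this
  refine hne ?_
  have := rx (n.1 (pt p))
  rw [hx] at this
  exact this

/-- Every element is, up to the normaliser on both sides, one of the three roots. -/
theorem exists_root (g : M22g) : ∃ n ∈ Subgroup.normalizer (hexadGroup : Set M22g), ∃ r : M22g,
    (r = 1 ∨ Rep enc r.1 OuterData.c0 ∨ Rep enc r.1 DoubleData.g2) ∧
    (n * r)⁻¹ * g ∈ Subgroup.normalizer (hexadGroup : Set M22g) := by
  classical
  set N := Subgroup.normalizer (hexadGroup : Set M22g) with hN
  have hk := cosetOK_holds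
  simp only [cosetOK, Bool.and_eq_true, List.all_eq_true, List.mem_range, Nat.blt_eq, beq_iff_eq] at hk
  obtain ⟨⟨⟨⟨⟨⟨⟨⟨hrin, hgin⟩, hnorm⟩, hfix⟩, -⟩, hedge⟩, h0⟩, h1⟩, h2⟩ := hk
  have hex : ∀ i : Fin 77, ∃ x : M22g, Rep enc x.1 (DoubleData.reps.getD i.val 0) := fun i =>
    exists_elt (hrin _ (mem_of_getD (reps_length.symm ▸ i.isLt)))
  choose x hx using hex
  have hroot : ∀ k (hk : k < 77), ∃ n ∈ N, ∃ r : M22g,
      (r = 1 ∨ Rep enc r.1 OuterData.c0 ∨ Rep enc r.1 DoubleData.g2) ∧ x ⟨k, hk⟩ = n * r := by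
    intro k
    induction k using Nat.strong_induction_on with
    | _ k ih =>
      intro hk
      match k, hk with
      | 0, hk =>
        exact ⟨1, one_mem _, x ⟨0, hk⟩, Or.inl ((eq_one_iff_powId (hx ⟨0, hk⟩)).1 h0), by simp⟩
      | 1, hk => exact ⟨1, one_mem _, x ⟨1, hk⟩, Or.inr (Or.inl (h1 ▸ hx ⟨1, hk⟩)), by simp⟩
      | 2, hk => exact ⟨1, one_mem _, x ⟨2, hk⟩, Or.inr (Or.inr (h2 ▸ hx ⟨2, hk⟩)), by simp⟩
      | j + 3, hk =>
        obtain ⟨⟨hlt, hj⟩, e⟩ := hedge j (by omega)
        obtain ⟨n, hn, r, hr, en⟩ := ih _ hlt (by omega)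
        have hm := mem_of_getD (normGens_length.symm ▸ hj)
        obtain ⟨w, rw'⟩ := exists_elt (hgin _ hm)
        refine ⟨w * n, mul_mem (mem_normalizer_of_normOK hexad_closed hexad_inM22 rw' (hnorm _ hm)) hn,
          r, hr, ?_⟩
        rw [mul_assoc, ← en]
        exact eq_of_rep (hx _) (rep_of_isProd rw' (hx ⟨_, by omega⟩) e)
  let f : Fin 77 → M22g ⧸ N := fun i => QuotientGroup.mk (x i)
  have hf : Function.Injective f := by
    intro i j e
    by_contra hne
    have hd := distinctOK_holds
    simp only [distinctOK, List.all_eq_true, List.mem_range, Bool.or_eq_true, beq_iff_eq,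
      List.any_eq_true, Bool.not_eq_true', beq_eq_false_iff_ne] at hd
    rcases hd i i.isLt j j.isLt with h | ⟨p, hp, hall⟩
    · exact hne (Fin.ext h)
    have hmem : (x j)⁻¹ * x i ∈ N := QuotientGroup.eq.1 e.symm
    have hq := fix_image hmem hp
    refine hall _ hq ?_
    have hp24 : p < 24 := (hfix p hp).1
    have e1 := hx i (pt p)
    have e2 := hx j (((x j)⁻¹ * x i).1 (pt p))
    rw [show (enc (pt p)).val = p from idx_pt hp24] at e1
    rw [e1]
    refine Eq.trans ?_ e2.symm
    simp
  have hidx : Nat.card (M22g ⧸ N) = 77 := by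
    have h := Subgroup.card_mul_index N
    rw [card_normalizer_hexad, show Nat.card M22g = 443520 from card_SporM22] at h
    rw [← Subgroup.index_eq_card]
    omega
  obtain ⟨i, hi⟩ := ((Nat.bijective_iff_injective_and_card f).2 ⟨hf, by rw [hidx, Nat.card_fin]⟩).2
    (QuotientGroup.mk g)
  obtain ⟨n, hn, r, hr, e⟩ := hroot i i.isLt
  exact ⟨n, hn, r, hr, e ▸ QuotientGroup.eq.1 hi⟩

theorem hexadConj_normalizer {g n : M22g}
    (hn : g⁻¹ * n ∈ Subgroup.normalizer (hexadGroup : Set M22g)) : hexadConj n = hexadConj g := by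
  ext y
  simp only [hexadConj, Subgroup.mem_map_equiv, MulAut.conj_symm_apply]
  have h := Subgroup.mem_normalizer_iff.1 hn (n⁻¹ * y * n)
  rw [show g⁻¹ * n * (n⁻¹ * y * n) * (g⁻¹ * n)⁻¹ = g⁻¹ * y * g by group] at h
  exact h

/-- A conjugate of the hexad subgroup is the standard one or a moved root. -/
theorem hexad_cases (g : M22g) : hexadConj g = hexadGroup ∨
    ∃ n ∈ Subgroup.normalizer (hexadGroup : Set M22g), ∃ r : M22g,
      (Rep enc r.1 OuterData.c0 ∨ Rep enc r.1 DoubleData.g2) ∧ hexadConj g = hexadConj (n * r) := by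
  obtain ⟨n, hn, r, hr, h⟩ := exists_root g
  have e := hexadConj_normalizer h
  rcases hr with rfl | hr
  · left
    rw [e, mul_one, hexadConj_normalizer (g := 1) (by simpa using hn)]
    ext y
    simp [hexadConj]
  · exact Or.inr ⟨n, hn, r, hr, e⟩

/-- The roots give conjugates meeting the standard one trivially. -/
theorem inf_root {r : M22g} (hr : Rep enc r.1 OuterData.c0 ∨ Rep enc r.1 DoubleData.g2) :
    hexadGroup ⊓ hexadConj r = ⊥ := by
  rw [Subgroup.eq_bot_iff_forall]
  rintro x ⟨⟨t, ht, rx⟩, y, ⟨u, hu, ry⟩, e⟩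
  have hk := joinOK_holds
  simp only [joinOK, Bool.and_eq_true, List.all_eq_true, Bool.or_eq_true, Bool.not_eq_true'] at hk
  obtain ⟨⟨⟨⟨⟨⟨⟨⟨⟨⟨hfree, -⟩, -⟩, -⟩, -⟩, -⟩, -⟩, -⟩, -⟩, -⟩, -⟩ := hk
  have key : ∀ s ∈ [OuterData.c0, DoubleData.g2], Rep enc r.1 s → x = 1 := fun s hs rs => by
    rcases hfree s hs t ht with h | h
    · exact (eq_one_iff_powId rx).1 h
    · have hxy : r * y = x * r := by
        rw [← show r * y * r⁻¹ = x from e, inv_mul_cancel_right]
      have h' := h u hu
      rw [(mul_eq_mul_iff rs ry rx rs).2 hxy] at h'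
      exact absurd h' (by simp)
  rcases hr with rs | rs
  exacts [key _ (by simp) rs, key _ (by simp) rs]

/-- The join with the second root contains a pentad subgroup. -/
theorem exists_pentad_join {r : M22g} (hr : Rep enc r.1 DoubleData.g2) :
    ∃ d : M22g, pentadGroup.map (MulAut.conj d).toMonoidHom ≤ hexadGroup ⊔ hexadConj r := by
  have hk := joinOK_holds
  simp only [joinOK, Bool.and_eq_true, List.all_eq_true, List.mem_range, Nat.blt_eq,
    List.any_eq_true] at hk
  obtain ⟨⟨⟨⟨⟨⟨⟨⟨⟨⟨-, -⟩, imv⟩, i2⟩, e2⟩, icn⟩, h0⟩, hedge⟩, ipg⟩, htg⟩, hpen⟩ := hk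
  obtain ⟨d, rd⟩ := exists_elt imv
  refine ⟨d, ?_⟩
  set L := hexadGroup ⊔ hexadConj r
  have hh16 : JFourType.Data.hexad.length = 16 := by decide +kernel
  have ht16 : DoubleData.hexTwo.length = 16 := by decide +kernel
  have hg32 : joinGens.length = 32 := by decide +kernel
  have hgen : ∀ j < 32, ∀ w : M22g, Rep enc w.1 (joinGens.getD j 0) → w ∈ L := by
    intro j hj w rw'
    rcases List.mem_append.1 (mem_of_getD (hg32.symm ▸ hj : j < joinGens.length)) with h | h
    · exact Subgroup.mem_sup_left ⟨_, h, rw'⟩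
    · obtain ⟨i, hi, e⟩ := getD_of_mem h
      refine Subgroup.mem_sup_right ?_
      have hm := mem_of_getD (L := JFourType.Data.hexad) (hh16.symm ▸ (ht16 ▸ hi))
      obtain ⟨u, ru⟩ := exists_elt (List.all_eq_true.1 hexad_inM22 _ hm)
      have h' : r * u = w * r := (mul_eq_mul_iff hr ru rw' hr).1 (e ▸ e2 i (ht16 ▸ hi))
      exact ⟨u, ⟨_, hm, ru⟩, by simp [h']⟩
  have hlen : DoubleData.chain.length = 7 := by decide +kernel
  have hchain : ∀ k, k < 7 → ∀ w : M22g, Rep enc w.1 (DoubleData.chain.getD k 0) → w ∈ L := by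
    intro k
    induction k using Nat.strong_induction_on with
    | _ k ih =>
      intro hk w rw'
      cases k with
      | zero => rw [(eq_one_iff_powId rw').1 h0]; exact one_mem _
      | succ k =>
        obtain ⟨⟨hlt, hj⟩, e⟩ := hedge k (by omega)
        have hm := mem_of_getD (L := joinGens) (hg32.symm ▸ hj)
        have hin : joinGens.all inM22 = true := by
          rw [joinGens, List.all_append, hexad_inM22, Bool.true_and, List.all_eq_true]
          exact i2
        obtain ⟨u, ru⟩ := exists_elt (List.all_eq_true.1 hin _ hm)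
        obtain ⟨v, rv⟩ := exists_elt (icn _ (mem_of_getD
          (i := (DoubleData.chainEdges.getD k (0, 0)).1) (by rw [hlen]; omega)))
        rw [eq_of_rep rw' (rep_of_isProd ru rv e)]
        exact mul_mem (hgen _ hj u ru) (ih _ hlt (by omega) v rv)
  have hp4 : DoubleData.pentadGens.length = 4 := by decide +kernel
  have hL' : ∀ j < 4, ∃ w : M22g, Rep enc w.1 (DoubleData.pentadGens.getD j 0) ∧
      d * w * d⁻¹ ∈ L := by
    intro j hj
    obtain ⟨w, rw'⟩ := exists_elt (ipg _ (mem_of_getD (i := j) (hp4.symm ▸ hj)))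
    obtain ⟨ht7, e⟩ := htg j hj
    obtain ⟨v, rv⟩ := exists_elt (icn _ (mem_of_getD (hlen.symm ▸ ht7)))
    have : d * w = v * d := (mul_eq_mul_iff rd rw' rv rd).1 e
    exact ⟨w, rw', by rw [this, mul_inv_cancel_right]; exact hchain _ ht7 v rv⟩
  choose w hw hwL using hL'
  rintro _ ⟨x, ⟨t, ht, rx⟩, rfl⟩
  obtain ⟨m, -, hm⟩ := hpen t ht
  simp only [allBelow_iff, beq_iff_eq] at hm
  let q : (j : ℕ) → j < 4 → M22g := fun j hj => bif m.testBit j then w j hj else 1
  have hq : ∀ j (hj : j < 4), d * q j hj * d⁻¹ ∈ L := fun j hj => by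
    cases h : m.testBit j
    · simp [q, h]
    · simpa [q, h] using hwL j hj
  have hx : x = q 0 (by norm_num) * (q 1 (by norm_num) * (q 2 (by norm_num) * q 3 (by norm_num))) := by
    refine eq_of_rep rx fun p => ?_
    rw [hm _ (enc p).isLt]
    have hqa : ∀ j (hj : j < 4) (p : GolayPt), (if m.testBit j then
        app (DoubleData.pentadGens.getD j 0) (enc p).val else (enc p).val) =
        (enc ((q j hj).1 p)).val := fun j hj p => by
      cases h : m.testBit j
      · simp [q, h]
      · simpa [q, h] using hw j hj p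
    rw [hqa 3 (by norm_num), hqa 2 (by norm_num), hqa 1 (by norm_num), hqa 0 (by norm_num)]
    rfl
  rw [hx]
  show MulAut.conj d _ ∈ L
  simp only [map_mul]
  exact mul_mem (hq 0 _) (mul_mem (hq 1 _) (mul_mem (hq 2 _) (hq 3 _)))

end CfsgLib.JFourEleven
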