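import Cfsg.Agent.JFourEleven.Data
import Cfsg.Agent.JFourType.M22Facts

/-!
# The two classes of elementary abelian subgroups of order sixteen of `M22` and their normalisers
-/

set_option autoImplicit false
set_option maxRecDepth 10000

namespace CfsgLib.JFourEleven

open Cfsg CfsgLib.Mathieu CfsgLib.Schur.Pc CfsgLib.SporadicOut CfsgLib.TwoBlockMathieu
open CfsgLib.JFourType

/-! ### Generic facts on tables -/

/-- The table `g` conjugates the members of `L` into `L`. -/
def normOK (g : ℕ) (L : List ℕ) : Bool := L.all fun t => L.any fun s => prodEq g t s g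

theorem conj_mem_of_normOK {g : M22g} {a : ℕ} {L : List ℕ} (hL : closedOK L = true)
    (hin : L.all inM22 = true) (hg : Rep enc g.1 a) (h : normOK a L = true) {x : M22g}
    (hx : x ∈ listGroup L hL) : g * x * g⁻¹ ∈ listGroup L hL := by
  obtain ⟨t, ht, rx⟩ := hx
  simp only [normOK, List.all_eq_true, List.any_eq_true] at h
  obtain ⟨s, hs, e⟩ := h t ht
  obtain ⟨w, rw'⟩ := exists_elt (List.all_eq_true.1 hin s hs)
  rw [(mul_eq_mul_iff hg rx rw' hg).1 e, mul_inv_cancel_right]
  exact ⟨s, hs, rw'⟩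

theorem mem_normalizer_of_normOK {g : M22g} {a : ℕ} {L : List ℕ} (hL : closedOK L = true)
    (hin : L.all inM22 = true) (hg : Rep enc g.1 a) (h : normOK a L = true) :
    g ∈ Subgroup.normalizer (listGroup L hL : Set M22g) := by
  have hmap : (listGroup L hL).map (MulAut.conj g).toMonoidHom = listGroup L hL := by
    refine Subgroup.eq_of_le_of_card_ge ?_
      (Subgroup.card_map_of_injective (MulAut.conj g).injective).ge
    rintro _ ⟨x, hx, rfl⟩
    exact conj_mem_of_normOK hL hin hg h hx
  rw [Subgroup.mem_normalizer_iff]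
  intro x
  refine ⟨fun hx => conj_mem_of_normOK hL hin hg h hx, fun hx => ?_⟩
  rw [← hmap] at hx
  obtain ⟨y, hy, e⟩ := hx
  rwa [← show y = x from (MulAut.conj g).injective e]

/-- The table `g` commutes with no listed table but the identity. -/
def freeOK (g : ℕ) (L : List ℕ) : Bool := L.all fun t => powId t 1 || !prodEq g t t g

theorem eq_one_of_freeOK {g : M22g} {a : ℕ} {L : List ℕ} (hL : closedOK L = true)
    (hg : Rep enc g.1 a) (h : freeOK a L = true) {x : M22g} (hx : x ∈ listGroup L hL)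
    (hc : g * x = x * g) : x = 1 := by
  obtain ⟨t, ht, rx⟩ := hx
  simp only [freeOK, List.all_eq_true, Bool.or_eq_true, Bool.not_eq_true'] at h
  rcases h t ht with e | e
  · exact (eq_one_iff_powId rx).1 e
  · rw [(mul_eq_mul_iff hg rx rx hg).2 hc] at e
    exact absurd e (by simp)

theorem hexad_inM22 : Data.hexad.all inM22 = true := by decide +kernel

theorem pentad_inM22 : JFourType.Data.pentad.all inM22 = true := by decide +kernel

/-! ### The hexad subgroup -/

theorem hexad_sq {x : M22g} (hx : x ∈ hexadGroup) : x * x = 1 := by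
  obtain ⟨t, ht, r⟩ := hx
  have h : JFourType.Data.hexad.all (fun t => powId t 2) = true := by decide +kernel
  rw [← pow_two, ← pow_eq_one_iff_powId r]
  exact List.all_eq_true.1 h t ht

theorem pentad_sq {x : M22g} (hx : x ∈ pentadGroup) : x * x = 1 := by
  obtain ⟨t, ht, r⟩ := hx
  have h : JFourType.Data.pentad.all (fun t => powId t 2) = true := by decide +kernel
  rw [← pow_two, ← pow_eq_one_iff_powId r]
  exact List.all_eq_true.1 h t ht

/-- The checks on the listed elements of the normaliser of the hexad subgroup. -/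
def hexOK : Bool :=
  inM22 Data.hexA && inM22 Data.hexB && inM22 Data.hexF &&
    normOK Data.hexA JFourType.Data.hexad && normOK Data.hexB JFourType.Data.hexad &&
    normOK Data.hexF JFourType.Data.hexad && powId Data.hexA 3 && powId Data.hexB 3 &&
    powId Data.hexF 5 && !powId Data.hexF 1 && !powId Data.hexA 1 && !powId Data.hexB 1 &&
    prodEq Data.hexA Data.hexB Data.hexB Data.hexA &&
    freeOK Data.hexA JFourType.Data.hexad && freeOK Data.hexF JFourType.Data.hexad &&
    !prodEq Data.hexB Data.hexB Data.hexA Data.hexA &&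
    !prodEq Data.hexB Data.hexA (JFourType.Data.hexad.getD 0 0) (JFourType.Data.hexad.getD 0 0) &&
    powId (JFourType.Data.hexad.getD 0 0) 1

theorem hexOK_holds : hexOK = true := by decide +kernel

/-- What is used of the normaliser of the hexad subgroup. -/
theorem exists_hexad_norm : ∃ a b f : M22g,
    a ∈ Subgroup.normalizer (hexadGroup : Set M22g) ∧
    b ∈ Subgroup.normalizer (hexadGroup : Set M22g) ∧
    f ∈ Subgroup.normalizer (hexadGroup : Set M22g) ∧
    a ^ 3 = 1 ∧ b ^ 3 = 1 ∧ a * b = b * a ∧ a ≠ 1 ∧ b ≠ 1 ∧ b ≠ a ∧ b ≠ a⁻¹ ∧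
    orderOf f = 5 ∧
    (∀ x ∈ hexadGroup, a * x = x * a → x = 1) ∧ (∀ x ∈ hexadGroup, f * x = x * f → x = 1) ∧
    Rep enc a.1 Data.hexA ∧ Rep enc b.1 Data.hexB ∧ Rep enc f.1 Data.hexF := by
  have h := hexOK_holds
  simp only [hexOK, Bool.and_eq_true, Bool.not_eq_true'] at h
  obtain ⟨⟨⟨⟨⟨⟨⟨⟨⟨⟨⟨⟨⟨⟨⟨⟨⟨ia, ib⟩, iF⟩, na⟩, nb⟩, nf⟩, a3⟩, b3⟩, f5⟩, f1⟩, a1⟩, b1⟩, hab⟩, fa⟩, ff⟩,
    hne⟩, hni⟩, hone⟩ := h
  obtain ⟨a, ra⟩ := exists_elt ia
  obtain ⟨b, rb⟩ := exists_elt ib
  obtain ⟨f, rf⟩ := exists_elt iF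
  obtain ⟨o, ro⟩ := exists_elt (t := JFourType.Data.hexad.getD 0 0) (by decide +kernel)
  have ho : o = 1 := (eq_one_iff_powId ro).1 hone
  have : Fact (Nat.Prime 5) := ⟨by norm_num⟩
  refine ⟨a, b, f, mem_normalizer_of_normOK hexad_closed hexad_inM22 ra na,
    mem_normalizer_of_normOK hexad_closed hexad_inM22 rb nb,
    mem_normalizer_of_normOK hexad_closed hexad_inM22 rf nf,
    (pow_eq_one_iff_powId ra 3).1 a3, (pow_eq_one_iff_powId rb 3).1 b3,
    (mul_eq_mul_iff ra rb rb ra).1 hab, fun e => ?_, fun e => ?_, fun e => ?_, fun e => ?_,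
    orderOf_eq_prime ((pow_eq_one_iff_powId rf 5).1 f5) (fun e => ?_),
    fun x hx => eq_one_of_freeOK hexad_closed ra fa hx,
    fun x hx => eq_one_of_freeOK hexad_closed rf ff hx, ra, rb, rf⟩
  · rw [(eq_one_iff_powId ra).2 e] at a1; exact absurd a1 (by simp)
  · rw [(eq_one_iff_powId rb).2 e] at b1; exact absurd b1 (by simp)
  · rw [(mul_eq_mul_iff rb rb ra ra).2 (by rw [e])] at hne; exact absurd hne (by simp)
  · rw [(mul_eq_mul_iff rb ra ro ro).2 (by rw [e, ho]; simp)] at hni; exact absurd hni (by simp)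
  · rw [(eq_one_iff_powId rf).2 e] at f1; exact absurd f1 (by simp)

/-- The orbit check. -/
def transOK : Bool :=
  Data.hexOrb.all inM22 &&
  (List.range 14).all (fun k => Nat.blt (Data.hexOrbEdges.getD k (0, 0)).1 (k + 1) &&
    prodEq ([Data.hexA, Data.hexB, Data.hexF].getD (Data.hexOrbEdges.getD k (0, 0)).2 0)
      (Data.hexOrb.getD (Data.hexOrbEdges.getD k (0, 0)).1 0) (Data.hexOrb.getD (k + 1) 0)
      ([Data.hexA, Data.hexB, Data.hexF].getD (Data.hexOrbEdges.getD k (0, 0)).2 0) &&
    Nat.blt (Data.hexOrbEdges.getD k (0, 0)).2 3) &&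
  JFourType.Data.hexad.all (fun t => powId t 1 || Data.hexOrb.contains t)

theorem transOK_holds : transOK = true := by decide +kernel

theorem hexOrb_length : Data.hexOrb.length = 15 := by decide +kernel

/-- The normaliser of the hexad subgroup is transitive on its involutions. -/
theorem hexad_trans {p : M22g → Prop}
    (hp : ∀ g ∈ Subgroup.normalizer (hexadGroup : Set M22g), ∀ x ∈ hexadGroup,
      (p (g * x * g⁻¹) ↔ p x))
    {x y : M22g} (hx : x ∈ hexadGroup) (hy : y ∈ hexadGroup) (hx1 : x ≠ 1) (hy1 : y ≠ 1) :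
    p x ↔ p y := by
  obtain ⟨a, b, f, na, nb, nf, -, -, -, -, -, -, -, -, -, -, ra, rb, rf⟩ := exists_hexad_norm
  have hk := transOK_holds
  simp only [transOK, Bool.and_eq_true, List.all_eq_true, List.mem_range, Nat.blt_eq,
    Bool.or_eq_true, List.contains_iff_mem] at hk
  obtain ⟨⟨horb, hedge⟩, hcov⟩ := hk
  obtain ⟨u, ru⟩ := exists_elt (horb _ (mem_of_getD (i := 0) (by rw [hexOrb_length]; norm_num)))
  have u_mem : u ∈ hexadGroup :=
    ⟨Data.hexOrb.getD 0 0, by decide +kernel, ru⟩
  have hroot : ∀ k, k < 15 → ∀ w : M22g, Rep enc w.1 (Data.hexOrb.getD k 0) →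
      w ∈ hexadGroup ∧ (p w ↔ p u) := by
    intro k
    induction k using Nat.strong_induction_on with
    | _ k ih =>
      intro hk15 w r
      cases k with
      | zero => rw [eq_of_rep r ru]; exact ⟨u_mem, Iff.rfl⟩
      | succ k =>
        obtain ⟨⟨hlt, e⟩, hj⟩ := hedge k (by omega)
        obtain ⟨v, rv⟩ := exists_elt (horb _ (mem_of_getD
          (i := (Data.hexOrbEdges.getD k (0, 0)).1) (by rw [hexOrb_length]; omega)))
        obtain ⟨hv, hpv⟩ := ih _ hlt (by omega) v rv
        have key : ∀ (g : M22g) (t : ℕ), g ∈ Subgroup.normalizer (hexadGroup : Set M22g) →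
            Rep enc g.1 t →
            [Data.hexA, Data.hexB, Data.hexF].getD (Data.hexOrbEdges.getD k (0, 0)).2 0 = t →
            w ∈ hexadGroup ∧ (p w ↔ p u) := by
          intro g t hg rg et
          rw [et] at e
          have ew : w = g * v * g⁻¹ := by
            rw [(mul_eq_mul_iff rg rv r rg).1 e, mul_inv_cancel_right]
          rw [ew]
          exact ⟨(Subgroup.mem_normalizer_iff.1 hg v).1 hv, (hp g hg v hv).trans hpv⟩
        generalize hjk : (Data.hexOrbEdges.getD k (0, 0)).2 = j at hj key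
        match j, hj with
        | 0, _ => exact key a _ na ra rfl
        | 1, _ => exact key b _ nb rb rfl
        | 2, _ => exact key f _ nf rf rfl
  have hall : ∀ w ∈ hexadGroup, w ≠ 1 → (p w ↔ p u) := by
    rintro w ⟨t, ht, r⟩ h1
    rcases hcov t ht with e | e
    · exact absurd ((eq_one_iff_powId r).1 e) h1
    · obtain ⟨k, hk', rfl⟩ := getD_of_mem e
      exact (hroot k (hexOrb_length ▸ hk') w r).2
  exact (hall x hx hx1).trans (hall y hy hy1).symm

/-- A member of `M24` commuting with the hexad subgroup is determined by the image of a moved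
point. -/
theorem centralizer_hexad {g : M22g} (hg : ∀ a ∈ hexadGroup, g * a = a * g) : g ∈ hexadGroup := by
  have hk : regularOK = true := by decide +kernel
  simp only [regularOK, Bool.and_eq_true, List.all_eq_true, List.mem_range, List.any_eq_true,
    bne_iff_ne] at hk
  obtain ⟨⟨⟨hreg, h2m⟩, ⟨t', ht', hne⟩⟩, hder⟩ := hk
  have hget : ∀ (t : ℕ), t ∈ JFourType.Data.hexad → ∃ a ∈ hexadGroup, Rep enc a.1 t := fun t ht => by
    obtain ⟨a, ra⟩ := exists_elt (List.all_eq_true.1 hexad_inM22 t ht)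
    exact ⟨a, ⟨t, ht, ra⟩, ra⟩
  have key : ∀ (u : M22g), (∀ a ∈ hexadGroup, u * a = a * u) → u.1 (pt 2) = pt 2 → u = 1 := by
    intro u hu h2
    refine Subtype.ext (derivesAll_sound (mem_SporM22.1 u.2).1.1 _ _ _ (fun p hp => ?_) (by simp)
      hder)
    obtain ⟨i, hi, rfl⟩ : ∃ i, i < 24 ∧ pt i = p := ⟨idx p, idx_lt p, pt_idx p⟩
    rw [mem_setOf24, idx_pt hi] at hp
    have h := hreg i hi
    rw [if_pos hp] at h
    simp only [List.any_eq_true, beq_iff_eq] at h
    obtain ⟨t, ht, e⟩ := h
    obtain ⟨a, ha, ra⟩ := hget t ht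
    have ea : a.1 (pt 2) = pt i := ra.apply_eq enc (by
      change app t (idx (pt 2)) = idx (pt i); rw [idx_pt (by norm_num : 2 < 24), idx_pt hi, e])
    have e' := congrArg (fun x : M22g => x.1 (pt 2)) (hu a ha)
    simp only [Subgroup.coe_mul, Equiv.Perm.mul_apply, h2, ea] at e'
    exact e'
  by_cases hj : JFourType.Data.movedMask.testBit (idx (g.1 (pt 2))) = true
  · have h := hreg _ (idx_lt (g.1 (pt 2)))
    rw [if_pos hj] at h
    simp only [List.any_eq_true, beq_iff_eq] at h
    obtain ⟨t, ht, e⟩ := h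
    obtain ⟨a, ha, ra⟩ := hget t ht
    have ea : a.1 (pt 2) = g.1 (pt 2) := ra.apply_eq enc (by
      change app t (idx (pt 2)) = _; rw [idx_pt (by norm_num : 2 < 24), e]; rfl)
    have hab : ∀ b ∈ hexadGroup, a * b = b * a := by
      rintro b ⟨tb, htb, rb⟩
      have e' : prodEq t tb tb t = true :=
        List.all_eq_true.1 (List.all_eq_true.1 (show (JFourType.Data.hexad.all fun x =>
          JFourType.Data.hexad.all fun y => prodEq x y y x) = true by decide +kernel) t ht) tb htb
      exact (mul_eq_mul_iff ra rb rb ra).1 e'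
    have h1 : a⁻¹ * g = 1 := key _ (fun b hb => by
        have h3 : a⁻¹ * b = b * a⁻¹ := ((Commute.inv_left (hab b hb : Commute a b))).eq
        rw [mul_assoc, hg b hb, ← mul_assoc, h3, mul_assoc])
      (by rw [Subgroup.coe_mul, Equiv.Perm.mul_apply, InvMemClass.coe_inv, ← ea, perm_inv_apply])
    rw [← inv_mul_eq_one.1 h1]
    exact ha
  · have h := hreg _ (idx_lt (g.1 (pt 2)))
    rw [if_neg hj] at h
    simp only [List.all_eq_true, beq_iff_eq] at h
    obtain ⟨a, ha, ra⟩ := hget t' ht'
    have ea : a.1 (g.1 (pt 2)) = g.1 (pt 2) := ra.apply_eq enc (by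
      change app t' (idx (g.1 (pt 2))) = _; rw [h t' ht']; rfl)
    have e' := congrArg (fun x : M22g => x.1 (pt 2)) (hg a ha)
    simp only [Subgroup.coe_mul, Equiv.Perm.mul_apply, ea] at e'
    refine absurd ?_ hne
    have e := ra (pt 2)
    rw [g.1.injective e'] at e
    change app t' (idx (pt 2)) = idx (pt 2) at e
    rwa [idx_pt (by norm_num : 2 < 24)] at e

/-! ### The two subgroups are not conjugate -/

/-- The numbers of the points fixed by every member of a list. -/
def fixedPts (L : List ℕ) : List ℕ := (List.range 24).filter fun i => L.all fun t => app t i == i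

theorem not_perm_hexad_pentad (c : Equiv.Perm GolayPt)
    (h : ∀ y ∈ pentadGroup, ∃ x ∈ hexadGroup, y.1 = c * x.1 * c⁻¹) : False := by
  classical
  have h8 : (fixedPts JFourType.Data.hexad).length = 8 ∧ (fixedPts JFourType.Data.hexad).Nodup ∧
      (fixedPts JFourType.Data.pentad).length < 8 := by decide +kernel
  let f : ℕ → ℕ := fun i => idx (c (pt i))
  have hinj : Set.InjOn f {i | i ∈ fixedPts JFourType.Data.hexad} := by
    intro i hi j hj hij
    have hi' : i < 24 := List.mem_range.1 (List.mem_filter.1 hi).1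
    have hj' : j < 24 := List.mem_range.1 (List.mem_filter.1 hj).1
    have e1 := c.injective (idx_injective hij)
    rw [← idx_pt hi', e1, idx_pt hj']
  have hsub : ∀ i ∈ fixedPts JFourType.Data.hexad, f i ∈ fixedPts JFourType.Data.pentad := by
    intro i hi
    obtain ⟨hi', hall⟩ := List.mem_filter.1 hi
    rw [List.mem_range] at hi'
    refine List.mem_filter.2 ⟨List.mem_range.2 (idx_lt _), List.all_eq_true.2 fun t ht => ?_⟩
    obtain ⟨w, rw'⟩ := exists_elt (List.all_eq_true.1 pentad_inM22 t ht)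
    obtain ⟨v, ⟨s, hs, rv⟩, ev⟩ := h w ⟨t, ht, rw'⟩
    have hfix : v.1 (pt i) = pt i := rv.apply_eq enc (by
      change app s (idx (pt i)) = idx (pt i)
      rw [idx_pt hi']
      simpa using List.all_eq_true.1 hall s hs)
    rw [beq_iff_eq]
    have hwf : w.1 (c (pt i)) = c (pt i) := by
      rw [ev]
      simp [hfix]
    have := rw' (c (pt i))
    rw [hwf] at this
    exact this
  have hle : (fixedPts JFourType.Data.hexad).toFinset.card ≤
      (fixedPts JFourType.Data.pentad).toFinset.card :=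
    Finset.card_le_card_of_injOn f (fun i hi => by simpa using hsub i (by simpa using hi))
      (fun i hi j hj => hinj (by simpa using hi) (by simpa using hj))
  have := hle.trans (List.toFinset_card_le _)
  rw [List.toFinset_card_of_nodup h8.2.1, h8.1] at this
  omega

theorem not_conj_hexad_pentad (c : M22g) :
    hexadGroup.map (MulAut.conj c).toMonoidHom ≠ pentadGroup := fun e =>
  not_perm_hexad_pentad c.1 fun y hy => by
    rw [← e] at hy
    obtain ⟨x, hx, rfl⟩ := hy
    exact ⟨x, hx, rfl⟩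

/-- A conjugate of the hexad subgroup. -/
def IsHexad (B : Subgroup M22g) : Prop := ∃ c : M22g, hexadGroup.map (MulAut.conj c).toMonoidHom = B

/-- A 2-subgroup contains at most one conjugate of the hexad subgroup. -/
theorem hexad_unique {A B S : Subgroup M22g} (hA : IsHexad A) (hB : IsHexad B)
    (hS : IsPGroup 2 S) (hAS : A ≤ S) (hBS : B ≤ S) : A = B := by
  obtain ⟨c, hc⟩ := exists_conj_mem_sylGroup hS
  suffices key : ∀ X : Subgroup M22g, IsHexad X → X ≤ S →
      X.map (MulAut.conj c).toMonoidHom = hexadGroup by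
    exact Subgroup.map_injective (f := (MulAut.conj c).toMonoidHom) (MulAut.conj c).injective
      ((key A hA hAS).trans (key B hB hBS).symm)
  rintro X ⟨d, rfl⟩ hXS
  rw [Subgroup.map_map]
  have e : (MulAut.conj c).toMonoidHom.comp (MulAut.conj d).toMonoidHom =
      (MulAut.conj (c * d)).toMonoidHom := MonoidHom.ext fun x => by simp [mul_assoc]
  rw [e]
  refine (eq_of_elementary_sylGroup ?_ ?_ ?_).resolve_right (not_conj_hexad_pentad _)
  · rintro _ ⟨x, hx, rfl⟩
    show MulAut.conj (c * d) x * MulAut.conj (c * d) x = 1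
    rw [← map_mul, hexad_sq hx, map_one]
  · rw [Subgroup.card_map_of_injective (MulAut.conj _).injective, card_hexadGroup]
  · rintro _ ⟨x, hx, rfl⟩
    have := hc _ (hXS ⟨x, hx, rfl⟩)
    simpa [mul_assoc] using this

/-- An automorphism maps the hexad subgroup to a conjugate of it. -/
theorem isHexad_map (σ : MulAut M22g) : IsHexad (hexadGroup.map σ.toMonoidHom) := by
  by_cases hσ : σ ∈ Inn M22g
  · obtain ⟨d, rfl⟩ := hσ
    exact ⟨d, rfl⟩
  have h2 : ∀ a ∈ hexadGroup.map σ.toMonoidHom, a * a = 1 := by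
    rintro _ ⟨x, hx, rfl⟩
    show σ x * σ x = 1
    rw [← map_mul, hexad_sq hx, map_one]
  have hcard : Nat.card (hexadGroup.map σ.toMonoidHom) = 16 := by
    rw [Subgroup.card_map_of_injective σ.injective, card_hexadGroup]
  obtain ⟨c, hc | hc⟩ := exists_conj_eq h2 hcard
  · refine ⟨c⁻¹, ?_⟩
    conv_lhs => rw [← hc]
    rw [Subgroup.map_map]
    ext x
    simp [mul_assoc]
  · obtain ⟨s, -, -, -, hconj⟩ := exists_perm_of_not_inner hσ
    refine (not_perm_hexad_pentad (c.1 * s) fun y hy => ?_).elim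
    rw [← hc] at hy
    obtain ⟨_, ⟨x, hx, rfl⟩, rfl⟩ := hy
    refine ⟨x, hx, ?_⟩
    show (c * σ x * c⁻¹ : M22g).1 = _
    rw [Subgroup.coe_mul, Subgroup.coe_mul, hconj]
    simp [mul_assoc]

end CfsgLib.JFourEleven
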