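import Cfsg.Agent.JFourEleven.Facts

/-!
# A subgroup of order 960 above a pentad subgroup, and the order of the normaliser of a hexad
subgroup
-/

set_option autoImplicit false
set_option maxRecDepth 10000

namespace CfsgLib.JFourEleven

open Cfsg CfsgLib.Mathieu CfsgLib.Schur.Pc CfsgLib.SporadicOut CfsgLib.TwoBlockMathieu
open CfsgLib.JFourType

/-- The checks on the subgroup above the pentad subgroup. -/
def penOK : Bool :=
  inM22 Data.penF && inM22 Data.penG && inM22 Data.penH && inM22 Data.penQ &&
    normOK Data.penG JFourType.Data.pentad && normOK Data.penH JFourType.Data.pentad &&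
    normOK Data.penF JFourType.Data.pentad && powId Data.penF 5 &&
    prodEq Data.penG Data.penF (normT (compT Data.penF Data.penF)) Data.penG &&
    prodEq Data.penH Data.penF Data.penQ Data.penH
where
  compT (a b : ℕ) : ℕ := ((List.range 24).map fun i => app a (app b i)).foldr
    (fun x acc => x + 256 * acc) 0

/-- The checks on the products of generators. -/
def chainOK : Bool :=
  Data.genK.all inM22 && Data.chain.all inM22 &&
    Data.genK.all (fun t => JFourType.Data.pentad.contains t || t == Data.penF || t == Data.penQ) &&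
    powId (Data.chain.getD 0 0) 1 &&
    (List.range 19).all (fun k => Nat.blt (Data.chainEdges.getD k (0, 0)).1 (k + 1) &&
      Nat.blt (Data.chainEdges.getD k (0, 0)).2 6 &&
      isProd (Data.genK.getD (Data.chainEdges.getD k (0, 0)).2 0)
        (Data.chain.getD (Data.chainEdges.getD k (0, 0)).1 0) (Data.chain.getD (k + 1) 0)) &&
    Data.hexGens.all (fun i => Nat.blt i 20) &&
    powId (Data.chain.getD (Data.hexGens.getD 4 0) 0) 3 &&
    !powId (Data.chain.getD (Data.hexGens.getD 4 0) 0) 1

theorem chainOK_holds : chainOK = true := by decide +kernel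

theorem genK_length : Data.genK.length = 6 := by decide +kernel

theorem chain_length : Data.chain.length = 20 := by decide +kernel

/-- The products of pairs out of the first four targets cover the hexad subgroup. -/
def coverOK : Bool :=
  let g := fun i => Data.chain.getD (Data.hexGens.getD i 0) 0
  JFourType.Data.hexad.all fun t => (List.range 16).any fun m =>
    allBelow 24 fun i => app t i ==
      app ((if m.testBit 0 then g 0 else Data.chain.getD 0 0))
        (app (if m.testBit 1 then g 1 else Data.chain.getD 0 0)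
          (app (if m.testBit 2 then g 2 else Data.chain.getD 0 0)
            (app (if m.testBit 3 then g 3 else Data.chain.getD 0 0) i)))

theorem coverOK_holds : coverOK = true := by decide +kernel

/-- Elements of order five normalising the pentad subgroup, with a conjugation squaring the first,
generate with it a subgroup containing the hexad subgroup and an element of order three. -/
theorem exists_pentad_gen : ∃ f g h : M22g,
    f ∈ Subgroup.normalizer (pentadGroup : Set M22g) ∧
    g ∈ Subgroup.normalizer (pentadGroup : Set M22g) ∧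
    h ∈ Subgroup.normalizer (pentadGroup : Set M22g) ∧
    f ^ 5 = 1 ∧ g * f * g⁻¹ = f * f ∧
    ∀ L : Subgroup M22g, pentadGroup ≤ L → f ∈ L → h * f * h⁻¹ ∈ L →
      hexadGroup ≤ L ∧ ∃ c ∈ L, orderOf c = 3 := by
  have hp : penOK = true := by decide +kernel
  simp only [penOK, Bool.and_eq_true] at hp
  obtain ⟨⟨⟨⟨⟨⟨⟨⟨⟨iF, ig⟩, ih⟩, iq⟩, ng⟩, nh⟩, nf⟩, f5⟩, eg⟩, eq⟩ := hp
  obtain ⟨f, rf⟩ := exists_elt iF
  obtain ⟨g, rg⟩ := exists_elt ig
  obtain ⟨h, rh⟩ := exists_elt ih
  obtain ⟨q, rq⟩ := exists_elt iq
  have hq : h * f * h⁻¹ = q := by rw [(mul_eq_mul_iff rh rf rq rh).1 eq, mul_inv_cancel_right]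
  have rff : Rep enc (f * f).1 (normT (penOK.compT Data.penF Data.penF)) := by
    refine rep_of_isProd rf rf ?_
    decide +kernel
  refine ⟨f, g, h, mem_normalizer_of_normOK pentad_closed pentad_inM22 rf nf,
    mem_normalizer_of_normOK pentad_closed pentad_inM22 rg ng,
    mem_normalizer_of_normOK pentad_closed pentad_inM22 rh nh,
    (pow_eq_one_iff_powId rf 5).1 f5,
    by rw [(mul_eq_mul_iff rg rf rff rg).1 eg, mul_inv_cancel_right], fun L hL hf hqL => ?_⟩
  rw [hq] at hqL
  have hk := chainOK_holds
  simp only [chainOK, Bool.and_eq_true, List.all_eq_true, List.mem_range, Nat.blt_eq,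
    Bool.or_eq_true, List.contains_iff_mem, beq_iff_eq, Bool.not_eq_true'] at hk
  obtain ⟨⟨⟨⟨⟨⟨⟨hgin, hcin⟩, hgen⟩, hone⟩, hedge⟩, hidx⟩, h3⟩, h31⟩ := hk
  have hgenL : ∀ j < 6, ∀ w : M22g, Rep enc w.1 (Data.genK.getD j 0) → w ∈ L := by
    intro j hj w r
    rcases hgen _ (mem_of_getD (genK_length ▸ hj)) with (e | e) | e
    · exact hL ⟨_, e, r⟩
    · rw [e] at r; exact eq_of_rep r rf ▸ hf
    · rw [e] at r; exact eq_of_rep r rq ▸ hqL
  have hchain : ∀ k, k < 20 → ∀ w : M22g, Rep enc w.1 (Data.chain.getD k 0) → w ∈ L := by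
    intro k
    induction k using Nat.strong_induction_on with
    | _ k ih =>
      intro hk20 w r
      cases k with
      | zero => rw [(eq_one_iff_powId r).1 hone]; exact one_mem _
      | succ k =>
        obtain ⟨⟨hlt, hj⟩, e⟩ := hedge k (by omega)
        obtain ⟨x, rx⟩ := exists_elt (hgin _ (mem_of_getD (genK_length ▸ hj)))
        obtain ⟨y, ry⟩ := exists_elt (hcin _ (mem_of_getD
          (i := (Data.chainEdges.getD k (0, 0)).1) (by rw [chain_length]; omega)))
        rw [eq_of_rep r (rep_of_isProd rx ry e)]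
        exact mul_mem (hgenL _ hj x rx) (ih _ hlt (by omega) y ry)
  have hget : ∀ j < 5, ∃ w ∈ L, Rep enc w.1 (Data.chain.getD (Data.hexGens.getD j 0) 0) := by
    intro j hj
    have hl : Data.hexGens.length = 5 := by decide +kernel
    have hi := hidx _ (mem_of_getD (i := j) (hl ▸ hj))
    obtain ⟨w, rw'⟩ := exists_elt (hcin _ (mem_of_getD (chain_length.symm ▸ hi)))
    exact ⟨w, hchain _ hi w rw', rw'⟩
  refine ⟨?_, ?_⟩
  · rintro x ⟨t, ht, rx⟩
    have hc := coverOK_holds
    simp only [coverOK, List.all_eq_true, List.any_eq_true, List.mem_range] at hc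
    obtain ⟨m, -, e⟩ := hc t ht
    obtain ⟨o, ro⟩ := exists_elt (hcin _ (mem_of_getD (i := 0) (by rw [chain_length]; norm_num)))
    have hpick : ∀ j, j < 4 → ∃ w ∈ L, Rep enc w.1
        (if m.testBit j then Data.chain.getD (Data.hexGens.getD j 0) 0 else Data.chain.getD 0 0) := by
      intro j hj
      by_cases hb : m.testBit j = true
      · rw [if_pos hb]; exact hget j (by omega)
      · rw [if_neg hb]; exact ⟨o, hchain 0 (by norm_num) o ro, ro⟩
    obtain ⟨w0, h0, r0⟩ := hpick 0 (by norm_num)
    obtain ⟨w1, h1, r1⟩ := hpick 1 (by norm_num)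
    obtain ⟨w2, h2, r2⟩ := hpick 2 (by norm_num)
    obtain ⟨w3, h3, r3⟩ := hpick 3 (by norm_num)
    simp only [allBelow_iff, beq_iff_eq] at e
    have : x = w0 * (w1 * (w2 * w3)) := eq_of_rep rx fun p => by
      rw [e _ (enc p).isLt, r3 p, r2, r1, r0]
      rfl
    rw [this]
    exact mul_mem h0 (mul_mem h1 (mul_mem h2 h3))
  · obtain ⟨w, hw, rw'⟩ := hget 4 (by norm_num)
    have : Fact (Nat.Prime 3) := ⟨Nat.prime_three⟩
    refine ⟨w, hw, orderOf_eq_prime ((pow_eq_one_iff_powId rw' 3).1 h3) fun e => ?_⟩
    rw [(eq_one_iff_powId rw').2 e] at h31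
    exact absurd h31 (by simp)

/-- Two involutions with product of order three. -/
theorem exists_involution_pair : ∃ s t : M22g, orderOf s = 2 ∧ orderOf t = 2 ∧
    orderOf (s * t) = 3 := by
  have h : (inM22 (Data.invPair.getD 0 0) && inM22 (Data.invPair.getD 1 0) &&
      powId (Data.invPair.getD 0 0) 2 && !powId (Data.invPair.getD 0 0) 1 &&
      powId (Data.invPair.getD 1 0) 2 && !powId (Data.invPair.getD 1 0) 1 &&
      allBelow 24 (fun i =>
        let f := fun j => app (Data.invPair.getD 0 0) (app (Data.invPair.getD 1 0) j)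
        f (f (f i)) == i) &&
      !prodEq (Data.invPair.getD 0 0) (Data.invPair.getD 1 0) (Data.chain.getD 0 0)
        (Data.chain.getD 0 0) && inM22 (Data.chain.getD 0 0) && powId (Data.chain.getD 0 0) 1)
      = true := by decide +kernel
  simp only [Bool.and_eq_true, Bool.not_eq_true', allBelow_iff, beq_iff_eq] at h
  obtain ⟨⟨⟨⟨⟨⟨⟨⟨⟨is, it⟩, s2⟩, s1⟩, t2⟩, t1⟩, h3⟩, hne⟩, io⟩, ho⟩ := h
  obtain ⟨s, rs⟩ := exists_elt is
  obtain ⟨t, rt⟩ := exists_elt it
  obtain ⟨o, ro⟩ := exists_elt io
  have : Fact (Nat.Prime 2) := ⟨Nat.prime_two⟩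
  have : Fact (Nat.Prime 3) := ⟨Nat.prime_three⟩
  refine ⟨s, t, orderOf_eq_prime ((pow_eq_one_iff_powId rs 2).1 s2) fun e => ?_,
    orderOf_eq_prime ((pow_eq_one_iff_powId rt 2).1 t2) fun e => ?_,
    orderOf_eq_prime ?_ fun e => ?_⟩
  · rw [(eq_one_iff_powId rs).2 e] at s1; exact absurd s1 (by simp)
  · rw [(eq_one_iff_powId rt).2 e] at t1; exact absurd t1 (by simp)
  · refine Subtype.ext (Equiv.ext fun p => enc.injective (Fin.ext ?_))
    have hst : ∀ p, (enc ((s * t : M22g).1 p)).val =
        app (Data.invPair.getD 0 0) (app (Data.invPair.getD 1 0) (enc p).val) := fun p => by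
      rw [rt p, rs]; rfl
    have hh := h3 _ (enc p).isLt
    rw [← hst, ← hst, ← hst] at hh
    simpa [pow_succ, mul_assoc] using hh
  · rw [(mul_eq_mul_iff rs rt ro ro).2 (by rw [e, (eq_one_iff_powId ro).1 ho, mul_one])] at hne
    exact absurd hne (by simp)

/-- The checks on conjugates of the hexad subgroup: for two of them some image differs. -/
def repsOK : Bool :=
  Data.hexReps.all inM22 &&
    (List.range 12).all fun i => (List.range 12).all fun j => i == j ||
      JFourType.Data.hexad.any fun t => JFourType.Data.hexad.all fun s =>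
        !allBelow 24 fun k =>
          (let ai := Data.hexReps.getD i 0
           let aj := Data.hexReps.getD j 0
           -- the image of the point `aj (s k)` compared through both conjugations
           (List.range 24).any fun m => app ai m == app aj k &&
             app ai (app t m) == app aj (app s k))

theorem repsOK_holds : repsOK = true := by decide +kernel

theorem conj_hexad_injective (i j : ℕ) (hi : i < 12) (hj : j < 12) {x y : M22g}
    (rx : Rep enc x.1 (Data.hexReps.getD i 0)) (ry : Rep enc y.1 (Data.hexReps.getD j 0))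
    (e : hexadGroup.map (MulAut.conj x).toMonoidHom = hexadGroup.map (MulAut.conj y).toMonoidHom) :
    i = j := by
  have h := repsOK_holds
  simp only [repsOK, Bool.and_eq_true, List.all_eq_true, List.mem_range, Bool.or_eq_true,
    beq_iff_eq, List.any_eq_true, Bool.not_eq_true'] at h
  rcases h.2 i hi j hj with he | ⟨t, ht, hall⟩
  · exact he
  exfalso
  obtain ⟨u, ru⟩ := exists_elt (List.all_eq_true.1 hexad_inM22 t ht)
  have hm : x * u * x⁻¹ ∈ hexadGroup.map (MulAut.conj y).toMonoidHom :=
    e ▸ ⟨u, ⟨t, ht, ru⟩, rfl⟩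
  obtain ⟨v, ⟨s, hs, rv⟩, ev⟩ := hm
  have hs' := hall s hs
  rw [Bool.eq_false_iff] at hs'
  refine hs' (allBelow_iff.2 fun k hk => ?_)
  simp only [List.any_eq_true, List.mem_range, Bool.and_eq_true, beq_iff_eq]
  let p : GolayPt := x.1⁻¹ (y.1 (pt k))
  refine ⟨idx p, idx_lt p, ?_, ?_⟩
  · have h1 := rx p
    have h2 := ry (pt k)
    simp only [p, perm_apply_inv] at h1
    rw [show (enc (pt k)).val = k from idx_pt hk] at h2
    exact h1.trans h2.symm
  · have h1 := ru p
    have h2 := rx (u.1 p)
    have h3 := rv (pt k)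
    have h4 := ry (v.1 (pt k))
    rw [show (enc (pt k)).val = k from idx_pt hk] at h3
    rw [← h1] at h2
    rw [← h3] at h4
    have e' := congrArg (fun z : M22g => z.1 (y.1 (pt k))) ev
    simp only [MulEquiv.coe_toMonoidHom, MulAut.conj_apply, Subgroup.coe_mul, InvMemClass.coe_inv,
      Equiv.Perm.mul_apply, perm_inv_apply] at e'
    rw [show y.1 (v.1 (pt k)) = x.1 (u.1 p) from e'] at h4
    exact h2.trans h4.symm

/-- The normaliser of the hexad subgroup has order 5760. -/
theorem card_normalizer_hexad :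
    Nat.card (Subgroup.normalizer (hexadGroup : Set M22g)) = 5760 := by
  classical
  set N := Subgroup.normalizer (hexadGroup : Set M22g) with hN
  have hidx : 12 ≤ N.index := by
    have hrep : ∀ i : Fin 12, ∃ x : M22g, Rep enc x.1 (Data.hexReps.getD i.val 0) := fun i =>
      exists_elt (List.all_eq_true.1 (by
        have h := repsOK_holds
        simp only [repsOK, Bool.and_eq_true] at h
        exact h.1) _ (mem_of_getD ((by decide +kernel : Data.hexReps.length = 12).symm ▸ i.isLt)))
    choose x hx using hrep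
    let f : Fin 12 → M22g ⧸ N := fun i => QuotientGroup.mk (x i)
    have hf : Function.Injective f := fun i j e => by
      refine Fin.ext (conj_hexad_injective i j i.isLt j.isLt (hx i) (hx j) ?_)
      have hmem : (x i)⁻¹ * x j ∈ N := QuotientGroup.eq.1 e
      ext w
      simp only [Subgroup.mem_map_equiv, MulAut.conj_symm_apply]
      have h2 := Subgroup.mem_normalizer_iff.1 hmem ((x j)⁻¹ * w * x j)
      simp only [mul_inv_rev, inv_inv, mul_assoc, mul_inv_cancel_left]
        at h2 ⊢
      exact h2.symm
    simpa [Subgroup.index_eq_card] using Nat.card_le_card_of_injective f hf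
  obtain ⟨a, b, f, ha, hb, hf, a3, b3, hab, a1, b1, hba, hba', hf5, -, -, -, -, -⟩ :=
    exists_hexad_norm
  have h5 : 5 ∣ Nat.card N := by
    rw [← hf5, ← Subgroup.orderOf_mk f hf]
    exact orderOf_dvd_natCard _
  have h9 : 9 ∣ Nat.card N := by
    let M : Subgroup M22g := Subgroup.closure {a, b}
    have hM : M ≤ N := (Subgroup.closure_le _).2 fun y hy => by
      rcases hy with rfl | rfl
      · exact ha
      · exact hb
    have hcomm : ∀ y ∈ M, ∀ w ∈ M, y * w = w * y := by
      intro y hy w hw
      have hc : M ≤ Subgroup.centralizer (M : Set M22g) := by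
        rw [Subgroup.centralizer_closure, Subgroup.closure_le]
        intro y hy
        rw [SetLike.mem_coe, Subgroup.mem_centralizer_iff]
        intro w hw
        rcases hy with rfl | rfl <;> rcases hw with rfl | rfl
        exacts [rfl, hab.symm, hab, rfl]
      exact (Subgroup.mem_centralizer_iff.1 (hc hy) w hw).symm
    have : Fact (Nat.Prime 3) := ⟨Nat.prime_three⟩
    have hA3 : IsPGroup 3 M := by
      intro y
      refine ⟨1, Subtype.ext ?_⟩
      rw [SubmonoidClass.coe_pow, pow_one]
      show (y : M22g) ^ 3 = 1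
      refine Subgroup.closure_induction (p := fun w _ => w ^ 3 = 1) ?_ ?_ ?_ ?_ y.2
      · intro w hw
        rcases hw with rfl | rfl <;> assumption
      · exact one_pow 3
      · intro u v hu hv hu' hv'
        have hc : Commute u v := hcomm u hu v hv
        rw [hc.mul_pow, hu', hv', one_mul]
      · intro u _ hu'
        rw [inv_pow, hu', inv_one]
    obtain ⟨n, hn⟩ := IsPGroup.iff_card.1 hA3
    have ha3 : orderOf a = 3 := orderOf_eq_prime a3 a1
    have hz : Nat.card (Subgroup.zpowers a) = 3 := by rw [Nat.card_zpowers, ha3]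
    have haM : Subgroup.zpowers a ≤ M :=
      Subgroup.zpowers_le.2 (Subgroup.subset_closure (Set.mem_insert _ _))
    have hn2 : 2 ≤ n := by
      by_contra hlt
      have hMz : M ≤ Subgroup.zpowers a := (Subgroup.eq_of_le_of_card_ge haM (by
        rw [hn, hz]
        calc 3 ^ n ≤ 3 ^ 1 := Nat.pow_le_pow_right (by norm_num) (by omega)
          _ = 3 := by norm_num)).ge
      have hbz := hMz (Subgroup.subset_closure (Set.mem_insert_of_mem _ rfl))
      rw [mem_zpowers_iff_mem_range_orderOf, ha3] at hbz
      simp only [Finset.mem_image, Finset.mem_range] at hbz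
      obtain ⟨k, hk, e⟩ := hbz
      interval_cases k
      · exact b1 (by simpa using e.symm)
      · exact hba (by simpa using e.symm)
      · refine hba' ?_
        rw [← e, eq_inv_iff_mul_eq_one, ← pow_succ, a3]
    exact (show (9 : ℕ) ∣ Nat.card M from hn ▸ (by
      exact (show (9 : ℕ) = 3 ^ 2 by norm_num) ▸ pow_dvd_pow 3 hn2)).trans
      (Subgroup.card_dvd_of_le hM)
  have h128 : 128 ∣ Nat.card N := by
    rw [← card_sylGroup]
    refine Subgroup.card_dvd_of_le fun s hs => ?_
    have hsub : hexadGroup ≤ sylGroup := by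
      intro y hy
      have hk : JFourType.Data.hexad.all (fun t => JFourType.Data.syl.contains t) = true := by
        decide +kernel
      obtain ⟨t, ht, r⟩ := hy
      have hmem : y ∈ inList JFourType.Data.syl :=
        ⟨t, List.contains_iff_mem.1 (List.all_eq_true.1 hk t ht), r⟩
      rwa [← coe_sylGroup] at hmem
    have e : hexadGroup.map (MulAut.conj s).toMonoidHom = hexadGroup := by
      have : Fact (Nat.Prime 2) := ⟨Nat.prime_two⟩
      refine hexad_unique ⟨s, rfl⟩ ⟨1, by ext; simp⟩
        (IsPGroup.of_card (n := 7) (by rw [card_sylGroup]; norm_num)) ?_ hsub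
      rintro _ ⟨y, hy, rfl⟩
      exact mul_mem (mul_mem hs (hsub hy)) (inv_mem hs)
    rw [hN, Subgroup.mem_normalizer_iff]
    intro y
    conv_rhs => rw [← e]
    exact ⟨fun hy => ⟨y, hy, rfl⟩, fun ⟨w, hw, hw'⟩ => (MulAut.conj s).injective hw' ▸ hw⟩
  have hmul : Nat.card N * N.index = 443520 := by
    rw [Subgroup.card_mul_index, card_SporM22]
  have hlow : 5760 ∣ Nat.card N :=
    Nat.Coprime.mul_dvd_of_dvd_of_dvd (show Nat.Coprime 128 45 by norm_num) h128
      (Nat.Coprime.mul_dvd_of_dvd_of_dvd (show Nat.Coprime 9 5 by norm_num) h9 h5)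
  obtain ⟨m, hm⟩ := hlow
  rw [hm, mul_assoc] at hmul
  have h77 : m * N.index = 77 := by omega
  have hm7 : m * 12 ≤ 77 := h77 ▸ Nat.mul_le_mul_left m hidx
  have hmd : m ∣ 77 := ⟨_, h77.symm⟩
  have hle : m ≤ 6 := by omega
  interval_cases m <;> omega

end CfsgLib.JFourEleven
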