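import Cfsg.Agent.JFourEleven.Coord

/-!
# Fixed spaces of lifts of elementary abelian 2-subgroups of `M22`
-/

set_option autoImplicit false

namespace CfsgLib.JFourEleven

open Cfsg CfsgLib.JFourType Module
open scoped commutatorElement

namespace Cent

variable {H : Type*} [Group H] (C : Cent H)

/-- The element is trivial or the central involution. -/
def IsZ (a : H) : Prop := a = 1 ∨ a = C.z

theorem IsZ.mul {a b : H} (ha : C.IsZ a) (hb : C.IsZ b) : C.IsZ (a * b) := by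
  rcases ha with rfl | rfl <;> rcases hb with rfl | rfl
  · exact Or.inl (one_mul 1)
  · exact Or.inr (one_mul _)
  · exact Or.inr (mul_one _)
  · exact Or.inl C.z_sq

theorem IsZ.comm {a : H} (ha : C.IsZ a) (h : H) : h * a = a * h := by
  rcases ha with rfl | rfl
  · simp
  · exact C.central h

theorem IsZ.inv {a : H} (ha : C.IsZ a) : a⁻¹ = a := by
  rcases ha with rfl | rfl
  · simp
  · exact C.z_inv

/-- A lift of square one modulo the centre of a member of `B`. -/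
def Two (B : Subgroup M22g) (c : H) : Prop := ∃ m ∈ B, C.Lift c m ∧ C.IsZ (c * c)

theorem conj_inner_iff {m₁ m₂ : M22g} : (MulAut.conj m₁ : MulAut M22g) = MulAut.conj m₂ ↔ m₁ = m₂ :=
  conj_injective.eq_iff

theorem Lift.mul {c₁ c₂ : H} {m₁ m₂ : M22g} (h₁ : C.Lift c₁ m₁) (h₂ : C.Lift c₂ m₂) :
    C.Lift (c₁ * c₂) (m₁ * m₂) :=
  ⟨mul_mem h₁.1 h₂.1, by rw [map_mul, map_mul, h₁.2, h₂.2]⟩

theorem Lift.inv {c : H} {m : M22g} (h : C.Lift c m) : C.Lift c⁻¹ m⁻¹ :=
  ⟨inv_mem h.1, by rw [map_inv, map_inv, h.2]⟩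

theorem Lift.conj {c₁ c₂ : H} {m₁ m₂ : M22g} (h₁ : C.Lift c₁ m₁) (h₂ : C.Lift c₂ m₂) :
    C.Lift (c₁ * c₂ * c₁⁻¹) (m₁ * m₂ * m₁⁻¹) :=
  Lift.mul C (Lift.mul C h₁ h₂) (Lift.inv C h₁)

theorem Lift.pow {c : H} {m : M22g} (h : C.Lift c m) (n : ℕ) : C.Lift (c ^ n) (m ^ n) :=
  ⟨pow_mem h.1 n, by rw [map_pow, map_pow, h.2]⟩

theorem Lift.unique {c : H} {m₁ m₂ : M22g} (h₁ : C.Lift c m₁) (h₂ : C.Lift c m₂) : m₁ = m₂ :=
  conj_injective (h₁.2.symm.trans h₂.2)

theorem Lift.mem_ker {c : H} (h : C.Lift c 1) : c ∈ C.pr.ker := by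
  rw [MonoidHom.mem_ker, h.2, map_one]

variable [Finite H]

theorem eq_one_of_sq {y : H} (hy : y ∈ C.P) (h : C.IsZ (y * y)) : y = 1 := by
  have h2 : y * y = 1 := by
    rcases h with h | h
    · exact h
    · exact absurd (C.eq_one_of_E_P (h ▸ C.z_mem) (mul_mem hy hy)) (h ▸ C.z_ne)
  have h3 := C.pow_three hy
  rwa [pow_succ, pow_two, h2, one_mul] at h3

/-- Two lifts differ by a central element of the kernel. -/
theorem lift_diff {c₁ c₂ : H} {m : M22g} (h₁ : C.Lift c₁ m) (h₂ : C.Lift c₂ m) :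
    ∃ y ∈ C.P, c₂ = c₁ * y ∨ c₂ = c₁ * (C.z * y) := by
  have h := Lift.mul C (Lift.inv C h₁) h₂
  rw [inv_mul_cancel] at h
  obtain ⟨y, hy, e | e⟩ := C.ker_CP (Lift.mem_ker C h) h.1
  · exact ⟨y, hy, Or.inl (by rw [← e, mul_inv_cancel_left])⟩
  · exact ⟨y, hy, Or.inr (by rw [← e, mul_inv_cancel_left])⟩

theorem P_comm_CP {y c : H} (hy : y ∈ C.P) (hc : c ∈ C.CP) : c * y = y * c :=
  (C.mem_CP.1 hc y hy).symm

theorem exists_two {B : Subgroup M22g} {m : M22g} (hm : m ∈ B) (h2 : m * m = 1) :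
    ∃ c, C.Two B c ∧ C.Lift c m := by
  obtain ⟨c, hc⟩ := C.exists_lift m
  have h := Lift.mul C hc hc
  rw [h2] at h
  obtain ⟨y, hy, e⟩ := C.ker_CP (Lift.mem_ker C h) h.1
  have hy1 : C.Lift y 1 := ⟨C.mem_CP.2 fun w hw => by
    rcases C.mem_P hw with rfl | rfl | rfl <;> rcases C.mem_P hy with rfl | rfl | rfl <;>
      simp [mul_assoc], by rw [MonoidHom.mem_ker.1 (C.P_le hy), map_one]⟩
  have hL : C.Lift (c * y) m := by simpa using Lift.mul C hc hy1
  refine ⟨c * y, ⟨m, hm, hL, ?_⟩, hL⟩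
  have hcy : Commute c y := C.P_comm_CP hy hc.1
  have hy3 : y * y * y = 1 := by rw [← C.pow_three hy, pow_succ, pow_two]
  rw [show c * y * (c * y) = c * (y * c) * y by group, ← hcy.eq,
    show c * (c * y) * y = (c * c) * (y * y) by group]
  rcases e with e | e <;> rw [e]
  · exact Or.inl (by rw [← mul_assoc, hy3])
  · exact Or.inr (by rw [show C.z * y * (y * y) = C.z * (y * y * y) by group, hy3, mul_one])

theorem two_unique {c₁ c₂ : H} {m : M22g} (h₁ : C.Lift c₁ m) (h₂ : C.Lift c₂ m)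
    (z₁ : C.IsZ (c₁ * c₁)) (z₂ : C.IsZ (c₂ * c₂)) : c₂ = c₁ ∨ c₂ = c₁ * C.z := by
  obtain ⟨y, hy, e⟩ := C.lift_diff h₁ h₂
  have hcy : Commute c₁ y := C.P_comm_CP hy h₁.1
  have key : c₂ * c₂ = c₁ * c₁ * (y * y) := by
    rcases e with rfl | rfl
    · rw [show c₁ * y * (c₁ * y) = c₁ * (y * c₁) * y by group, ← hcy.eq]; group
    · rw [show c₁ * (C.z * y) * (c₁ * (C.z * y)) = c₁ * C.z * (y * c₁) * C.z * y by group,
        ← hcy.eq, C.central c₁,
        show C.z * c₁ * (c₁ * y) * C.z * y = C.z * (c₁ * c₁ * y * C.z) * y by group,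
        C.central (c₁ * c₁ * y), show C.z * (C.z * (c₁ * c₁ * y)) * y =
          C.z * C.z * (c₁ * c₁ * (y * y)) by group, C.z_sq, one_mul]
  have hyz : C.IsZ (y * y) := by
    have := IsZ.mul C (z₁) z₂
    rw [key, ← mul_assoc] at this
    have hz4 : c₁ * c₁ * (c₁ * c₁) = 1 := by
      rcases z₁ with e1 | e1 <;> rw [e1]
      exacts [one_mul 1, C.z_sq]
    rwa [hz4, one_mul] at this
  obtain rfl := C.eq_one_of_sq hy hyz
  simpa using e

theorem two_mul {B : Subgroup M22g} (hB : ∀ m ∈ B, m * m = 1) {c₁ c₂ : H} (h₁ : C.Two B c₁)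
    (h₂ : C.Two B c₂) : C.Two B (c₁ * c₂) ∧ C.IsZ (c₁ * c₂ * c₁⁻¹ * c₂⁻¹) := by
  obtain ⟨m₁, hm₁, l₁, z₁⟩ := h₁
  obtain ⟨m₂, hm₂, l₂, z₂⟩ := h₂
  set k := c₁ * c₂ * c₁⁻¹ * c₂⁻¹ with hk
  have i₁ : m₁⁻¹ = m₁ := inv_eq_of_mul_eq_one_right (hB _ hm₁)
  have i₂ : m₂⁻¹ = m₂ := inv_eq_of_mul_eq_one_right (hB _ hm₂)
  have hkl : C.Lift k (m₁ * m₂ * m₁⁻¹ * m₂⁻¹) := Lift.mul C (Lift.conj C l₁ l₂) (Lift.inv C l₂)
  rw [i₁, i₂, mul_assoc (m₁ * m₂), hB _ (mul_mem hm₁ hm₂)] at hkl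
  obtain ⟨hcomm, -⟩ := C.mem_center_part (Lift.mem_ker C hkl) hkl.1
  have hkk : k * k = 1 := by
    have e1 : c₁ * (c₁ * c₂ * c₁⁻¹) * c₁⁻¹ = c₂ := by
      rw [show c₁ * (c₁ * c₂ * c₁⁻¹) * c₁⁻¹ = (c₁ * c₁) * c₂ * (c₁ * c₁)⁻¹ by group,
        ← IsZ.comm C z₁ c₂, mul_inv_cancel_right]
    have e2 : c₁ * c₂ * c₁⁻¹ = k * c₂ := by rw [hk]; group
    rw [e2, show c₁ * (k * c₂) * c₁⁻¹ = (c₁ * k) * c₂ * c₁⁻¹ by group, hcomm c₁ l₁.1,
      show k * c₁ * c₂ * c₁⁻¹ = k * (c₁ * c₂ * c₁⁻¹) by group, e2, ← mul_assoc] at e1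
    exact mul_eq_right.1 e1
  have hkz : C.IsZ k := by
    obtain ⟨y, hy, e⟩ := C.ker_CP (Lift.mem_ker C hkl) hkl.1
    have hyy : C.IsZ (y * y) := by
      rcases e with e | e <;> rw [e] at hkk
      · exact Or.inl hkk
      · refine Or.inl ?_
        rwa [mul_assoc, ← mul_assoc y, C.central y, mul_assoc C.z, ← mul_assoc, C.z_sq,
          one_mul] at hkk
    obtain rfl := C.eq_one_of_sq hy hyy
    simpa [IsZ] using e
  refine ⟨⟨_, mul_mem hm₁ hm₂, Lift.mul C l₁ l₂, ?_⟩, hkz⟩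
  have e3 : c₂ * c₁ = k⁻¹ * (c₁ * c₂) := by rw [hk]; group
  rw [show c₁ * c₂ * (c₁ * c₂) = c₁ * (c₂ * c₁) * c₂ by group, e3, IsZ.inv C hkz,
    show c₁ * (k * (c₁ * c₂)) * c₂ = (c₁ * k) * (c₁ * (c₂ * c₂)) by group, IsZ.comm C hkz c₁,
    show k * c₁ * (c₁ * (c₂ * c₂)) = k * (c₁ * c₁) * (c₂ * c₂) by group]
  exact IsZ.mul C (IsZ.mul C hkz z₁) z₂

/-- The lifts of square one modulo the centre. -/
def twoGroup (B : Subgroup M22g) (hB : ∀ m ∈ B, m * m = 1) : Subgroup H where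
  carrier := {c | C.Two B c}
  mul_mem' h₁ h₂ := (C.two_mul hB h₁ h₂).1
  one_mem' := ⟨1, one_mem _, ⟨one_mem _, by rw [map_one, map_one]⟩, Or.inl (mul_one 1)⟩
  inv_mem' {c} := fun ⟨m, hm, hl, hz⟩ =>
    ⟨m⁻¹, inv_mem hm, Lift.inv C hl, by rw [← mul_inv_rev, IsZ.inv C hz]; exact hz⟩

theorem isPGroup_twoGroup (B : Subgroup M22g) (hB : ∀ m ∈ B, m * m = 1) :
    IsPGroup 2 (C.twoGroup B hB) := by
  intro c
  obtain ⟨m, -, -, hz⟩ := c.2
  refine ⟨2, Subtype.ext ?_⟩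
  rw [SubmonoidClass.coe_pow, OneMemClass.coe_one, show (2 : ℕ) ^ 2 = 2 * 2 by norm_num, pow_mul,
    pow_two, pow_two]
  rcases hz with e | e <;> rw [e]
  exacts [one_mul 1, C.z_sq]

theorem conj_two {B B' : Subgroup M22g} {n d : H} (hn : n ∈ Subgroup.normalizer (C.P : Set H))
    (hB : ∀ m ∈ B, (C.pr n) m ∈ B') (h : C.Two B d) : C.Two B' (n * d * n⁻¹) := by
  obtain ⟨m, hm, ⟨hd, hdm⟩, hz⟩ := h
  refine ⟨_, hB m hm, ⟨C.mem_CP.2 fun w hw => ?_, ?_⟩, ?_⟩
  · have hw' : n⁻¹ * w * n ∈ C.P := by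
      simpa using (Subgroup.mem_normalizer_iff.1 (inv_mem hn) w).1 hw
    calc w * (n * d * n⁻¹) = n * ((n⁻¹ * w * n) * d) * n⁻¹ := by group
      _ = n * (d * (n⁻¹ * w * n)) * n⁻¹ := by rw [C.mem_CP.1 hd _ hw']
      _ = n * d * n⁻¹ * w := by group
  · rw [map_mul, map_mul, map_inv, hdm]
    refine MulEquiv.ext fun y => ?_
    simp
  · rw [show n * d * n⁻¹ * (n * d * n⁻¹) = n * (d * d) * n⁻¹ by group, IsZ.comm C hz,
      mul_inv_cancel_right]
    exact hz

theorem lift_normalizer {c : H} {d : M22g} (h : C.Lift c d) :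
    c ∈ Subgroup.normalizer (C.P : Set H) := Subgroup.centralizer_le_normalizer _ h.1

/-- Two involutions with product of order three have a lift of order three of the product. -/
theorem exists_three {m : M22g} (hm : orderOf m = 3) : ∃ c, C.Lift c m ∧ c ^ 3 = 1 := by
  obtain ⟨s, t, hs, ht, hst⟩ := exists_involution_pair
  obtain ⟨d, hd⟩ := isConj_iff.1 (isConj_three hst hm)
  obtain ⟨cd, hcd⟩ := C.exists_lift d
  suffices h : ∃ c, C.Lift c (s * t) ∧ c ^ 3 = 1 by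
    obtain ⟨c, hc, h3⟩ := h
    refine ⟨cd * c * cd⁻¹, hd ▸ Lift.conj C hcd hc, ?_⟩
    rw [conj_pow, h3, mul_one, mul_inv_cancel]
  have hs2 : s * s = 1 := by rw [← pow_two, ← hs, pow_orderOf_eq_one]
  have ht2 : t * t = 1 := by rw [← pow_two, ← ht, pow_orderOf_eq_one]
  obtain ⟨cs, ⟨_, -, -, zs⟩, ls⟩ := C.exists_two (Subgroup.mem_top s) hs2
  obtain ⟨ct, ⟨_, -, -, zt⟩, lt⟩ := C.exists_two (Subgroup.mem_top t) ht2
  set c := cs * ct with hc
  have hl : C.Lift c (s * t) := Lift.mul C ls lt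
  have hl3 := Lift.pow C hl 3
  rw [show (s * t) ^ 3 = 1 by rw [← hst, pow_orderOf_eq_one]] at hl3
  obtain ⟨hcomm, -⟩ := C.mem_center_part (Lift.mem_ker C hl3) hl3.1
  obtain ⟨u, hu, e1⟩ : ∃ u, C.IsZ u ∧ cs * c * cs⁻¹ = c⁻¹ * u := by
    refine ⟨cs * cs * (ct * ct), IsZ.mul C zs zt, ?_⟩
    have hcs : cs⁻¹ = cs * (cs * cs) := by
      rw [← mul_left_inj cs, inv_mul_cancel,
        show cs * (cs * cs) * cs = (cs * cs) * (cs * cs) by group]
      rcases zs with e | e <;> rw [e]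
      exacts [(one_mul 1).symm, C.z_sq.symm]
    rw [hc]
    calc cs * (cs * ct) * cs⁻¹ = (cs * cs) * ct * cs⁻¹ := by group
      _ = ct * (cs * cs) * cs⁻¹ := by rw [IsZ.comm C zs ct]
      _ = ct * cs := by group
      _ = ct⁻¹ * ((ct * ct) * cs) := by group
      _ = ct⁻¹ * (cs * (ct * ct)) := by rw [IsZ.comm C zt cs]
      _ = ct⁻¹ * cs⁻¹ * (cs * cs * (ct * ct)) := by group
      _ = (cs * ct)⁻¹ * (cs * cs * (ct * ct)) := by rw [mul_inv_rev]
  have hz3 : C.IsZ (c ^ 3) := by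
    have e2 : c ^ 3 = c⁻¹ ^ 3 * u := by
      have h1 : cs * c ^ 3 * cs⁻¹ = c ^ 3 := by rw [hcomm cs ls.1, mul_inv_cancel_right]
      have hcu : Commute c⁻¹ u := IsZ.comm C hu c⁻¹
      rw [← conj_pow, e1, hcu.mul_pow] at h1
      rw [← h1]
      congr 1
      rcases hu with rfl | rfl
      · simp
      · rw [pow_succ, pow_two, C.z_sq, one_mul]
    have e3 : C.IsZ (c ^ 3 * c ^ 3) := by
      nth_rewrite 1 [e2]
      rw [mul_assoc, ← IsZ.comm C hu (c ^ 3), ← mul_assoc, inv_pow, inv_mul_cancel, one_mul]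
      exact hu
    obtain ⟨y, hy, e | e⟩ := C.ker_CP (Lift.mem_ker C hl3) hl3.1 <;> rw [e] at e3 ⊢
    · rw [C.eq_one_of_sq hy e3]; exact Or.inl rfl
    · rw [show C.z * y * (C.z * y) = C.z * (y * C.z) * y by group, C.central y,
        show C.z * (C.z * y) * y = (C.z * C.z) * (y * y) by group, C.z_sq, one_mul] at e3
      rw [C.eq_one_of_sq hy e3, mul_one]; exact Or.inr rfl
  refine ⟨c ^ 4, ?_, ?_⟩
  · have := Lift.pow C hl 4
    rwa [show (s * t) ^ 4 = s * t by rw [pow_succ, ← hst, pow_orderOf_eq_one, one_mul]] at this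
  · rw [← pow_mul, show 4 * 3 = 3 * 4 by norm_num, pow_mul]
    rcases hz3 with e | e <;> rw [e]
    · rw [one_pow]
    · rw [show 4 = 2 * 2 by norm_num, pow_mul, pow_two C.z, C.z_sq, one_pow]

/-- Elements of the centraliser of `P` commuting modulo nothing would give an abelian Sylow
3-subgroup. -/
theorem not_commute {a b : H} {ma mb : M22g} (la : C.Lift a ma) (lb : C.Lift b mb)
    (a3 : a ^ 3 = 1) (b3 : b ^ 3 = 1) (ha : ma ≠ 1) (hb : mb ≠ 1) (hne : mb ≠ ma)
    (hne' : mb ≠ ma⁻¹) : a * b ≠ b * a := by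
  classical
  intro hab
  set S : Subgroup H := Subgroup.closure {C.x, a, b} with hS
  have hSC : S ≤ C.CP := (Subgroup.closure_le _).2 fun w hw => by
    rcases hw with rfl | rfl | rfl
    exacts [C.x_CP, la.1, lb.1]
  have hcomm : ∀ w ∈ S, ∀ u ∈ S, w * u = u * w := by
    intro w hw u hu
    have hc : S ≤ Subgroup.centralizer (S : Set H) := by
      rw [hS, Subgroup.centralizer_closure, Subgroup.closure_le]
      intro v hv
      rw [SetLike.mem_coe, Subgroup.mem_centralizer_iff]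
      intro v' hv'
      have hxa := C.P_comm_CP C.x_mem la.1
      have hxb := C.P_comm_CP C.x_mem lb.1
      rcases hv with rfl | rfl | rfl <;> rcases hv' with rfl | rfl | rfl
      exacts [rfl, hxa, hxb, hxa.symm, rfl, hab.symm, hxb.symm, hab, rfl]
    exact (Subgroup.mem_centralizer_iff.1 (hc hw) u hu).symm
  have hexp : ∀ w ∈ S, w ^ 3 = 1 := fun w hw => by
    refine Subgroup.closure_induction (p := fun w _ => w ^ 3 = 1) ?_ ?_ ?_ ?_ hw
    · intro w hw
      rcases hw with rfl | rfl | rfl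
      exacts [C.pow_three C.x_mem, a3, b3]
    · exact one_pow 3
    · intro u v hu hv hu' hv'
      have hc : Commute u v := hcomm u hu v hv
      rw [hc.mul_pow, hu', hv', one_mul]
    · intro u _ hu'
      rw [inv_pow, hu', inv_one]
  have : Fact (Nat.Prime 3) := ⟨Nat.prime_three⟩
  have hp : IsPGroup 3 S := fun w => ⟨1, Subtype.ext (by
    rw [SubmonoidClass.coe_pow, pow_one, OneMemClass.coe_one]; exact hexp w w.2)⟩
  obtain ⟨k, hk⟩ := IsPGroup.iff_card.1 hp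
  let f : S →* MulAut M22g := C.pr.comp S.subtype
  have hker : 3 ≤ Nat.card f.ker := by
    have hle : C.P.subgroupOf S ≤ f.ker := fun w hw => C.P_le (Subgroup.mem_subgroupOf.1 hw)
    have hPS : C.P ≤ S := by
      rw [← C.zpowers_x]
      exact Subgroup.zpowers_le.2 (Subgroup.subset_closure (Set.mem_insert _ _))
    calc 3 = Nat.card (C.P.subgroupOf S) := by
          rw [Nat.card_congr (Subgroup.subgroupOfEquivOfLe hPS).toEquiv, C.cardP]
      _ ≤ _ := Subgroup.card_le_of_le hle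
  obtain ⟨r, hr⟩ : ∃ r, Nat.card f.range = 3 ^ r := by
    obtain ⟨r, -, hr⟩ := (Nat.dvd_prime_pow Nat.prime_three).1
      (hk ▸ Subgroup.card_range_dvd f)
    exact ⟨r, hr⟩
  have hr2 : 2 ≤ r := by
    by_contra hlt
    have haS : a ∈ S := Subgroup.subset_closure (by simp)
    have hbS : b ∈ S := Subgroup.subset_closure (by simp)
    let q : Fin 4 → f.range := ![1, ⟨_, ⟨a, haS⟩, la.2⟩, ⟨_, ⟨b, hbS⟩, lb.2⟩,
      ⟨_, ⟨a⁻¹, inv_mem haS⟩, (Lift.inv C la).2⟩]
    have hq : Function.Injective q := by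
      have i1 : ma ≠ ma⁻¹ := fun e => ha (by
        have h2 : ma * ma = 1 := by nth_rewrite 2 [e]; exact mul_inv_cancel _
        have h3 : ma ^ 3 = 1 := conj_injective (by
          rw [map_pow, map_one, ← la.2, ← map_pow, a3, map_one])
        rwa [pow_succ, pow_two, h2, one_mul] at h3)
      intro i j h
      have hh := congrArg Subtype.val h
      fin_cases i <;> fin_cases j <;> first | rfl | skip
      all_goals
        simp [q] at hh
      all_goals first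
        | exact absurd (conj_injective (hh.trans (map_one _).symm)) ha
        | exact absurd (conj_injective (hh.symm.trans (map_one _).symm)) ha
        | exact absurd (conj_injective (hh.trans (map_one _).symm)) hb
        | exact absurd (conj_injective (hh.symm.trans (map_one _).symm)) hb
        | exact absurd (conj_injective hh) hne
        | exact absurd (conj_injective hh).symm hne
        | exact absurd (conj_injective hh) i1
        | exact absurd (conj_injective hh).symm i1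
        | exact absurd (conj_injective (hh.trans (map_inv _ _).symm)) hne'
        | exact absurd (conj_injective (hh.symm.trans (map_inv _ _).symm)) hne'
        | exact absurd (conj_injective (hh.trans (map_inv _ _).symm)) i1
        | exact absurd (conj_injective (hh.symm.trans (map_inv _ _).symm)) i1
        | exact absurd (by simpa using hh : ma = 1) ha
        | exact absurd (by simpa using hh.symm : ma = 1) ha
    have h4 := Nat.card_le_card_of_injective q hq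
    rw [Nat.card_fin, hr] at h4
    have : 3 ^ r ≤ 3 ^ 1 := Nat.pow_le_pow_right (by norm_num) (by omega)
    omega
  have h27 : 27 ≤ Nat.card S := by
    rw [Subgroup.card_eq_card_quotient_mul_card_subgroup f.ker,
      Nat.card_congr (QuotientGroup.quotientKerEquivRange f).toEquiv, hr]
    calc 27 = 3 ^ 2 * 3 := by norm_num
      _ ≤ 3 ^ r * Nat.card f.ker := Nat.mul_le_mul (Nat.pow_le_pow_right (by norm_num) hr2) hker
  have hS27 : Nat.card S = 27 := by
    have hd : 3 ^ k ∣ 6 * 443520 := hk ▸ C.card_CP ▸ Subgroup.card_dvd_of_le hSC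
    rw [hk] at h27 ⊢
    have hk3 : k ≤ 3 := by
      by_contra hgt
      exact absurd ((pow_dvd_pow 3 (show 4 ≤ k by omega)).trans hd) (by norm_num)
    interval_cases k <;> omega
  let K : Subgroup C.CP := S.subgroupOf C.CP
  have hKidx : K.index = 98560 := by
    have h1 := Subgroup.card_mul_index K
    rw [Nat.card_congr (Subgroup.subgroupOfEquivOfLe hSC).toEquiv, hS27, C.card_CP] at h1
    omega
  let _ : CommGroup K :=
    { (inferInstance : Group K) with
      mul_comm := fun u v => Subtype.ext (Subtype.ext (hcomm _ u.2 _ v.2)) }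
  let T : C.CP →* K := MonoidHom.transfer (MonoidHom.id K)
  let xc : C.CP := ⟨C.x, C.x_CP⟩
  have hT : T xc = 1 := by
    have hx : xc ∈ (commutator C.CP) := by
      have h := C.perfect C.x_mem
      rw [← Subgroup.map_subtype_commutator] at h
      obtain ⟨w, hw, e⟩ := h
      rwa [show xc = w from Subtype.ext e.symm]
    exact Abelianization.commutator_subset_ker T hx
  have hxS : C.x ∈ S := Subgroup.subset_closure (Set.mem_insert _ _)
  have hxK : xc ^ K.index ∈ K := pow_mem (show xc ∈ K from hxS) _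
  have hcentral : ∀ w : C.CP, w * xc = xc * w := fun w =>
    Subtype.ext (C.P_comm_CP C.x_mem w.2)
  have key : ∀ (j : ℕ) (g₀ : C.CP), g₀⁻¹ * xc ^ j * g₀ ∈ K → g₀⁻¹ * xc ^ j * g₀ = xc ^ j := by
    intro j g₀ _
    rw [mul_assoc, ← (Commute.pow_right (hcentral g₀ : Commute g₀ xc) j).eq, inv_mul_cancel_left]
  have e := MonoidHom.transfer_eq_pow (MonoidHom.id K) xc key
  rw [show MonoidHom.transfer (MonoidHom.id K) xc = T xc from rfl, hT] at e
  have e' : C.x ^ 98560 = 1 := by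
    have := congrArg (fun w : K => (w.1.1 : H)) e
    simpa [hKidx, xc] using this.symm
  have := orderOf_dvd_of_pow_eq_one e'
  rw [C.orderOf_x] at this
  norm_num at this

/-- The commutator of lifts of two commuting elements of order three generating nine, with the
tables of the two elements. -/
theorem exists_triple_rep : ∃ (a b : M22g) (cb : H),
    (CfsgLib.Mathieu.Rep CfsgLib.Mathieu.enc a.1 Data.hexA ∧
      CfsgLib.Mathieu.Rep CfsgLib.Mathieu.enc b.1 Data.hexB) ∧ cb ^ 3 = 1 ∧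
    a ∈ Subgroup.normalizer (hexadGroup : Set M22g) ∧
    b ∈ Subgroup.normalizer (hexadGroup : Set M22g) ∧ orderOf a = 3 ∧ C.Lift cb b ∧
    ∀ c, C.Lift c a → cb * c * cb⁻¹ = c * C.x ∨ cb * c * cb⁻¹ = c * (C.x * C.x) := by
  obtain ⟨a, b, f, ha, hb, -, a3, b3, hab, a1, b1, hba, hba', -, -, -, ra, rb, -⟩ := exists_hexad_norm
  have : Fact (Nat.Prime 3) := ⟨Nat.prime_three⟩
  have oa : orderOf a = 3 := orderOf_eq_prime a3 a1
  obtain ⟨ca, la, ca3⟩ := C.exists_three oa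
  obtain ⟨cb, lb, cb3⟩ := C.exists_three (orderOf_eq_prime b3 b1)
  set k := ca⁻¹ * (cb * ca * cb⁻¹) with hk
  have hkl : C.Lift k (a⁻¹ * (b * a * b⁻¹)) := Lift.mul C (Lift.inv C la) (Lift.conj C lb la)
  rw [← hab, mul_inv_cancel_right, inv_mul_cancel] at hkl
  obtain ⟨hcomm, -⟩ := C.mem_center_part (Lift.mem_ker C hkl) hkl.1
  have hk3 : k ^ 3 = 1 := by
    have h1 : cb * ca * cb⁻¹ = ca * k := by rw [hk, mul_inv_cancel_left]
    have h2 := congrArg (fun w => w ^ 3) h1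
    simp only [conj_pow, ca3, mul_one, mul_inv_cancel] at h2
    have hck : Commute ca k := hcomm ca la.1
    rw [hck.mul_pow, ca3, one_mul] at h2
    exact h2.symm
  obtain ⟨y, hy, e⟩ := C.ker_CP (Lift.mem_ker C hkl) hkl.1
  have hky : k = y := by
    rcases e with e | e
    · exact e
    · exfalso
      have hzy : Commute C.z y := (C.central y).symm
      rw [e, hzy.mul_pow, C.pow_three hy, mul_one, pow_succ, pow_two, C.z_sq, one_mul] at hk3
      exact C.z_ne hk3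
  have hy1 : y ≠ 1 := fun e => C.not_commute la lb ca3 cb3 a1 b1 hba hba' (by
    rw [e, hk, inv_mul_eq_one] at hky
    exact eq_mul_inv_iff_mul_eq.1 hky)
  refine ⟨a, b, cb, ⟨ra, rb⟩, cb3, ha, hb, oa, lb, fun c hc => ?_⟩
  obtain ⟨w, hw, hcw⟩ := C.lift_diff la hc
  have hyx : y = C.x ∨ y = C.x * C.x := (C.mem_P hy).resolve_left hy1
  have main : cb * c * cb⁻¹ = c * y := by
    have h1 : cb * ca * cb⁻¹ = ca * y := by rw [← hky, hk, mul_inv_cancel_left]
    have hcl : ∀ w' : H, cb * w' = w' * cb → y * w' = w' * y →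
        cb * (ca * w') * cb⁻¹ = ca * w' * y := fun w' h h' => by
      rw [show cb * (ca * w') * cb⁻¹ = (cb * ca * cb⁻¹) * (cb * w' * cb⁻¹) by group, h1, h,
        mul_inv_cancel_right, mul_assoc, h', ← mul_assoc]
    have hyw : y * w = w * y := by
      rcases C.mem_P hy with rfl | rfl | rfl <;> rcases C.mem_P hw with rfl | rfl | rfl <;>
        simp [mul_assoc]
    rcases hcw with rfl | rfl
    · exact hcl w (C.P_comm_CP hw lb.1) hyw
    · refine hcl _ ?_ ?_
      · rw [← mul_assoc, C.central, mul_assoc, C.P_comm_CP hw lb.1, mul_assoc]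
      · rw [← mul_assoc, C.central, mul_assoc, hyw, mul_assoc]
  rcases hyx with rfl | rfl
  · exact Or.inl main
  · exact Or.inr main

/-- The same without the tables. -/
theorem exists_triple_three : ∃ (a b : M22g) (cb : H), cb ^ 3 = 1 ∧
    a ∈ Subgroup.normalizer (hexadGroup : Set M22g) ∧
    b ∈ Subgroup.normalizer (hexadGroup : Set M22g) ∧ orderOf a = 3 ∧ C.Lift cb b ∧
    ∀ c, C.Lift c a → cb * c * cb⁻¹ = c * C.x ∨ cb * c * cb⁻¹ = c * (C.x * C.x) := by
  obtain ⟨a, b, cb, -, h⟩ := C.exists_triple_rep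
  exact ⟨a, b, cb, h⟩

/-- The same without the order of the second lift. -/
theorem exists_triple : ∃ (a b : M22g) (cb : H),
    a ∈ Subgroup.normalizer (hexadGroup : Set M22g) ∧
    b ∈ Subgroup.normalizer (hexadGroup : Set M22g) ∧ orderOf a = 3 ∧ C.Lift cb b ∧
    ∀ c, C.Lift c a → cb * c * cb⁻¹ = c * C.x ∨ cb * c * cb⁻¹ = c * (C.x * C.x) := by
  obtain ⟨a, b, cb, -, h⟩ := C.exists_triple_three
  exact ⟨a, b, cb, h⟩

namespace Coord

variable {C} (D : C.Coord)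

/-- The vectors fixed by the lifts. -/
def fixB (B : Subgroup M22g) : Submodule (ZMod 2) Vec :=
  ⨅ (c : H) (_ : C.Two B c), fixed (D.ρ c)

omit [Finite H] in
theorem mem_fixB {B : Subgroup M22g} {v : Vec} :
    v ∈ D.fixB B ↔ ∀ c, C.Two B c → D.ρ c v = v := by
  simp [fixB, Submodule.mem_iInf, mem_fixed]

theorem fixB_map {B B' : Subgroup M22g} {n : H} (hn : n ∈ Subgroup.normalizer (C.P : Set H))
    (hB : ∀ m ∈ B', (C.pr n⁻¹) m ∈ B) {v : Vec} (hv : v ∈ D.fixB B) : D.ρ n v ∈ D.fixB B' := by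
  rw [D.mem_fixB] at hv ⊢
  intro c hc
  have h := hv _ (C.conj_two (inv_mem hn) hB hc)
  rw [inv_inv] at h
  conv_rhs => rw [← h]
  rw [D.ρ_apply_apply, D.ρ_apply_apply]
  congr 2
  group

theorem fixB_lift {B : Subgroup M22g} {c : H} {d : M22g} (hc : C.Lift c d)
    (hd : d ∈ Subgroup.normalizer (B : Set M22g)) {v : Vec} (hv : v ∈ D.fixB B) :
    D.ρ c v ∈ D.fixB B := by
  refine D.fixB_map (C.lift_normalizer hc) (fun m hm => ?_) hv
  rw [map_inv, hc.2, ← map_inv, MulAut.conj_apply]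
  exact (Subgroup.mem_normalizer_iff.1 (inv_mem hd) m).1 hm

theorem fixB_x {B : Subgroup M22g} {v : Vec} (hv : v ∈ D.fixB B) : D.ρ C.x v ∈ D.fixB B :=
  D.fixB_lift (d := 1) ⟨C.x_CP, by rw [MonoidHom.mem_ker.1 (C.P_le C.x_mem), map_one]⟩
    (one_mem _) hv

theorem ρ_z : D.ρ C.z = 1 := D.ρ_E C.z_mem

theorem ρ_isZ {u : H} (hu : C.IsZ u) : D.ρ u = 1 := by
  rcases hu with rfl | rfl
  exacts [map_one _, D.ρ_z]

theorem fixed_P {y : H} (hy : y ∈ C.P) {v : Vec} (hv : v ≠ 0) (h : D.ρ y v = v) : y = 1 := by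
  rcases C.mem_P hy with rfl | rfl | rfl
  · rfl
  · exact absurd (D.x_fixed h) hv
  · refine absurd (D.x_fixed ?_) hv
    have h3 : C.x * (C.x * C.x) = 1 := by
      rw [← C.pow_three C.x_mem]; simp [pow_succ, mul_assoc]
    conv_lhs => rw [← h, D.ρ_apply_apply, h3, map_one, Module.End.one_apply]

theorem ρ_two_eq {c₁ c₂ : H} {m : M22g} (h₁ : C.Lift c₁ m) (h₂ : C.Lift c₂ m)
    (z₁ : C.IsZ (c₁ * c₁)) (z₂ : C.IsZ (c₂ * c₂)) : D.ρ c₂ = D.ρ c₁ := by
  rcases C.two_unique h₁ h₂ z₁ z₂ with rfl | rfl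
  · rfl
  · rw [map_mul, D.ρ_z, mul_one]

/-- A lift fixing a non-zero vector of an element of order at most two has square one modulo the
centre; likewise for order three. -/
theorem isZ_of_fix {c : H} {m : M22g} (hc : C.Lift c m) {v : Vec} (hv : v ≠ 0)
    (hfix : D.ρ c v = v) {n : ℕ} (hm : m ^ n = 1) : C.IsZ (c ^ n) := by
  have hl := Lift.pow C hc n
  rw [hm] at hl
  have hn : D.ρ (c ^ n) v = v := by
    clear hl hm
    induction n with
    | zero => simp
    | succ n ih => rw [pow_succ, map_mul, Module.End.mul_apply, hfix, ih]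
  obtain ⟨y, hy, e | e⟩ := C.ker_CP (Lift.mem_ker C hl) hl.1 <;> rw [e] at hn ⊢
  · exact Or.inl (D.fixed_P hy hv hn)
  · rw [map_mul, D.ρ_z, one_mul] at hn
    exact Or.inr (by rw [D.fixed_P hy hv hn, mul_one])

theorem intertwine {t t' d : H} (h : d * t = t' * d) :
    finrank (ZMod 2) (fixed (D.ρ t)) ≤ finrank (ZMod 2) (fixed (D.ρ t')) := by
  have := finrank_le_of_intertwine (t := D.ρ t) (t' := D.ρ t') (b := D.ρ d) ⊤
    (fun _ _ => Submodule.mem_top) (fun v => D.ρ_injective d) (by rw [← map_mul, h, map_mul])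
  rwa [top_inf_eq, top_inf_eq] at this

theorem triple_dim {a b : M22g} {cb c : H} (hc : C.Lift c a) (hcb : C.Lift cb b)
    (hrel : cb * c * cb⁻¹ = c * C.x ∨ cb * c * cb⁻¹ = c * (C.x * C.x)) (h3 : (D.ρ c) ^ 3 = 1)
    (U : Submodule (ZMod 2) Vec) (hUc : ∀ v ∈ U, D.ρ c v ∈ U)
    (hUx : ∀ v ∈ U, D.ρ C.x v ∈ U) (hUb : ∀ v ∈ U, D.ρ cb v ∈ U) :
    finrank (ZMod 2) U = 3 * finrank (ZMod 2) ↥(U ⊓ fixed (D.ρ c)) := by
  refine triple h3 D.x_sum (by rw [← map_mul, ← map_mul, C.P_comm_CP C.x_mem hc.1])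
    (by rw [← map_mul, ← map_mul, C.P_comm_CP C.x_mem hcb.1]) ?_
    (fun v => D.ρ_injective cb) U hUc hUx hUb
  rcases hrel with e | e
  · left; rw [← map_mul, ← map_mul, ← map_mul, ← mul_inv_eq_iff_eq_mul.1 e]
  · right
    rw [← map_mul, ← map_mul, ← map_mul, ← map_mul, ← mul_inv_eq_iff_eq_mul.1 e]

/-- An element of order three has fixed space of dimension four. -/
theorem fixed_three {m : M22g} (hm : orderOf m = 3) {c : H} (hc : C.Lift c m)
    (h3 : (D.ρ c) ^ 3 = 1) : finrank (ZMod 2) (fixed (D.ρ c)) = 4 := by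
  obtain ⟨a, b, cb, -, -, oa, lb, hrel⟩ := C.exists_triple
  obtain ⟨d, hd⟩ := isConj_iff.1 (isConj_three hm oa)
  obtain ⟨cd, hcd⟩ := C.exists_lift d
  have hl : C.Lift (cd * c * cd⁻¹) a := hd ▸ Lift.conj C hcd hc
  have h3' : (D.ρ (cd * c * cd⁻¹)) ^ 3 = 1 := by
    rw [← map_pow, conj_pow, map_mul, map_mul, map_pow, h3, mul_one, ← map_mul, mul_inv_cancel,
      map_one]
  have h := D.triple_dim hl lb (hrel _ hl) h3' ⊤ (fun _ _ => Submodule.mem_top)
    (fun _ _ => Submodule.mem_top) fun _ _ => Submodule.mem_top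
  rw [finrank_top, finrank_fin_fun, top_inf_eq] at h
  have h1 := D.intertwine (d := cd) (t := c) (t' := cd * c * cd⁻¹) (by group)
  have h2 := D.intertwine (d := cd⁻¹) (t := cd * c * cd⁻¹) (t' := c) (by group)
  omega

/-- An involution has fixed space of dimension at most eight. -/
theorem fixed_two_le {m : M22g} (hm : orderOf m = 2) {c : H} (hc : C.Lift c m)
    (hz : C.IsZ (c * c)) : finrank (ZMod 2) (fixed (D.ρ c)) ≤ 8 := by
  obtain ⟨s, t, hs, ht, hst⟩ := exists_involution_pair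
  have sq1 : ∀ {u : M22g}, orderOf u = 2 → u * u = 1 := fun h => by
    rw [← pow_two, ← h, pow_orderOf_eq_one]
  obtain ⟨cs, ⟨_, -, -, zs⟩, ls⟩ := C.exists_two (Subgroup.mem_top s) (sq1 hs)
  obtain ⟨ct, ⟨_, -, -, zt⟩, lt⟩ := C.exists_two (Subgroup.mem_top t) (sq1 ht)
  have key : ∀ {u : M22g} {cu : H}, orderOf u = 2 → C.Lift cu u → C.IsZ (cu * cu) →
      finrank (ZMod 2) (fixed (D.ρ c)) ≤ finrank (ZMod 2) (fixed (D.ρ cu)) := by
    intro u cu hu lu zu
    obtain ⟨d, hd⟩ := isConj_iff.1 (isConj_involutions hm hu)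
    obtain ⟨cd, hcd⟩ := C.exists_lift d
    have hl : C.Lift (cd * c * cd⁻¹) u := hd ▸ Lift.conj C hcd hc
    have hz' : C.IsZ (cd * c * cd⁻¹ * (cd * c * cd⁻¹)) := by
      rw [show cd * c * cd⁻¹ * (cd * c * cd⁻¹) = cd * (c * c) * cd⁻¹ by group, IsZ.comm C hz,
        mul_inv_cancel_right]
      exact hz
    rw [D.ρ_two_eq hl lu hz' zu]
    exact D.intertwine (d := cd) (by group)
  have k1 := key hs ls zs
  have k2 := key ht lt zt
  have hl : C.Lift (cs * ct) (s * t) := Lift.mul C ls lt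
  have hle : fixed (D.ρ cs) ⊓ fixed (D.ρ ct) ≤ fixed (D.ρ (cs * ct)) := fun v hv =>
    mem_fixed.2 (by rw [map_mul, Module.End.mul_apply, mem_fixed.1 hv.2, mem_fixed.1 hv.1])
  have hsum := Submodule.finrank_sup_add_finrank_inf_eq (fixed (D.ρ cs)) (fixed (D.ρ ct))
  have hsup : finrank (ZMod 2) ↥(fixed (D.ρ cs) ⊔ fixed (D.ρ ct)) ≤ 12 :=
    (Submodule.finrank_le _).trans (finrank_fin_fun (ZMod 2)).le
  by_contra hlt
  push Not at hlt
  have hinf : 4 < finrank (ZMod 2) ↥(fixed (D.ρ cs) ⊓ fixed (D.ρ ct)) := by omega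
  obtain ⟨v, hv, hv0⟩ := Submodule.exists_mem_ne_zero_of_ne_bot
    (p := fixed (D.ρ cs) ⊓ fixed (D.ρ ct)) (fun e => by rw [e, finrank_bot] at hinf; omega)
  have hz3 := D.isZ_of_fix hl hv0 (mem_fixed.1 (hle hv)) (n := 3)
    (by rw [← hst, pow_orderOf_eq_one])
  have h3 : (D.ρ (cs * ct)) ^ 3 = 1 := by rw [← map_pow, D.ρ_isZ hz3]
  have := Submodule.finrank_mono hle
  rw [D.fixed_three hst hl h3] at this
  omega

/-- The fixed space meets every invariant non-zero subspace. -/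
theorem exists_fixB {B : Subgroup M22g} (hB : ∀ m ∈ B, m * m = 1)
    (U : Submodule (ZMod 2) Vec) (hU : ∀ c, C.Two B c → ∀ v ∈ U, D.ρ c v ∈ U) (hne : U ≠ ⊥) :
    ∃ v ∈ U, v ≠ 0 ∧ v ∈ D.fixB B := by
  obtain ⟨v, hv, hv0, hfix⟩ := exists_fixed (C.isPGroup_twoGroup B hB)
    (D.ρ.comp (C.twoGroup B hB).subtype) U (fun c w hw => hU c c.2 w hw) hne
  exact ⟨v, hv, hv0, D.mem_fixB.2 fun c hc => hfix ⟨c, hc⟩⟩

end Coord

end Cent

end CfsgLib.JFourEleven
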