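import Cfsg.Agent.JFourEleven.DoubleFacts
import Cfsg.Agent.JFourEleven.Core

/-!
# Vectors fixed by two conjugates of the hexad subgroup
-/

set_option autoImplicit false
set_option linter.unusedSectionVars false

namespace CfsgLib.JFourEleven

open Cfsg CfsgLib.JFourType Module CfsgLib.Mathieu

theorem hexadConj_mul (n r : M22g) :
    hexadConj (n * r) = (hexadConj r).map (MulAut.conj n).toMonoidHom := by
  rw [hexadConj, hexadConj, Subgroup.map_map]
  ext y
  simp [mul_assoc]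

theorem hexadConj_of_normalizer {n : M22g} (hn : n ∈ Subgroup.normalizer (hexadGroup : Set M22g)) :
    hexadConj n = hexadGroup := by
  rw [hexadConj_normalizer (g := 1) (by simpa using hn)]
  ext y
  simp [hexadConj]

/-- Different conjugates of the hexad subgroup meet trivially. -/
theorem inf_hexadConj {g : M22g} (h : hexadConj g ≠ hexadGroup) : hexadGroup ⊓ hexadConj g = ⊥ := by
  obtain ⟨n, hn, r, hr, e⟩ := (hexad_cases g).resolve_left h
  rw [Subgroup.eq_bot_iff_forall]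
  rintro x ⟨hx, hxg⟩
  rw [e, hexadConj_mul] at hxg
  obtain ⟨y, hy, rfl⟩ := hxg
  have h' : y ∈ hexadGroup ⊓ hexadConj r := by
    refine ⟨?_, hy⟩
    have := (Subgroup.mem_normalizer_iff.1 (inv_mem hn) _).1 hx
    simpa [mul_assoc] using this
  rw [inf_root hr, Subgroup.mem_bot] at h'
  rw [h', map_one]

namespace Cent

namespace Coord

variable {H : Type*} [Group H] [Finite H] {C : Cent H} (D : C.Coord)
include D

/-- A vector fixed by two different conjugates is conjugate to one fixed by a pentad subgroup. -/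
theorem exists_pentad_of_meet {g : M22g} (h : hexadConj g ≠ hexadGroup) {v : Vec} (hv0 : v ≠ 0)
    (hv : v ∈ D.W) (hvg : v ∈ D.fixB (hexadConj g)) :
    ∃ c : H, D.ρ c v ∈ D.fixB pentadGroup := by
  obtain ⟨n, hn, r, hr, e⟩ := (hexad_cases g).resolve_left h
  obtain ⟨cn, hcn⟩ := C.exists_lift n
  have hlN := C.lift_normalizer hcn
  set v' := D.ρ cn⁻¹ v with hv'
  have hW : v' ∈ D.W := D.W_lift (Lift.inv C hcn) (inv_mem hn) hv
  have hr' : v' ∈ D.fixB (hexadConj r) := by
    refine D.fixB_map (inv_mem hlN) (fun m hm => ?_) hvg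
    rw [inv_inv, hcn.2, e, hexadConj_mul]
    exact ⟨m, hm, rfl⟩
  have hv'0 : v' ≠ 0 := fun e' => hv0 (D.ρ_injective cn⁻¹ e')
  rcases hr with rc | rg
  · exfalso
    obtain ⟨O⟩ := nonempty_outer
    rw [eq_of_rep rc O.c0_rep] at hr'
    exact hv'0 ((Submodule.mem_bot (R := ZMod 2)).1 (D.inf_fixB_conj O ▸ ⟨hW, hr'⟩))
  obtain ⟨d, hd⟩ := exists_pentad_join rg
  let S : Subgroup M22g :=
    { carrier := {m | ∃ c, C.Lift c m ∧ D.ρ c v' = v'}
      one_mem' := ⟨1, ⟨one_mem _, by rw [map_one, map_one]⟩, by rw [map_one, Module.End.one_apply]⟩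
      mul_mem' := by
        rintro _ _ ⟨a, ha, ha'⟩ ⟨b, hb, hb'⟩
        exact ⟨a * b, Lift.mul C ha hb, by rw [map_mul, Module.End.mul_apply, hb', ha']⟩
      inv_mem' := by
        rintro _ ⟨a, ha, ha'⟩
        refine ⟨a⁻¹, Lift.inv C ha, ?_⟩
        conv_lhs => rw [← ha']
        rw [D.ρ_inv] }
  have hsq : ∀ {B : Subgroup M22g}, (∀ m ∈ B, m * m = 1) → v' ∈ D.fixB B → B ≤ S := by
    intro B hB hfix m hm
    obtain ⟨c, hc, hl⟩ := C.exists_two hm (hB m hm)
    exact ⟨c, hl, D.mem_fixB.1 hfix c hc⟩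
  have hrsq : ∀ m ∈ hexadConj r, m * m = 1 := by
    rintro _ ⟨y, hy, rfl⟩
    show MulAut.conj r y * MulAut.conj r y = 1
    rw [← map_mul, hexad_sq hy, map_one]
  have hle := hd.trans (sup_le (hsq (fun m hm => hexad_sq hm) hW) (hsq hrsq hr'))
  have hP : v' ∈ D.fixB (pentadGroup.map (MulAut.conj d).toMonoidHom) := by
    refine D.mem_fixB.2 fun c ⟨m, hm, hl, hz⟩ => ?_
    obtain ⟨c', hl', hfix'⟩ := hle hm
    have hm2 : m * m = 1 := by
      obtain ⟨y, hy, rfl⟩ := hm
      show MulAut.conj d y * MulAut.conj d y = 1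
      rw [← map_mul, pentad_sq hy, map_one]
    have hz' := D.isZ_of_fix hl' hv'0 hfix' (n := 2) (by rw [pow_two, hm2])
    rw [pow_two] at hz'
    rw [D.ρ_two_eq hl' hl hz' hz]
    exact hfix'
  obtain ⟨cd, hcd⟩ := C.exists_lift d
  refine ⟨cd⁻¹ * cn⁻¹, ?_⟩
  rw [map_mul, Module.End.mul_apply]
  refine D.fixB_map (inv_mem (C.lift_normalizer hcd)) (fun m hm => ?_) hP
  rw [inv_inv, hcd.2]
  exact ⟨m, hm, rfl⟩

end Coord

end Cent

end CfsgLib.JFourEleven
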