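import Mathlib.Data.Nat.Notation

/-!
# Tables for the outer automorphisms stabilising two disjoint hexad subgroups
-/

set_option autoImplicit false

namespace CfsgLib.JFourEleven.OuterData

/-- Moves `hexad` to a disjoint conjugate. -/
def c0 : ℕ := 564536042526263820885853039520624820036387088274066313216

/-- Four outer elements and an involution of `M22`. -/
def outs : List ℕ := [
  103645357421808570007650385417152281800757862044866071,
  2115041370257903771228602859092823041322663741880533271,
  2112812580529458300884103294748123684612326977041662231,
  295229279934423397784816356930654023981479955626852631,
  565115606772694657372178945085809941808879655573149319936]

/-- Their conjugates by the inverse of `c0`. -/
def outsBack : List ℕ := [
  1437866341568648546596715772507002165725555354625379351,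
  96910820675367654134115905035573820059950908843365911,
  1150523393537198870865839616218577435195659162627477271,
  1149757600866106666028102296032038563778805406210594071,
  565108856159430985066949724196029116526579553130503209216]

/-- Elements conjugating the first outer element to the third and fourth. -/
def movers : List ℕ := [
  565970140922616892930924174055872206009044401128095813376,
  564253573646474544658917201135263185534754551030079755776]

/-- Products of outer elements. -/
def prods : List ℕ := [
  564062016151103046665244426665180958570005683761624454656,
  564059755207803353863493577089561849545428836801928500736,
  566071159989738474669796571899701183712219621928691630336,
  564251333209891835702703764240499362395508405160163082496]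

/-- The conjugates of two elements of order three by the inverse of `c0`. -/
def triBack : List ℕ := [
  565395477011607493485728324593908519342344900552641610496,
  566066681869064218339541074628016628425485673082033280256]

/-- The conjugates of the members of `hexad` by the inverse of `c0`. -/
def hexadBack : List ℕ := [
  566073426779046459040877649791461066728553822781039575296,
  565017217083744845397570650037035164858929242907999342336,
  564534196638256461811029442735189847035148367803403342336,
  564635589776293858662525753337807145792446939372869255936,
  565303437564108862535160856994872651100889179280973629696,
  564247976157801760778451784487826982997457965453810992896,
  564826029285532163702651627643238706275808818251715186176,
  565398470246752986371987243112607492855895326305988774656,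
  565113746343841200621840286266865412435019108175359119616,
  564916572234679310222862126134967473912628407296483005696,
  565495373651248025856900270331494037345280738059679302656,
  564057910792781207499121355341603870349218804558706382336,
  564347872717806847578820402625315046547742156129732530176,
  565588161467244532974486987913286162139846205727700028416,
  565685064872050470791291577796342925443937851082788701696,
  565978019951915055672355951276609348276666695326739073536]

/-- A member of `hexad`. -/
def sixLeft : ℕ := 566073403349303473433165554569674339604577834305312850176

/-- A member of `hexad` whose conjugate by `c0` generates with `sixLeft` a cyclic subgroup of order six. -/
def sixRight : ℕ := 566073416496796568222536482362948045139693482587563622656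

/-- The square of the product. -/
def sixSq : ℕ := 565204271715362225893684531157610569450246246599621936896

/-- The conjugate of `sixRight` by `c0`. -/
def sixConj : ℕ := 565206151246430768814653806332921457433227702393821528576

end CfsgLib.JFourEleven.OuterData
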